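import Cfsg.Agent.H6.PresCore
import Cfsg.Agent.H6.StLift

/-! Elements generating a finite field as a ring. -/

set_option autoImplicit false

open Polynomial

namespace Cfsg.Agent.H6

variable {K : Type*} [Field K]

theorem aeval_surj_or [Fintype K] (β : K) : Function.Surjective (aeval β : ℤ[X] → K) ∨
    ∃ r d : ℕ, 2 ≤ r ∧ 2 ≤ d ∧ Fintype.card K = r ^ d ∧ β ^ r = β := by
  classical
  let S : Subfield K :=
    { (aeval β : ℤ[X] →ₐ[ℤ] K).range.toSubring with
      inv_mem' := fun x hx => by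
        by_cases h0 : x = 0
        · rw [h0, inv_zero]; exact Subring.zero_mem _
        have h1 : 1 < Fintype.card K := Fintype.one_lt_card
        have : x⁻¹ = x ^ (Fintype.card K - 2) := by
          refine (eq_inv_of_mul_eq_one_left ?_).symm
          rw [← pow_succ, show Fintype.card K - 2 + 1 = Fintype.card K - 1 by omega]
          exact FiniteField.pow_card_sub_one_eq_one x h0
        rw [this]; exact Subring.pow_mem _ hx _ }
  have hc : Fintype.card K = Fintype.card S ^ Module.finrank S K := Module.card_eq_pow_finrank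
  have hd : 0 < Module.finrank S K := Module.finrank_pos
  by_cases h1 : Module.finrank S K = 1
  · left
    intro t
    rw [h1, pow_one] at hc
    have : Function.Bijective S.subtype :=
      (Fintype.bijective_iff_injective_and_card _).mpr ⟨S.subtype.injective, hc.symm⟩
    obtain ⟨s, rfl⟩ := this.2 t
    exact s.2
  · right
    refine ⟨_, _, Fintype.one_lt_card, by omega, hc, ?_⟩
    have := congrArg Subtype.val (FiniteField.pow_card (⟨β, X, aeval_X β⟩ : S))
    simpa using this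

theorem card_le_of_pow_eq_one [Fintype K] {ζ : K} (hζ : ∀ t : K, t ≠ 0 → ∃ n : ℕ, ζ ^ n = t)
    {N : ℕ} (hN : 0 < N) (h : ζ ^ N = 1) : Fintype.card K ≤ N + 1 := by
  by_contra hlt
  obtain ⟨s, hs⟩ := exists_eval_ne_zero_of_lt_card (X * (X ^ N - C 1) : K[X])
    (mul_ne_zero X_ne_zero (X_pow_sub_C_ne_zero hN 1)) (by
      rw [natDegree_mul X_ne_zero (X_pow_sub_C_ne_zero hN 1), natDegree_X_pow_sub_C, natDegree_X]
      omega)
  by_cases h0 : s = 0
  · simp [h0] at hs
  · obtain ⟨n, rfl⟩ := hζ s h0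
    have : (ζ ^ n) ^ N = 1 := by rw [← pow_mul, mul_comm, pow_mul, h, one_pow]
    simp [this] at hs

theorem aeval_cube_surj [Fintype K] {ζ : K} (hζ0 : ζ ≠ 0)
    (hζ : ∀ t : K, t ≠ 0 → ∃ n : ℕ, ζ ^ n = t) (h4 : Fintype.card K ≠ 4) :
    Function.Surjective (aeval (ζ ^ 3) : ℤ[X] → K) := by
  refine (aeval_surj_or _).resolve_right ?_
  rintro ⟨r, d, hr, hd, hc, h⟩
  obtain ⟨r, rfl⟩ : ∃ s, r = s + 1 := ⟨r - 1, by omega⟩
  rw [pow_succ, mul_eq_right₀ (pow_ne_zero 3 hζ0), ← pow_mul] at h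
  have h1 := card_le_of_pow_eq_one hζ (by omega) h
  have h2 : (r + 1) ^ 2 ≤ (r + 1) ^ d := Nat.pow_le_pow_right (by omega) hd
  have : r = 1 := by nlinarith
  subst this
  omega

theorem ringChar_eq_two (h : (2 : K) = 0) : ringChar K = 2 := by
  have h1 : ringChar K ∣ 2 := (ringChar.spec K 2).mp (by simpa using h)
  exact ((Nat.dvd_prime Nat.prime_two).mp h1).resolve_left CharP.ringChar_ne_one

theorem ideal_quadratic {ζ : K} {m : ℤ[X]} (hm : m.Monic) (hd : m.natDegree = 2)
    (h0 : aeval ζ m = 0) (hi : ∀ a b : ℤ, (a : K) * ζ + b = 0 → (a : K) = 0) (P : ℤ[X])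
    (hP : aeval ζ P = 0) : ∃ a b : ℤ[X], P = a * (ringChar K : ℤ[X]) + b * m := by
  have h1 := modByMonic_add_div P m
  have h2 : (P %ₘ m).degree ≤ 1 := by
    have := degree_modByMonic_lt P hm
    rw [degree_eq_natDegree hm.ne_zero, hd] at this
    exact Order.le_of_lt_succ this
  have h3 := eq_X_add_C_of_degree_le_one h2
  have h4 := congrArg (aeval ζ) h1
  rw [map_add, map_mul, h0, hP, h3] at h4
  simp only [map_add, map_mul, aeval_C, aeval_X, zero_mul, add_zero, eq_intCast, map_intCast] at h4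
  have h5 := hi _ _ h4
  rw [h5, zero_mul, zero_add] at h4
  obtain ⟨a, ha⟩ := (CharP.intCast_eq_zero_iff K (ringChar K) _).mp h5
  obtain ⟨b, hb⟩ := (CharP.intCast_eq_zero_iff K (ringChar K) _).mp h4
  refine ⟨C a * X + C b, P /ₘ m, ?_⟩
  conv_lhs => rw [← h1, h3, ha, hb]
  simp only [map_mul, map_natCast]
  ring

theorem field_four [Fintype K] (h4 : Fintype.card K = 4) {ζ : K} (hζ0 : ζ ≠ 0)
    (hζ : ∀ t : K, t ≠ 0 → ∃ n : ℕ, ζ ^ n = t) : (2 : K) = 0 ∧ ζ ^ 2 + ζ + 1 = 0 ∧
      ∀ P : ℤ[X], aeval ζ P = 0 →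
        ∃ a b : ℤ[X], P = a * (ringChar K : ℤ[X]) + b * (X ^ 2 + X + 1) := by
  have h2 : (2 : K) = 0 := by
    have := FiniteField.cast_card_eq_zero K
    rw [h4] at this
    exact pow_eq_zero_iff (two_ne_zero) |>.mp (show (2 : K) ^ 2 = 0 by exact_mod_cast this)
  have h1 : ζ ≠ 1 := fun h => by
    have := card_le_of_pow_eq_one hζ one_pos (by rw [h, one_pow])
    omega
  have h3 : ζ ^ 2 + ζ + 1 = 0 := by
    have := FiniteField.pow_card_sub_one_eq_one ζ hζ0
    rw [h4] at this
    refine mul_left_cancel₀ (sub_ne_zero.mpr h1) ?_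
    linear_combination this
  refine ⟨h2, h3, ideal_quadratic (by monicity!) (by compute_degree!) (by simpa using h3)
    fun a b h => ?_⟩
  have : ∀ a : ℤ, (a : K) = 0 ∨ (a : K) = 1 := fun a => by
    obtain ⟨k, rfl | rfl⟩ := Int.even_or_odd' a <;> simp [h2]
  rcases this a with ha | ha
  · exact ha
  rcases this b with hb | hb
  · simp [ha, hb, hζ0] at h
  · rw [ha, hb] at h
    exact absurd (by linear_combination h - h2) h1

end Cfsg.Agent.H6
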