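import Cfsg.Agent.H6.AY1
import Cfsg.Agent.H4.PT

/-! The groups `E6`, `E7`, `E8` over every finite field. -/

set_option autoImplicit false

namespace Cfsg.Agent.H6.AY

open Cfsg.Lie Cfsg.Agent.H8 Cfsg.Agent.H7 Cfsg.Agent.H9.AH

variable {F : Type*} [Field F] [Fintype F]

theorem good_E7_two (hq : Fintype.card F = 2) : Good 2 (chevE7.group F) :=
  haveI := char_two hq
  haveI := finite_group (D := chevE7) (K := F)
  good_E7_two_of hq (H4.PT.hpl_E7 (fun t => by
    have h := sq_eq hq t
    rw [sq, ← sub_eq_zero, ← mul_sub_one, mul_eq_zero, sub_eq_zero] at h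
    exact h) (sit_un (sq_eq hq) tablesE7 sE7))

theorem two_or : Fintype.card F = 2 ∨ 3 ≤ Fintype.card F := by
  have := Fintype.one_lt_card (α := F)
  omega

theorem noCP_E6_all : NoCP (chevE6.group F) := two_or.elim noCP_E6_two noCP_E6

theorem noCP_E8_all : NoCP (chevE8.group F) := two_or.elim noCP_E8_two noCP_E8

theorem good_E7_all (p : ℕ) [Fact p.Prime] [CharP F p] : Good p (chevE7.group F) :=
  two_or.elim (fun h => by
    have := char_two h
    rw [CharP.eq F ‹CharP F p› this]
    exact good_E7_two h) fun h => (noCP_E7 h).good p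

end Cfsg.Agent.H6.AY
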