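import Cfsg.Agent.H6.CKer2

/-! The rank one subgroups of a Steinberg system. -/

set_option autoImplicit false

namespace Cfsg.Agent.H6

open OF Subgroup

variable {K V I G : Type*} [Field K] [AddCommGroup V] [Module K V] [Group G]

namespace Frame

variable {O : OF K V} (F : Frame O I)

open Classical in
/-- The permutation exchanging the two members of a hyperbolic pair. -/
noncomputable def flip (b : I) : Equiv.Perm I := Equiv.swap b (F.n b)

open Classical in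
theorem flip_a (b : I) : F.flip b b = F.n b := Equiv.swap_apply_left _ _

open Classical in
theorem flip_n (b : I) : F.flip b (F.n b) = b := Equiv.swap_apply_right _ _

open Classical in
theorem flip_flip (b : I) : F.flip b * F.flip b = 1 := Equiv.swap_mul_self _ _

open Classical in
theorem flip_inv (b : I) : (F.flip b)⁻¹ = F.flip b := Equiv.swap_inv _ _

theorem eq_one_of_smul {c : K} {i : I} (h : c • F.e i = F.e i) : c = 1 :=
  smul_left_injective K (F.e_ne i) (h.trans (one_smul K _).symm)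

variable {F}

open Classical in
theorem D.flip {b k : I} (h : F.D b k) : F.flip b k = k := Equiv.swap_apply_of_ne_of_ne h.1 h.2

theorem cases3 (b k : I) : k = b ∨ k = F.n b ∨ F.D b k := by simp only [D]; tauto

theorem flip_comm (b i : I) : F.flip b (F.n i) = F.n (F.flip b i) := by
  rcases cases3 (F := F) b i with rfl | rfl | h
  · rw [flip_a, flip_n, F.nn]
  · rw [F.nn, flip_a, flip_n]
  · rw [h.flip, h.nr.flip]

theorem pair_symm (b : I) : ∀ i ∈ ({b, F.n b} : Set I), F.n i ∈ ({b, F.n b} : Set I) := by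
  rintro i (rfl | rfl) <;> simp [F.nn]

theorem D.notMem {a b : I} (h : F.D a b) : a ∉ ({b, F.n b} : Set I) := by
  rintro (e | e)
  exacts [h.1 e.symm, h.symm.2 e]

/-- The anisotropic kernel. -/
def V0 (F : Frame O I) (u : V) : Prop := ∀ i, O.B u (F.e i) = 0

theorem V0.ok {u : V} (h : F.V0 u) {α : K} (hα : O.Λ u α) (k : I) : F.Ok k u α :=
  ⟨⟨F.sing k, h k, hα⟩, h _⟩

theorem V0.xT {u : V} (h : F.V0 u) {i j : I} (hij : F.D i j) (s : K) : F.xT i j s • u = u := by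
  rw [Frame.xT, (hij.ok_xv s).T_smul, h i, xv, map_smulₛₗ, h]; simp

end Frame

namespace CSt

open Frame

variable {O : OF K V} {F : Frame O I} {π : G →* O.U} {S : CSt F π} {T : Set I} {a b : I}

theorem h_V0 (hab : F.D a b) (t : K) {u : V} (hu : F.V0 u) : π (S.h a b t) • u = u := by
  simp only [CSt.h, stH, stW, map_mul, mul_smul, S.π_x hab, S.π_x hab.symm, hu.xT hab,
    hu.xT hab.symm]

theorem Y_img {y : G} (hy : y ∈ S.RR b ∅) : ∃ u α, F.V0 u ∧ O.Λ u α ∧ π y = O.T (F.e b) u α := by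
  obtain ⟨u, α, h1, h2⟩ := S.img hy.1
  refine ⟨u, α, fun i => ?_, h1.mem, h2⟩
  by_cases e : i = F.n b
  · rw [e]; exact h1.perp'
  · exact (h1.fix_iff e).mp (h2 ▸ hy.2 i (by simp) e)

theorem Y_surj (S : CSt F π) (b : I) {u : V} (hu : F.V0 u) {α : K} (hα : O.Λ u α) :
    ∃ y ∈ S.RR b ∅, π y = O.T (F.e b) u α := by
  obtain ⟨y, hy, hy'⟩ := S.surj (hu.ok hα b)
  exact ⟨y, ⟨hy, fun i _ hi => hy' ▸ ((hu.ok hα b).fix_iff hi).mpr (hu i)⟩, hy'⟩

theorem Y_img' {y : G} (hy : y ∈ S.RR b ∅) (h1 : y ≠ 1) :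
    ∃ u α, α ≠ 0 ∧ F.V0 u ∧ O.Λ u α ∧ π y = O.T (F.e b) u α := by
  obtain ⟨u, α, h2, h3, h4⟩ := Y_img hy
  refine ⟨u, α, ?_, h2, h3, h4⟩
  rintro rfl
  obtain rfl := F.aniso u h2 h3
  exact h1 (S.inj hy.1 (h4.trans (T_zero _)))

theorem Y_L {k : I} (hk : k ∈ T) {y : G} (hy : y ∈ S.RR k ∅) : y ∈ S.L T :=
  mem_L hk (RR_mono hy fun _ h => h.elim)

theorem Y_of_pair {k : I} (hk : k ∈ ({b, F.n b} : Set I)) {y : G} (hy : y ∈ S.RR k {b, F.n b}) :
    y ∈ S.RR k ∅ :=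
  RR_mono hy fun i hi hd => by
    rcases hk with rfl | rfl <;> rcases hi with rfl | rfl
    exacts [hd.1 rfl, hd.2 rfl, hd.2 (F.nn _).symm, hd.1 rfl]

/-- The Weyl element attached to an element of a rank one radical. -/
structure IsN (S : CSt F π) (b : I) (y n : G) : Prop where
  mem : y ∈ S.RR b ∅
  eq : ∃ y' ∈ S.RR (F.n b) ∅, ∃ y'' ∈ S.RR (F.n b) ∅, n = y' * y * y''
  lin : ∃ c : K, π n • F.e b = c • F.e (F.n b)
  lin' : ∃ c : K, π n • F.e (F.n b) = c • F.e b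

theorem exists_isN {y : G} (hy : y ∈ S.RR b ∅) (h1 : y ≠ 1) : ∃ n, S.IsN b y n := by
  obtain ⟨u, α, hα, h2, h3, h4⟩ := Y_img' hy h1
  have h5 := (h2.ok h3 b).T_en
  obtain ⟨v, β, h6, h7, h8, h9⟩ := exists_T_smul_eq (x := π y • F.e (F.n b)) (F.sing (F.n b))
    (F.sing b) (by rw [B_n']; exact F.ε_ne _) (by simpa using F.sing _)
    (by simp [h4, h5, F.B_ee, h2 _, B_n', F.ε_ne, hα])
  have hv : F.V0 v := fun i => by
    rcases cases3 (F := F) b i with rfl | rfl | h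
    · exact h7
    · exact h6.perp
    · exact h8 _ (by simp [h4, h5, h2 i, h.B, h.nl.B]) h.nl.B h.B
  obtain ⟨c, hc, hc'⟩ := S.Y_surj (F.n b) hv h6.mem
  have hn : F.n b ∈ ({b, F.n b} : Set I) := by simp
  obtain ⟨r, hr, d, h10, h11⟩ := exists_decomp (pair_symm b) (Y_L (by simp) hy) hn hn (Y_L hn hc)
    (by rw [map_mul, mul_smul, hc', h9, F.nn])
  rw [F.nn] at h10 h11
  exact ⟨_, hy, ⟨c, hc, r⁻¹, inv_mem (Y_of_pair hn hr), rfl⟩, ⟨_, h11⟩, _, h10⟩

namespace IsN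

variable {y n n' : G}

theorem ne_one (h : S.IsN b y n) : y ≠ 1 := by
  rintro rfl
  obtain ⟨y', h1, y'', h2, rfl⟩ := h.eq
  obtain ⟨c, hc⟩ := h.lin'
  have := congrArg (fun x => O.B x (F.e b)) hc
  simp [mul_smul, S.fix_self h1.1, S.fix_self h2.1, B_n, F.B_ee, F.ε_ne] at this

theorem unique (h : S.IsN b y n) (h' : S.IsN b y n') : n = n' := by
  obtain ⟨c, hc⟩ := h.lin
  obtain ⟨d, hd⟩ := h.lin'
  obtain ⟨c', hc'⟩ := h'.lin
  obtain ⟨d', hd'⟩ := h'.lin'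
  obtain ⟨h1, h2⟩ := line_n hc (by rwa [F.nn])
  obtain ⟨h3, h4⟩ := line_n hc' (by rwa [F.nn])
  obtain ⟨y1, e1, y2, e2, rfl⟩ := h.eq
  obtain ⟨y3, e3, y4, e4, rfl⟩ := h'.eq
  have h5 : y1 * y3⁻¹ = 1 := S.eq_one_of_line (mul_mem e1.1 (inv_mem e3.1)) (c := d'⁻¹ * d) (by
    simp only [map_mul, mul_smul, S.fix_self e2.1, S.fix_self e4.1] at hd hd'
    rw [F.nn, mul_smul, ← hd, map_mul, mul_smul, ← U_smul, map_inv, ← inv_smul_smul (π y3)
      (π y • F.e (F.n b)), hd']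
    simp [h4])
  obtain rfl := mul_inv_eq_one.mp h5
  have h6 : y4⁻¹ * y2 = 1 := S.eq_one_of_line (mul_mem (inv_mem e4.1) e2.1) (c := c * c'⁻¹) (by
    rw [show y4⁻¹ * y2 = (y1 * y * y4)⁻¹ * (y1 * y * y2) by group, map_mul, mul_smul, F.nn, hc,
      U_smul, map_inv, inv_smul_of_line h3 hc', mul_smul])
  rw [inv_mul_eq_one.mp h6]

theorem inv (h : S.IsN b y n) : S.IsN b y⁻¹ n⁻¹ := by
  obtain ⟨c, hc⟩ := h.lin
  obtain ⟨d, hd⟩ := h.lin'
  obtain ⟨h1, h2⟩ := line_n hc (by rwa [F.nn])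
  obtain ⟨y1, e1, y2, e2, e⟩ := h.eq
  exact ⟨inv_mem h.mem, ⟨_, inv_mem e2, _, inv_mem e1, by rw [e]; group⟩,
    ⟨_, map_inv π n ▸ inv_smul_of_line h2 hd⟩, _, map_inv π n ▸ inv_smul_of_line h1 hc⟩

theorem conj (h : S.IsN b y n) {g : G} (M : S.Mon g 1) : S.IsN b (g * y * g⁻¹) (g * n * g⁻¹) := by
  obtain ⟨c, hc⟩ := h.lin
  obtain ⟨d, hd⟩ := h.lin'
  obtain ⟨y1, e1, y2, e2, e⟩ := h.eq
  obtain ⟨c1, h1⟩ := M.lin b
  obtain ⟨c2, h2⟩ := M.lin (F.n b)
  obtain ⟨c3, h3⟩ := M.inv.lin b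
  obtain ⟨c4, h4⟩ := M.inv.lin (F.n b)
  simp only [inv_one, Equiv.Perm.one_apply] at h1 h2 h3 h4
  exact ⟨M.RR h.mem fun _ h _ => h, ⟨_, M.RR e1 fun _ h _ => h, _, M.RR e2 fun _ h _ => h,
    by rw [e]; group⟩, ⟨c3 * c * c2, by simp only [map_mul, mul_smul, h3, U_smul, hc, h2]⟩,
    c4 * d * c1, by simp only [map_mul, mul_smul, h4, U_smul, hd, h1]⟩

theorem mem_L (h : S.IsN b y n) : n ∈ S.L {b, F.n b} := by
  obtain ⟨y1, e1, y2, e2, rfl⟩ := h.eq
  exact mul_mem (mul_mem (Y_L (by simp) e1) (Y_L (by simp) h.mem)) (Y_L (by simp) e2)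

theorem mon (h : S.IsN b y n) (hab : F.D a b) : S.Mon n (F.flip b) := by
  obtain ⟨c, hc⟩ := h.lin
  obtain ⟨d, hd⟩ := h.lin'
  have hT := pair_symm (F := F) b
  have fx : ∀ {i}, F.D b i → π n • F.e i = F.e i := fun hi => L_fix hT h.mem_L hi.symm.notMem
  have key : ∀ {j k : I}, j ∈ ({b, F.n b} : Set I) → k ∈ ({b, F.n b} : Set I) → ∀ {c d : K},
      π n • F.e j = c • F.e k → π n • F.e (F.n j) = d • F.e (F.n k) → ∀ y ∈ S.R j,
      n * y * n⁻¹ ∈ S.R k := fun {j k} hj hk c d h1 h2 y hy => by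
    have haj := D_of_mem hT hab.notMem hj
    have hak := D_of_mem hT hab.notMem hk
    have e1 := (L_conj_x hT h.mem_L hab.notMem hj hk h1 h2).2
    have e2 := (L_conj_x hT h.mem_L hab.nl.notMem hj hk h1 h2).2
    have e3 : ∀ s, n * S.x j a s * n⁻¹ ∈ S.R k := fun s => e1 s ▸ S.x_mem hak.symm _
    refine RR_le_of (H := (S.R k).comap (MulAut.conj n).toMonoidHom) haj.symm e3
      (fun s => show n * _ * n⁻¹ ∈ _ from e2 s ▸ S.x_mem hak.symm.nr _) (fun z hz z1 z2 => ?_)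
      (mem_RR_univ hy)
    obtain ⟨hc, hd⟩ := line_n h1 h2
    have := S.conj hak (L_conj hT h.mem_L hab.notMem hz.1)
      (by rw [map_mul, map_mul, mul_smul, mul_smul, map_inv, inv_smul_of_line hc h1, U_smul, z1,
        U_smul, h1, inv_smul_smul₀ hc])
      (by rw [map_mul, map_mul, mul_smul, mul_smul, map_inv, inv_smul_of_line hd h2, U_smul, z2,
        U_smul, h2, inv_smul_smul₀ hd]) (e3 (-1))
    change n * _ * n⁻¹ ∈ S.R k
    convert this using 1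
    group
  refine ⟨fun i => ?_, flip_comm b, fun k y hy => ?_⟩
  · rcases cases3 (F := F) b i with rfl | rfl | hi
    · exact ⟨c, by rwa [flip_a]⟩
    · exact ⟨d, by rwa [flip_n]⟩
    · exact ⟨1, by rw [hi.flip, fx hi, one_smul]⟩
  · rcases cases3 (F := F) b k with rfl | rfl | hk
    · rw [flip_a]; exact key (by simp) (by simp) hc (by rwa [F.nn]) y hy
    · rw [flip_n]; exact key (by simp) (by simp) hd (by rwa [F.nn]) y hy
    · rw [hk.flip]; exact L_conj hT h.mem_L hk.symm.notMem hy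

end IsN

theorem mem_of_line (hM : ∀ y n, S.IsN b y n → S.Mon n (F.flip b)) {H : Subgroup G}
    (hH : ∀ y n y' n', S.IsN b y n → S.IsN b y' n' → n * n' ∈ H) {g : G}
    (hg : g ∈ S.L {b, F.n b}) {c d : K} (h1 : π g • F.e b = c • F.e b)
    (h2 : π g • F.e (F.n b) = d • F.e (F.n b)) : g ∈ H := by
  let A : G → Prop := fun m => S.Mon m 1 ∧ m ∈ H
  let B : G → Prop := fun m => S.Mon m (F.flip b) ∧ ∃ y n, S.IsN b y n ∧ n * m ∈ H
  have AB : ∀ y n m, S.IsN b y n → A m → B (n * m) := fun y n m h hm =>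
    ⟨by simpa using (hM y n h).mul hm.1, _, _, h.inv, by simpa using hm.2⟩
  have AB' : ∀ y n m, S.IsN b y n → A m → B (m * n) := fun y n m h hm => by
    simpa using AB _ _ m (h.conj hm.1) hm
  have BA : ∀ y n m, S.IsN b y n → B m → A (n * m) := fun y n m h ⟨h1, y', n', h2, h3⟩ =>
    ⟨F.flip_flip b ▸ (hM y n h).mul h1, by
      simpa [mul_assoc] using mul_mem (hH _ _ _ _ h h2.inv) h3⟩
  let Z : G → Prop := fun g => ∃ y1 ∈ S.RR (F.n b) ∅, ∃ m, (A m ∨ B m) ∧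
    ∃ y2 ∈ S.RR (F.n b) ∅, g = y1 * m * y2
  have Z1 : ∀ y ∈ S.RR (F.n b) ∅, ∀ g, Z g → Z (y * g) := by
    rintro y hy _ ⟨y1, h1, m, hm, y2, h2, rfl⟩
    exact ⟨_, mul_mem hy h1, m, hm, y2, h2, by group⟩
  have Z2 : ∀ y n, S.IsN b y n → ∀ g, Z g → Z (n * g) := by
    rintro y n h _ ⟨y1, h1, m, hm, y2, h2, rfl⟩
    have h3 := (hM y n h).RR h1 (T' := ∅) fun _ h _ => h
    rw [F.flip_n] at h3
    rcases hm with hm | hm
    · have h4 := AB y n m h hm
      have h5 := h4.1.inv.RR h3 (T' := ∅) fun _ h _ => h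
      rw [F.flip_inv, F.flip_a] at h5
      exact ⟨1, one_mem _, _, Or.inr h4, _, mul_mem h5 h2, by group⟩
    have h4 := BA y n m h hm
    by_cases h0 : n * y1 * n⁻¹ = 1
    · exact ⟨1, one_mem _, _, Or.inl h4, y2, h2, by rw [← h0]; group⟩
    obtain ⟨n', h5⟩ := exists_isN h3 h0
    obtain ⟨y3, h6, y4, h7, h8⟩ := h5.eq
    exact ⟨_, inv_mem h6, n' * (n * m), Or.inr (AB _ _ _ h5 h4), _,
      mul_mem (h4.1.inv.RR (inv_mem h7) fun _ h _ => h) h2, by rw [h8]; group⟩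
  have Z3 : ∀ k ∈ ({b, F.n b} : Set I), ∀ y ∈ S.RR k {b, F.n b}, ∀ g, Z g → Z (y * g) := by
    rintro k (rfl | rfl) y hy g hg
    · by_cases h0 : y = 1
      · rwa [h0, one_mul]
      obtain ⟨n, h⟩ := exists_isN (Y_of_pair (by simp) hy) h0
      obtain ⟨y1, h1, y2, h2, h3⟩ := h.eq
      simpa [h3, mul_assoc] using Z1 _ (inv_mem h1) _ (Z2 _ _ h _ (Z1 _ (inv_mem h2) _ hg))
    · exact Z1 y (Y_of_pair (by simp) hy) g hg
  have : Z g := by
    clear h1 h2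
    induction hg using closure_induction_left with
    | one => exact ⟨1, one_mem _, 1, Or.inl ⟨Mon.one, one_mem _⟩, 1, one_mem _, by simp⟩
    | mul_left s hs g _ ih => obtain ⟨k, hk, hs⟩ := hs; exact Z3 k hk s hs g ih
    | inv_mul_cancel s hs g _ ih => obtain ⟨k, hk, hs⟩ := hs; exact Z3 k hk _ (inv_mem hs) g ih
  obtain ⟨y1, e1, m, hm | hm, y2, e2, rfl⟩ := this
  · have e3 := mul_mem e1 (hm.1.RR e2 (T' := ∅) fun _ h _ => h)
    obtain ⟨c', hc', e4⟩ := hm.1.lin' b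
    have e5 : y1 * m * y2 = y1 * (m * y2 * m⁻¹) * m := by group
    rw [e5] at h1 ⊢
    rw [S.eq_one_of_line e3.1 (c := c'⁻¹ * c) (by
      rw [map_mul, mul_smul, e4, U_smul] at h1
      rw [F.nn, mul_smul, ← h1, inv_smul_smul₀ hc']; rfl), one_mul]
    exact hm.2
  · obtain ⟨c', hc', e4⟩ := hm.1.lin' (F.n b)
    have := congrArg (fun x => O.B x (F.e (F.n b))) h2
    simp only [map_mul, mul_smul, S.fix_self e2.1, e4, F.flip_n, U_smul, map_smul,
      LinearMap.smul_apply, F.B_ee] at this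
    rw [B_U_left, ← map_inv, S.fix_self (inv_mem e1.1)] at this
    simp [hc', B_n', F.ε_ne] at this

variable (S) in
/-- The torus elements of a rank one subgroup coming from the short roots. -/
noncomputable def k (a b : I) (t : K) : G := S.h a b t * (S.h a (F.n b) t)⁻¹

section Fin

variable [Finite K] (hN : F.ND) (hab : F.D a b)
include hN hab

theorem h_comm {c : I} (hac : F.D a c) {s t : K} (hs : s ≠ 0) (ht : t ≠ 0) :
    Commute (S.h a b s) (S.h a c t) :=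
  mul_inv_eq_iff_eq_mul.mp ((mon_h hN hab hs).h hN hac ht)

theorem h_mul' {s t : K} (hs : s ≠ 0) (ht : t ≠ 0) : S.h a b (s * t) = S.h a b s * S.h a b t :=
  (isR1 hN hab).h_mul hs ht

theorem k_mul {s t : K} (hs : s ≠ 0) (ht : t ≠ 0) : S.k a b (s * t) = S.k a b s * S.k a b t := by
  rw [k, k, k, h_mul' hN hab hs ht, mul_comm s, h_mul' hN hab.nr ht hs, mul_inv_rev, mul_assoc,
    mul_assoc, ← mul_assoc (S.h a b t), (h_comm hN hab hab.nr ht hs).inv_right.eq, mul_assoc]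

omit [Finite K] in
theorem k_one : S.k a b 1 = 1 := by
  rw [k, h, h, (isR1 hN hab).h_one, (isR1 hN hab.nr).h_one]; simp

/-- The subgroup of the elements `k t`. -/
def kSub : Subgroup G where
  carrier := {g | ∃ t, t ≠ 0 ∧ g = S.k a b t}
  one_mem' := ⟨1, one_ne_zero, (k_one hN hab).symm⟩
  mul_mem' := by
    rintro _ _ ⟨s, hs, rfl⟩ ⟨t, ht, rfl⟩
    exact ⟨_, mul_ne_zero hs ht, (k_mul hN hab hs ht).symm⟩
  inv_mem' := by
    rintro _ ⟨s, hs, rfl⟩
    refine ⟨_, inv_ne_zero hs, inv_eq_of_mul_eq_one_right ?_⟩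
    rw [← k_mul hN hab hs (inv_ne_zero hs), mul_inv_cancel₀ hs, k_one hN hab]

omit hN [Finite K] in
theorem k_b {t : K} (ht : t ≠ 0) : π (S.k a b t) • F.e b = (t * O.σ t)⁻¹ • F.e b := by
  have := h_nb (S := S) hab.nr ht
  rw [F.nn] at this
  rw [k, map_mul, mul_smul, map_inv, inv_smul_of_line (O.σ_ne ht) this, U_smul, h_b hab ht,
    smul_smul, mul_inv, mul_comm]

theorem IsN.k_eq {y n : G} (h : S.IsN b y n) {t : K} (ht : t ≠ 0) :
    S.h a b t * n * (S.h a b t)⁻¹ * n⁻¹ = S.k a b t := by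
  have := (h.mon hab).h hN hab ht
  rw [hab.symm.flip, F.flip_a] at this
  rw [k, ← this]; group

omit [Finite K] in
theorem h_conj_Y {y y' : G} (hy : y ∈ S.RR b ∅) (hy' : y' ∈ S.RR b ∅) {u : V} (hu : F.V0 u)
    {α : K} (hα : O.Λ u α) {t : K} (ht : t ≠ 0) (h1 : π y = O.T (F.e b) u α)
    (h2 : π y' = O.T (F.e b) (O.σ t⁻¹ • u) (t⁻¹ * O.σ t⁻¹ * α)) :
    S.h a b t * y * (S.h a b t)⁻¹ = y' :=
  S.ext ((mon_h hN hab ht).conj _ _ hy.1) hy'.1 (by
    rw [map_mul, map_mul, map_inv, h1, h2, (hu.ok hα b).conj_T' (inv_ne_zero ht) (h_b hab ht),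
      h_V0 hab t hu])

theorem k_eq_one {α : K} (h0 : α ≠ 0) (hα : O.Λ 0 α) {t : K} (ht : t * O.σ t = 1) :
    S.k a b t = 1 := by
  have hu : F.V0 0 := fun i => by simp
  have ht0 : t ≠ 0 := left_ne_zero_of_mul_eq_one ht
  obtain ⟨y, hy, hy'⟩ := S.Y_surj b hu hα
  obtain ⟨n, hn⟩ := exists_isN hy fun h => h0 ((hu.ok hα b).eq_of_line (c := 1)
    (by rw [← hy', h]; simp)).2
  have := hn.conj (mon_h hN hab ht0)
  rw [h_conj_Y hN hab hy hy hu hα ht0 hy' (by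
    rw [hy', map_inv₀, ← mul_inv, ht]; simp)] at this
  rw [← hn.k_eq hN hab ht0, this.unique hn, mul_inv_cancel]

variable [Finite I]

theorem mem_L_pair {u : V} (hu : F.V0 u) {α : K} (h0 : α ≠ 0) (hα : O.Λ u α) {g : G}
    (hg : g ∈ S.L Set.univ) (h : ∀ i, F.D b i → π g • F.e i = F.e i) : g ∈ S.L {b, F.n b} := by
  obtain ⟨y, hy, hy'⟩ := S.Y_surj b hu hα
  obtain ⟨n, hn⟩ := exists_isN hy fun h => h0 ((hu.ok hα b).eq_of_line (c := 1)
    (by rw [← hy', h]; simp)).2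
  obtain ⟨c, hc⟩ := hn.lin
  obtain ⟨d, hd⟩ := hn.lin'
  exact descent hN (pair_symm b) (by simp) hn.mem_L hc hd hg fun i hi => h i (by simpa [D] using hi)

theorem ker_orbit {u₀ : V} (hu₀ : F.V0 u₀) {α₀ : K} (h0 : α₀ ≠ 0) (hα₀ : O.Λ u₀ α₀)
    (ho : ∀ u α, F.V0 u → O.Λ u α → α ≠ 0 → ∃ t, u = O.σ t • u₀ ∧ α = t * O.σ t * α₀) {g : G}
    (hg : g ∈ S.L Set.univ) (h : ∀ i, π g • F.e i = F.e i) :
    ∃ t, t * O.σ t = 1 ∧ g = S.k a b t := by
  obtain ⟨t, ht, rfl⟩ : g ∈ kSub (S := S) hN hab := by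
    refine mem_of_line (fun y n h => h.mon hab) (fun y n y' n' h1 h2 => ?_)
      (mem_L_pair hN hab hu₀ h0 hα₀ hg fun i _ => h i) (c := 1) (d := 1) (by simp [h]) (by simp [h])
    obtain ⟨u, α, e1, e2, e3, e4⟩ := Y_img' h1.mem h1.ne_one
    obtain ⟨u', α', e5, e6, e7, e8⟩ := Y_img' h2.inv.mem h2.inv.ne_one
    obtain ⟨s, rfl, rfl⟩ := ho u α e2 e3 e1
    obtain ⟨s', rfl, rfl⟩ := ho u' α' e6 e7 e5
    have hs : s ≠ 0 := by rintro rfl; simp at e1
    have hs' : s' ≠ 0 := by rintro rfl; simp at e5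
    have ht := div_ne_zero hs' hs
    have := h2.inv.conj (mon_h hN hab ht)
    rw [h_conj_Y hN hab h2.inv.mem h1.mem e6 e7 ht e8 (by
      have := O.σ_ne hs'
      rw [e4, smul_smul]
      simp only [inv_div, map_div₀]
      congr 1
      · congr 1; field_simp
      · field_simp)] at this
    exact ⟨_, ht, by rw [← h2.inv.k_eq hN hab ht, this.unique h1, inv_inv]⟩
  refine ⟨t, ?_, rfl⟩
  have := h b
  rw [k_b hab ht] at this
  exact inv_eq_one.mp (F.eq_one_of_smul this)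

theorem ker_D (hD : ∀ u α, F.V0 u → O.Λ u α → α = 0) {g : G}
    (hg : g ∈ S.L Set.univ) (h : ∀ i, π g • F.e i = F.e i) :
    ∃ t, t * O.σ t = 1 ∧ g = S.k a b t := by
  have hT := pair_symm (F := F) b
  have h1 : g ∈ S.L (insert a (insert (F.n a) {b, F.n b})) := by
    refine descent hN (b := b) (fun i hi => ?_) (by simp)
      (mul_mem (A_le_L hab.symm (by simp) (by simp) (w_mem_A 1))
        (A_le_L hab.symm.nr (by simp) (by simp) (w_mem_A 1))) (c := ?_) (d := ?_) ?_ ?_ hg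
        fun i _ => h i
    · rcases hi with rfl | rfl | rfl | rfl <;> simp [F.nn]
    rotate_left 2
    · rw [map_mul, mul_smul, w_a hab.symm.nr one_ne_zero, U_smul, w_nb hab.symm one_ne_zero,
        smul_smul]
    · rw [map_mul, mul_smul, w_na hab.symm.nr one_ne_zero, U_smul, F.nn, w_b hab.symm one_ne_zero,
        smul_smul]
  have h2 := mem_DD hT hab.notMem hN (b := b) (by simp) h1 (c := 1) (d := 1) (by simp [h])
    (by simp [h])
  have h3 : ∃ s t, s ≠ 0 ∧ t ≠ 0 ∧ g = S.h a b s * S.k a b t := by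
    clear h1 h hg
    have e1 := (isR1 (S := S) hN hab).h_one
    have e2 : ∀ {s t}, s ≠ 0 → t ≠ 0 → Commute (S.h a b s) (S.k a b t) := fun hs ht =>
      (h_comm hN hab hab hs ht).mul_right (h_comm hN hab hab.nr hs ht).inv_right
    induction h2 using closure_induction with
    | mem g hg =>
      rcases hg with hg | ⟨j, rfl | rfl, t, ht, rfl⟩
      · have : S.L {b, F.n b} ≤ ⊥ := (closure_le _).mpr fun y ⟨k, hk, hy⟩ => by_contra fun h => by
          obtain ⟨u, α, e1, e2, e3, -⟩ := Y_img' (Y_of_pair hk hy) h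
          exact e1 (hD u α e2 e3)
        exact ⟨1, 1, one_ne_zero, one_ne_zero, by rw [this hg, k_one hN hab, CSt.h, e1, one_mul]⟩
      · exact ⟨t, 1, ht, one_ne_zero, by rw [k_one hN hab, mul_one]⟩
      · refine ⟨t, t⁻¹, ht, inv_ne_zero ht, ?_⟩
        rw [k, ← mul_assoc, ← h_mul' hN hab ht (inv_ne_zero ht), mul_inv_cancel₀ ht, CSt.h, CSt.h,
          CSt.h, e1, (isR1 hN hab.nr).h_inv ht, inv_inv, one_mul]
    | one => exact ⟨1, 1, one_ne_zero, one_ne_zero, by rw [k_one hN hab, CSt.h, e1, one_mul]⟩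
    | mul g g' _ _ h1 h2 =>
      obtain ⟨s, t, hs, ht, rfl⟩ := h1
      obtain ⟨s', t', hs', ht', rfl⟩ := h2
      refine ⟨_, _, mul_ne_zero hs hs', mul_ne_zero ht ht', ?_⟩
      rw [h_mul' hN hab hs hs', k_mul hN hab ht ht', mul_assoc, mul_assoc, ← mul_assoc (S.k a b t),
        ← (e2 hs' ht).eq, mul_assoc]
    | inv g _ h =>
      obtain ⟨s, t, hs, ht, rfl⟩ := h
      refine ⟨_, _, inv_ne_zero hs, inv_ne_zero ht, inv_eq_of_mul_eq_one_right ?_⟩
      rw [mul_assoc, ← mul_assoc (S.k a b t), ← (e2 (inv_ne_zero hs) ht).eq, mul_assoc,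
        ← k_mul hN hab ht (inv_ne_zero ht), mul_inv_cancel₀ ht, k_one hN hab, mul_one,
        ← h_mul' hN hab hs (inv_ne_zero hs), mul_inv_cancel₀ hs, CSt.h, e1]
  obtain ⟨s, t, hs, ht, rfl⟩ := h3
  have h4 := h a
  rw [k, map_mul, map_mul, mul_smul, mul_smul, map_inv, inv_smul_of_line ht (h_a hab.nr ht), U_smul,
    h_a hab ht, inv_smul_smul₀ ht, h_a hab hs] at h4
  obtain rfl := F.eq_one_of_smul h4
  have h5 := h b
  rw [CSt.h, (isR1 hN hab).h_one, one_mul] at h5 ⊢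
  rw [k_b hab ht] at h5
  exact ⟨t, inv_eq_one.mp (F.eq_one_of_smul h5), rfl⟩

end Fin

theorem ker_r1 {K' : Type*} [Field K'] [Finite K'] (hM : ∀ y n, S.IsN b y n → S.Mon n (F.flip b))
    {x y : K' → G} (hx : ∀ t, x t ∈ S.RR b ∅) (hy : ∀ t, y t ∈ S.RR (F.n b) ∅)
    (hs : ∀ g ∈ S.RR b ∅, ∃ t, g = x t) (H : IsR1 (fun t => π (x t)) fun t => π (y t))
    (hw : ∀ t, t ≠ 0 → (∃ c : K, π (stW y x t) • F.e b = c • F.e (F.n b)) ∧
      ∃ c : K, π (stW y x t) • F.e (F.n b) = c • F.e b) :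
    IsR1 x y ∧ ∀ g ∈ S.L {b, F.n b}, ∀ c d : K, π g • F.e b = c • F.e b →
      π g • F.e (F.n b) = d • F.e (F.n b) → ∃ t, t ≠ 0 ∧ g = stH y x t := by
  have h1 : ∀ t, t ≠ 0 → S.IsN b (x (-t⁻¹)) (stW y x t) := fun t ht =>
    ⟨hx _, ⟨_, hy t, _, hy t, rfl⟩, (hw t ht).1, (hw t ht).2⟩
  have H' : IsR1 y x :=
    { addx := fun s t => S.ext (hy _).1 (mul_mem (hy _).1 (hy _).1) (by rw [map_mul, H.addy])
      addy := fun s t => S.ext (hx _).1 (mul_mem (hx _).1 (hx _).1) (by rw [map_mul, H.addx])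
      wx := fun t ht u => by
        have := (hM _ _ (h1 t ht)).conj _ _ (hy u).1
        rw [F.flip_n] at this
        refine S.ext this (hx _).1 ?_
        simpa [stW] using H.symm.wx t ht u }
  refine ⟨H'.symm, fun g hg c d h2 h3 => ?_⟩
  let Hs : Subgroup G :=
    { carrier := {g | ∃ t, t ≠ 0 ∧ g = stH y x t}
      one_mem' := ⟨1, one_ne_zero, H'.h_one.symm⟩
      mul_mem' := by
        rintro _ _ ⟨s, hs, rfl⟩ ⟨t, ht, rfl⟩
        exact ⟨_, mul_ne_zero hs ht, (H'.h_mul hs ht).symm⟩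
      inv_mem' := by
        rintro _ ⟨s, hs, rfl⟩
        exact ⟨_, inv_ne_zero hs, (H'.h_inv hs).symm⟩ }
  have h4 : ∀ z n, S.IsN b z n → ∃ t, t ≠ 0 ∧ n = stW y x t := fun z n h => by
    obtain ⟨t, rfl⟩ := hs z h.mem
    have ht : t ≠ 0 := by rintro rfl; exact h.ne_one H'.y_zero
    refine ⟨-t⁻¹, by simpa, h.unique ?_⟩
    simpa using h1 (-t⁻¹) (by simpa)
  refine mem_of_line hM (H := Hs) (fun z n z' n' e1 e2 => ?_) hg h2 h3
  obtain ⟨s, hs, rfl⟩ := h4 z n e1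
  obtain ⟨t, ht, rfl⟩ := h4 z' n' e2
  exact ⟨_, mul_ne_zero hs (by simpa), H'.w_mul_w hs ht⟩

end CSt

end Cfsg.Agent.H6
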