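import Cfsg.Agent.H6.StR1
import Mathlib.LinearAlgebra.SesquilinearForm.Basic
import Mathlib.Tactic.Module

/-! Odd form spaces and their Eichler–Siegel–Dickson transformations. -/

set_option autoImplicit false

namespace Cfsg.Agent.H6

/-- A sesquilinear form with an odd form parameter. -/
structure OF (K V : Type*) [Field K] [AddCommGroup V] [Module K V] where
  σ : K →+* K
  B : V →ₗ[K] V →ₛₗ[σ] K
  η : K
  Λ : V → K → Prop
  σσ : ∀ x, σ (σ x) = x
  ηη : η * η = 1
  ση : σ η = η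
  herm : ∀ u v, B v u = η * σ (B u v)
  max : ∀ {v α}, Λ v α → B v v + η * α + σ α = 0
  add : ∀ {v α w β}, Λ v α → Λ w β → Λ (v + w) (α + β - η * B w v)
  smul : ∀ {v α} (c : K), Λ v α → Λ (c • v) (c * σ c * α)
  min : ∀ d, Λ 0 (d - η * σ d)
  ex : ∀ v, ∃ α, Λ v α

namespace OF

variable {K V : Type*} [Field K] [AddCommGroup V] [Module K V] (O : OF K V)

theorem η_ne : O.η ≠ 0 := fun h => by simpa [h] using O.ηη

theorem σ_B (u v : V) : O.σ (O.B u v) = O.η * O.B v u := by
  rw [O.herm u v, ← mul_assoc, O.ηη, one_mul]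

theorem B_eq_zero_comm {u v : V} (h : O.B u v = 0) : O.B v u = 0 := by rw [O.herm, h]; simp

theorem σ_ne {c : K} (h : c ≠ 0) : O.σ c ≠ 0 := (map_ne_zero O.σ).mpr h

variable {O}

theorem Λ_congr {v v' : V} {α α' : K} (h : O.Λ v α) (hv : v = v') (hα : α = α') : O.Λ v' α' :=
  hv ▸ hα ▸ h

theorem Λ_zero : O.Λ 0 0 := by simpa using O.min 0

theorem B_self {e : V} (h : O.Λ e 0) : O.B e e = 0 := by simpa using O.max h

theorem neg {v : V} {α : K} (h : O.Λ v α) : O.Λ (-v) α := by simpa using O.smul (-1) h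

theorem add_min {v : V} {α : K} (h : O.Λ v α) (d : K) : O.Λ v (α + (d - O.η * O.σ d)) := by
  simpa using O.add h (O.min d)

theorem conj {v : V} {α : K} (h : O.Λ v α) : O.Λ v (O.η * O.σ α) :=
  Λ_congr (add_min h (-α)) rfl (by simp)

theorem inv {v : V} {α : K} (h : O.Λ v α) : O.Λ (-v) (O.η * O.σ α) := neg (conj h)

theorem neg_zero {α : K} (h : O.Λ 0 α) : O.Λ 0 (-α) :=
  Λ_congr (conj h) rfl (by
    have := O.max h
    simp only [map_zero, zero_add] at this
    linear_combination O.η * this - α * O.ηη)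

theorem smul_zero' {e : V} (c : K) (h : O.Λ e 0) : O.Λ (c • e) 0 := by simpa using O.smul c h

variable (O)

/-- The group of isometries. -/
def U : Subgroup (V ≃ₗ[K] V) where
  carrier := {g | (∀ x y, O.B (g x) (g y) = O.B x y) ∧ ∀ x α, O.Λ (g x) α ↔ O.Λ x α}
  one_mem' := ⟨fun _ _ => rfl, fun _ _ => Iff.rfl⟩
  mul_mem' {g h} hg hh := ⟨fun x y => (hg.1 _ _).trans (hh.1 x y),
    fun x α => (hg.2 _ _).trans (hh.2 x α)⟩
  inv_mem' {g} hg := ⟨fun x y => by rw [← hg.1]; simp, fun x α => by rw [← hg.2]; simp⟩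

variable {O}

theorem U_smul_def (g : O.U) (x : V) : g • x = g.1 x := rfl

@[simp] theorem B_U (g : O.U) (x y : V) : O.B (g • x) (g • y) = O.B x y := g.2.1 x y

@[simp] theorem Λ_U (g : O.U) (x : V) (α : K) : O.Λ (g • x) α ↔ O.Λ x α := g.2.2 x α

@[simp] theorem U_smul (g : O.U) (c : K) (x : V) : g • c • x = c • g • x := map_smul g.1 c x

@[simp] theorem U_add (g : O.U) (x y : V) : g • (x + y) = g • x + g • y := map_add g.1 x y

@[simp] theorem U_sub (g : O.U) (x y : V) : g • (x - y) = g • x - g • y := map_sub g.1 x y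

@[simp] theorem U_neg (g : O.U) (x : V) : g • (-x) = -(g • x) := map_neg g.1 x

@[simp] theorem U_zero (g : O.U) : g • (0 : V) = 0 := map_zero g.1

theorem B_U_left (g : O.U) (x y : V) : O.B (g • x) y = O.B x (g⁻¹ • y) := by
  rw [← B_U g x, smul_inv_smul]

theorem B_U_right (g : O.U) (x y : V) : O.B x (g • y) = O.B (g⁻¹ • x) y := by
  rw [← B_U g _ y, smul_inv_smul]

theorem U_ext {g h : O.U} (e : ∀ x : V, g • x = h • x) : g = h :=
  Subtype.ext (LinearEquiv.ext e)

theorem inv_smul_of_line {g : O.U} {x y : V} {c : K} (hc : c ≠ 0) (h : g • x = c • y) :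
    g⁻¹ • y = c⁻¹ • x := by
  rw [inv_smul_eq_iff, U_smul, h, inv_smul_smul₀ hc]

variable (O)

/-- The linear map underlying an Eichler–Siegel–Dickson transformation. -/
def tl (e v : V) (α : K) : V →ₗ[K] V where
  toFun x := x + O.B x e • v + (α * O.B x e - O.η * O.B x v) • e
  map_add' x y := by simp only [map_add, LinearMap.add_apply]; module
  map_smul' c x := by simp only [map_smul, LinearMap.smul_apply, smul_eq_mul, RingHom.id_apply]; module

theorem tl_apply (e v : V) (α : K) (x : V) :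
    O.tl e v α x = x + O.B x e • v + (α * O.B x e - O.η * O.B x v) • e := rfl

/-- Admissible parameters. -/
structure Ok (e v : V) (α : K) : Prop where
  sing : O.Λ e 0
  perp : O.B v e = 0
  mem : O.Λ v α

variable {O}

theorem Ok.tl_tl {e v w : V} {α β : K} (h : O.Ok e v α) (h' : O.B w e = 0) (x : V) :
    O.tl e v α (O.tl e w β x) = O.tl e (v + w) (α + β - O.η * O.B w v) x := by
  simp only [tl_apply, map_add, map_smul, LinearMap.add_apply, LinearMap.smul_apply, smul_eq_mul,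
    B_self h.sing, h', O.B_eq_zero_comm h.perp]
  module

theorem Ok.add {e v w : V} {α β : K} (h : O.Ok e v α) (h' : O.Ok e w β) :
    O.Ok e (v + w) (α + β - O.η * O.B w v) :=
  ⟨h.sing, by simp [h.perp, h'.perp], O.add h.mem h'.mem⟩

theorem Ok.inv {e v : V} {α : K} (h : O.Ok e v α) : O.Ok e (-v) (O.η * O.σ α) :=
  ⟨h.sing, by simp [h.perp], OF.inv h.mem⟩

theorem Ok.zero {e : V} (h : O.Λ e 0) : O.Ok e 0 0 := ⟨h, by simp, Λ_zero⟩

theorem tl_zero (e x : V) : O.tl e 0 0 x = x := by simp [tl_apply]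

theorem Ok.tl_inv {e v : V} {α : K} (h : O.Ok e v α) (x : V) :
    O.tl e v α (O.tl e (-v) (O.η * O.σ α) x) = x := by
  rw [h.tl_tl h.inv.perp, add_neg_cancel, show α + O.η * O.σ α - O.η * O.B (-v) v = 0 by
    simp only [map_neg, LinearMap.neg_apply]
    linear_combination O.η * O.max h.mem - α * O.ηη, tl_zero]

theorem Ok.inv_tl {e v : V} {α : K} (h : O.Ok e v α) (x : V) :
    O.tl e (-v) (O.η * O.σ α) (O.tl e v α x) = x := by
  rw [h.inv.tl_tl h.perp, neg_add_cancel, show O.η * O.σ α + α - O.η * O.B v (-v) = 0 by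
    simp only [map_neg]
    linear_combination O.η * O.max h.mem - α * O.ηη, tl_zero]

theorem Ok.B_tl {e v : V} {α : K} (h : O.Ok e v α) (x y : V) :
    O.B (O.tl e v α x) (O.tl e v α y) = O.B x y := by
  simp only [tl_apply, map_add, map_smul, map_smulₛₗ, LinearMap.add_apply, LinearMap.smul_apply,
    smul_eq_mul, B_self h.sing, h.perp, O.B_eq_zero_comm h.perp, map_sub, map_mul, O.ση, O.σ_B]
  linear_combination (O.B x e * O.η * O.B e y) * O.max h.mem -
    (α * O.B x e * O.B e y + O.B x e * O.B v y) * O.ηη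

theorem Ok.Λ_tl {e v : V} {α : K} (h : O.Ok e v α) {x : V} {β : K} (hx : O.Λ x β) :
    O.Λ (O.tl e v α x) β := by
  have h1 := O.add (O.add hx (O.smul (O.B x e) h.mem))
    (smul_zero' (α * O.B x e - O.η * O.B x v) h.sing)
  refine Λ_congr (add_min h1 (O.η * O.B x e * O.B v x)) rfl ?_
  simp only [map_add, map_smul, map_smulₛₗ, LinearMap.smul_apply, smul_eq_mul,
    O.B_eq_zero_comm h.perp, map_mul, O.ση, O.σ_B]
  linear_combination (-O.η * O.η * O.B e x * O.B x v) * O.ηη

variable (O) in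
open Classical in
/-- The Eichler–Siegel–Dickson transformations. -/
noncomputable def T (e v : V) (α : K) : O.U :=
  if h : O.Ok e v α then
    ⟨LinearEquiv.ofLinear (O.tl e v α) (O.tl e (-v) (O.η * O.σ α)) (LinearMap.ext h.tl_inv)
      (LinearMap.ext h.inv_tl), h.B_tl, fun x β => ⟨fun hx => by
        have := h.inv.Λ_tl hx
        rwa [LinearEquiv.ofLinear_apply, h.inv_tl] at this, h.Λ_tl⟩⟩
  else 1

theorem Ok.T_smul {e v : V} {α : K} (h : O.Ok e v α) (x : V) :
    O.T e v α • x = x + O.B x e • v + (α * O.B x e - O.η * O.B x v) • e := by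
  rw [T, dif_pos h]; rfl

theorem Ok.T_mul {e v w : V} {α β : K} (h : O.Ok e v α) (h' : O.Ok e w β) :
    O.T e v α * O.T e w β = O.T e (v + w) (α + β - O.η * O.B w v) :=
  U_ext fun x => by
    rw [mul_smul, h.T_smul, h'.T_smul, (h.add h').T_smul]
    exact h.tl_tl h'.perp x

theorem T_zero (e : V) : O.T e 0 0 = 1 := by
  by_cases h : O.Ok e 0 0
  · exact U_ext fun x => by simp [h.T_smul]
  · rw [T, dif_neg h]

theorem Ok.T_inv {e v : V} {α : K} (h : O.Ok e v α) :
    (O.T e v α)⁻¹ = O.T e (-v) (O.η * O.σ α) :=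
  inv_eq_of_mul_eq_one_right (U_ext fun x => by
    rw [mul_smul, h.T_smul, h.inv.T_smul]; exact h.tl_inv x)

theorem Ok.map {e v : V} {α : K} (h : O.Ok e v α) (g : O.U) : O.Ok (g • e) (g • v) α :=
  ⟨by simpa using h.sing, by simpa using h.perp, by simpa using h.mem⟩

theorem Ok.conj_T {e v : V} {α : K} (h : O.Ok e v α) (g : O.U) :
    g * O.T e v α * g⁻¹ = O.T (g • e) (g • v) α :=
  U_ext fun x => by
    rw [mul_smul, mul_smul, h.T_smul, (h.map g).T_smul]
    simp [B_U_right]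

theorem Ok.of_smul {e v : V} {α c : K} (hc : c ≠ 0) (h : O.Ok (c • e) v α) :
    O.Ok e (O.σ c • v) (c * O.σ c * α) :=
  ⟨by simpa [hc] using smul_zero' c⁻¹ h.sing, by simpa [hc] using h.perp,
    Λ_congr (O.smul (O.σ c) h.mem) rfl (by rw [O.σσ]; ring)⟩

theorem Ok.T_smul_left {e v : V} {α c : K} (hc : c ≠ 0) (h : O.Ok (c • e) v α) :
    O.T (c • e) v α = O.T e (O.σ c • v) (c * O.σ c * α) :=
  U_ext fun x => by
    rw [h.T_smul, (h.of_smul hc).T_smul]
    simp only [map_smulₛₗ, smul_eq_mul, O.σσ]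
    module

theorem Ok.conj_T' {e v e' : V} {α c : K} (h : O.Ok e v α) {g : O.U} (hc : c ≠ 0)
    (hg : g • e = c • e') :
    g * O.T e v α * g⁻¹ = O.T e' (O.σ c • g • v) (c * O.σ c * α) := by
  rw [h.conj_T, hg, Ok.T_smul_left hc (hg ▸ h.map g)]

theorem ok_line {e f : V} (he : O.Λ e 0) (hf : O.Λ f 0) (h : O.B f e = 0) (c : K) :
    O.Ok e (c • f) 0 := ⟨he, by simp [h], smul_zero' c hf⟩

theorem T_swap {e f : V} (he : O.Λ e 0) (hf : O.Λ f 0) (h : O.B f e = 0) (c : K) :
    O.T e (c • f) 0 = O.T f ((-(O.η * O.σ c)) • e) 0 :=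
  U_ext fun x => by
    rw [(ok_line he hf h c).T_smul, (ok_line hf he (O.B_eq_zero_comm h) _).T_smul]
    simp only [map_smulₛₗ, smul_eq_mul, map_neg, map_mul, O.σσ, O.ση]
    match_scalars
    · rfl
    · linear_combination (-c * O.B x e) * O.ηη
    · ring

/-- The Eichler lemma: a singular vector is moved into the line opposite to `e`. -/
theorem exists_T_smul_eq {e f x : V} (he : O.Λ e 0) (hf : O.Λ f 0) (hfe : O.B f e ≠ 0)
    (hx : O.Λ x 0) (h : O.B x e ≠ 0) : ∃ v α, O.Ok e v α ∧ O.B v f = 0 ∧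
      (∀ y, O.B x y = 0 → O.B e y = 0 → O.B f y = 0 → O.B v y = 0) ∧
      O.T e v α • x = (O.B x e / O.B f e) • f := by
  have hef : O.B e f ≠ 0 := fun h => hfe (O.B_eq_zero_comm h)
  set β := O.B x e / O.B f e with hβ
  set γ := O.B x f / O.B e f with hγ
  let v := (-(O.B x e)⁻¹) • (x - β • f - γ • e)
  have hve : O.B v e = 0 := by simp [v, B_self he, hβ, hfe]
  have hvf : O.B v f = 0 := by simp [v, B_self hf, hγ, hef]
  obtain ⟨α, hα⟩ := O.ex v
  have h1 : O.Ok e v α := ⟨he, hve, hα⟩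
  set δ := γ + (α * O.B x e - O.η * O.B x v) with hδ
  have h2 : O.T e v α • x = β • f + δ • e := by
    rw [h1.T_smul, hδ]
    simp only [v, smul_smul, mul_neg, mul_inv_cancel₀ h]
    module
  have h3 : O.Λ (β • f + δ • e) 0 := by rw [← h2]; simpa using hx
  have h4 := O.smul (O.B x e)⁻¹ (O.add (O.add h3 (smul_zero' (-δ) he)) (smul_zero' (-β) hf))
  have h5 : O.Ok e 0 (-(δ / O.B x e)) := ⟨he, by simp, neg_zero (Λ_congr h4 (by module) (by
    have := O.σ_ne h
    have h6 : O.σ (O.B x e) = O.σ β * O.η * O.B e f := by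
      rw [mul_assoc, ← O.σ_B, ← map_mul, hβ, div_mul_cancel₀ _ hfe]
    simp only [map_add, map_smulₛₗ, map_smul, LinearMap.smul_apply, smul_eq_mul, B_self he,
      B_self hf, map_inv₀, map_neg, map_sub, add_neg_cancel_right, neg_smul, LinearMap.neg_apply,
      RingHom.id_apply]
    field_simp
    rw [h6]; ring))⟩
  refine ⟨_, _, h5.add h1, by simpa using hvf, fun y h1 h2 h3 => by simp [v, h1, h2, h3], ?_⟩
  rw [← h5.T_mul h1, mul_smul, h2, h5.T_smul]
  simp only [map_add, map_smul, LinearMap.add_apply, LinearMap.smul_apply, smul_eq_mul, B_self he,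
    hβ, map_zero]
  match_scalars
  · ring
  · field_simp; ring

end OF

end Cfsg.Agent.H6
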