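import Cfsg.Agent.H6.CLiftK

/-! Projections, the centre of the elementary group and central elements of Steinberg systems. -/

set_option autoImplicit false

open scoped commutatorElement

namespace Cfsg.Agent.H6

open OF Subgroup

variable {K V I G : Type*} [Field K] [AddCommGroup V] [Module K V] [Group G]

namespace Frame

variable {O : OF K V} {F : Frame O I}

theorem exists_proj (a : I) (x : V) : ∃ c d : K, ∃ y, O.B y (F.e a) = 0 ∧
    O.B y (F.e (F.n a)) = 0 ∧ x = y + c • F.e a + d • F.e (F.n a) :=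
  ⟨O.B x (F.e (F.n a)) / F.ε (F.n a), O.B x (F.e a) / F.ε a,
    x - (O.B x (F.e (F.n a)) / F.ε (F.n a)) • F.e a - (O.B x (F.e a) / F.ε a) • F.e (F.n a),
    by simp [F.B_ee, B_n, F.ε_ne], by simp [F.B_ee, B_n', F.ε_ne], by module⟩

theorem exists_V0 [Finite I] (x : V) :
    ∃ u, F.V0 u ∧ x - u ∈ Submodule.span K (Set.range F.e) := by
  classical
  have := Fintype.ofFinite I
  refine ⟨x - ∑ i, (O.B x (F.e i) / F.ε i) • F.e (F.n i), fun j => ?_, ?_⟩
  · rw [map_sub, map_sum, LinearMap.sub_apply, LinearMap.sum_apply, Finset.sum_eq_single j]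
    · simp [B_n, F.ε_ne]
    · intro i _ h
      simp [F.orth (i := F.n i) (j := j) (by rw [F.nn]; exact h.symm)]
    · simp
  · rw [sub_sub_cancel]
    exact Submodule.sum_mem _ fun i _ => Submodule.smul_mem _ _ (Submodule.subset_span ⟨_, rfl⟩)

theorem V_induction [Finite I] {p : V → Prop} (h1 : ∀ i, p (F.e i)) (h2 : ∀ u, F.V0 u → p u)
    (h3 : ∀ x y, p x → p y → p (x + y)) (h4 : ∀ (c : K) x, p x → p (c • x)) (x : V) : p x := by
  obtain ⟨u, hu, h⟩ := exists_V0 (F := F) x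
  rw [← sub_add_cancel x u]
  refine h3 _ _ ?_ (h2 u hu)
  generalize x - u = y at h
  induction h using Submodule.span_induction with
  | mem x hx => obtain ⟨i, rfl⟩ := hx; exact h1 i
  | zero => exact h2 0 fun i => by simp
  | add x y _ _ hx hy => exact h3 x y hx hy
  | smul c x _ hx => exact h4 c x hx

theorem ext [Finite I] {g h : O.U} (h1 : ∀ i, g • F.e i = h • F.e i)
    (h2 : ∀ u, F.V0 u → g • u = h • u) : g = h :=
  U_ext (V_induction h1 h2 (fun x y hx hy => by simp [hx, hy]) fun c x hx => by simp [hx])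

theorem Tr.exists_plane (hT : F.Tr) (hB : ∀ x, (∀ y, O.B x y = 0) → x = 0) {x : V} (h0 : x ≠ 0)
    (a : I) : ∃ g ∈ F.E, ∃ c d : K, d ≠ 0 ∧ g • x = c • F.e a + d • F.e (F.n a) := by
  obtain ⟨g, hg, i, hi⟩ : ∃ g ∈ F.E, ∃ i, O.B (g • x) (F.e i) ≠ 0 := by
    by_cases h : F.V0 x
    · obtain ⟨y, hy⟩ := not_forall.mp fun h => h0 (hB x h)
      obtain ⟨c, d, y, h1, h2, rfl⟩ := exists_proj (F := F) a y
      obtain ⟨α, hα⟩ := O.ex y
      have h3 : F.Ok a y α := ⟨⟨F.sing a, h1, hα⟩, h2⟩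
      refine ⟨_, h3.mem_E, F.n a, ?_⟩
      simpa [h3.T_smul, h _, B_n', F.ε_ne, O.η_ne] using hy
    · exact ⟨1, one_mem _, by simpa [V0] using h⟩
  obtain ⟨g', hg', c, d, h1, h2⟩ := hT i a
  have h3 : O.B ((g' * g) • x) (F.e a) ≠ 0 := by
    rw [mul_smul, B_U_left, inv_smul_of_line (line_n h1 h2).1 h1]
    simpa [(line_n h1 h2).1] using hi
  obtain ⟨c, d, y, h4, h5, h6⟩ := exists_proj (F := F) a ((g' * g) • x)
  have h7 : O.B ((g' * g) • x) (F.e a) = d * F.ε a := by simp [h6, h4, F.B_ee, B_n]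
  obtain ⟨α, hα⟩ := O.ex ((-(d * F.ε a)⁻¹) • y)
  have h8 : F.Ok a _ α := ⟨⟨F.sing a, by simp [h4], hα⟩, by simp [h5]⟩
  refine ⟨_, mul_mem h8.mem_E (mul_mem hg' hg), c + (α * (d * F.ε a) - O.η *
    O.B ((g' * g) • x) ((-(d * F.ε a)⁻¹) • y)), d, left_ne_zero_of_mul (h7 ▸ h3), ?_⟩
  rw [mul_smul, h8.T_smul, h7, smul_smul, mul_neg, mul_inv_cancel₀ (h7 ▸ h3)]
  nth_rewrite 1 [h6]
  module

theorem exists_scalar (hB : ∀ x, (∀ y, O.B x y = 0) → x = 0) (h2 : ∀ a, ∃ b, F.D a b) (a : I)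
    {z : O.U} (hz : ∀ g ∈ F.E, Commute z g) : ∃ c : K, ∀ x : V, z • x = c • x := by
  obtain ⟨c, d, y, h3, h4, h5⟩ := exists_proj (F := F) a (z • F.e a)
  have h6 : ∀ {v α}, F.Ok a v α → O.T (F.e a) v α • z • F.e a = z • F.e a := fun h => by
    rw [← mul_smul, ← (hz _ h.mem_E).eq, mul_smul, (h.fix_iff (F.n_ne a).symm).mpr h.perp]
  obtain ⟨b, hb⟩ := h2 a
  have h7 : d = 0 := by
    have := congrArg (fun x => O.B x (F.e (F.n b))) (h6 (hb.ok_line 1))
    simp only [(hb.ok_line 1).T_smul] at this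
    simpa [h5, h3, F.B_ee, B_n, B_n', F.ε_ne, hb.nr.B] using this
  have h8 : y = 0 := hB y fun v => by
    obtain ⟨c', d', v, e1, e2, rfl⟩ := exists_proj (F := F) a v
    obtain ⟨α, hα⟩ := O.ex v
    have h9 : F.Ok a v α := ⟨⟨F.sing a, e1, hα⟩, e2⟩
    have := h6 h9
    rw [h9.T_smul] at this
    simpa [h5, h7, h3, h4, F.B_ee, F.e_ne, O.η_ne, O.B_eq_zero_comm e1] using this
  rw [h7, h8, zero_add, zero_smul, add_zero] at h5
  have h9 : ∀ x, O.Λ x 0 → z • x = c • x := fun x hx => by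
    by_cases h0 : x = 0
    · simp [h0]
    obtain ⟨g, hg, c', -, h⟩ := (tr_of_D h2).exists_smul hx h0 a
    rw [← smul_left_cancel_iff g, ← mul_smul, ← (hz g hg).eq, mul_smul, h, U_smul, h5, U_smul, h,
      smul_comm]
  refine ⟨c, fun x => ?_⟩
  obtain ⟨c', d', v, e1, e2, rfl⟩ := exists_proj (F := F) a x
  obtain ⟨α, hα⟩ := O.ex v
  have h10 : F.Ok a v α := ⟨⟨F.sing a, e1, hα⟩, e2⟩
  have h11 := h9 _ ((Λ_U (O.T (F.e a) v α) _ _).mpr (F.sing (F.n a)))
  simp only [h10.T_en, U_add, U_smul, h5, h9 _ (F.sing _), smul_add, smul_comm c,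
    add_left_inj, add_right_inj] at h11
  simp only [U_add, U_smul, h5, h9 _ (F.sing _), smul_add, smul_comm c,
    smul_right_injective V (F.ε_ne a) h11]

theorem nd_of {u : V} {α : K} (hu : F.V0 u) (hα : O.Λ u α) (h0 : α ≠ 0) : F.ND :=
  fun a _ _ => ⟨u, α, h0, hu.ok hα a, hu _, hu _⟩

theorem nd_of_three (h3 : ∀ a b, ∃ c, F.D a c ∧ F.D b c) : F.ND := fun a b _ => by
  obtain ⟨c, h1, h2⟩ := h3 a b
  exact ⟨_, _, by simp [O.η_ne, B_n, F.ε_ne], (h1.ok_line 1).add (h1.nr.ok_line 1),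
    by simp [h2.symm.B, h2.symm.nl.B], by simp [h2.symm.nr.B, h2.symm.nl.nr.B]⟩

end Frame

namespace CSt

open Frame

variable {O : OF K V} {F : Frame O I} {π : G →* O.U} {S : CSt F π}

theorem h_mem_Lu {a b : I} (h : F.D a b) (t : K) : S.h a b t ∈ S.L Set.univ :=
  A_le_L h (Set.mem_univ _) (Set.mem_univ _) (mul_mem (w_mem_A _) (w_mem_A _))

theorem k_mem_Lu {a b : I} (h : F.D a b) (t : K) : S.k a b t ∈ S.L Set.univ :=
  mul_mem (h_mem_Lu h t) (inv_mem (h_mem_Lu h.nr t))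

theorem k_fix {a b : I} (h : F.D a b) {t : K} (ht : t ≠ 0) {i : I} (hi : F.D b i) :
    π (S.k a b t) • F.e i = F.e i := by
  rw [k, map_mul, map_inv, mul_smul]
  rcases cases3 (F := F) a i with rfl | rfl | e
  · rw [inv_smul_of_line ht (h_a h.nr ht), U_smul, h_a h ht, inv_smul_smul₀ ht]
  · rw [inv_smul_of_line (inv_ne_zero (O.σ_ne ht)) (h_na h.nr ht), U_smul, h_na h ht,
      inv_smul_smul₀ (inv_ne_zero (O.σ_ne ht))]
  · rw [inv_smul_eq_iff.mpr (h_of_D h.nr t e hi.nl).symm, h_of_D h t e hi]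

theorem k_nb {a b : I} (h : F.D a b) {t : K} (ht : t ≠ 0) :
    π (S.k a b t) • F.e (F.n b) = (t * O.σ t) • F.e (F.n b) := by
  rw [k, map_mul, map_inv, mul_smul, inv_smul_of_line (inv_ne_zero ht) (h_b h.nr ht), U_smul,
    h_nb h ht, smul_smul, inv_inv]

theorem k_V0 {a b : I} (h : F.D a b) (t : K) {u : V} (hu : F.V0 u) : π (S.k a b t) • u = u := by
  rw [k, map_mul, map_inv, mul_smul, inv_smul_eq_iff.mpr (h_V0 h.nr t hu).symm, h_V0 h t hu]

variable (S) in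
theorem exists_neg [Finite K] (hN : F.ND) (r : ℕ) (T : Finset I) (hT : ∀ i ∈ T, F.n i ∈ T)
    (hc : T.card = 4 * r) : ∃ c ∈ S.L Set.univ, S.Mon c 1 ∧ c * c = 1 ∧
      (∀ i ∈ T, π c • F.e i = -F.e i) ∧ (∀ i ∉ T, π c • F.e i = F.e i) ∧
      ∀ u, F.V0 u → π c • u = u := by
  classical
  induction r generalizing T with
  | zero =>
    obtain rfl := Finset.card_eq_zero.mp hc
    exact ⟨1, one_mem _, Mon.one, by simp, by simp, by simp, by simp⟩
  | succ r ih =>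
    obtain ⟨a, ha⟩ := Finset.card_pos.mp (show 0 < T.card by omega)
    obtain ⟨b, hb, hb'⟩ := Finset.exists_mem_notMem_of_card_lt_card (s := {a, F.n a}) (t := T)
      (lt_of_le_of_lt Finset.card_le_two (by omega))
    have h : F.D a b := by simpa [D] using hb'
    have h1 : ({a, F.n a, b, F.n b} : Finset I).card = 4 := by
      rw [Finset.card_insert_of_notMem, Finset.card_insert_of_notMem, Finset.card_pair
        (F.n_ne b).symm]
      · simp [h.2.symm, h.nl.nr.1.symm]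
      · simp [(F.n_ne a).symm, h.1.symm, h.nr.1.symm]
    have h2 : ∀ i, i ∈ T \ {a, F.n a, b, F.n b} ↔ i ∈ T ∧ F.D a i ∧ F.D b i := fun i => by
      simp [D, and_assoc]
    obtain ⟨c, c1, c2, c3, c4, c5, c6⟩ := ih (T \ {a, F.n a, b, F.n b})
      (fun i hi => (h2 _).mpr ⟨hT i ((h2 i).mp hi).1, ((h2 i).mp hi).2.1.nr, ((h2 i).mp hi).2.2.nr⟩)
      (by
        rw [Finset.card_sdiff_of_subset (by simp [Finset.insert_subset_iff, *]), h1]; omega)
    have m1 : (-1 : K) ≠ 0 := by simp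
    have h3 : ∀ i, ¬ (F.D a i ∧ F.D b i) → π (S.h a b (-1) * c) • F.e i = -F.e i := fun i hi => by
      rw [map_mul, mul_smul, c5 i fun h => hi ((h2 i).mp h).2]
      rcases cases5 (F := F) a b i with rfl | rfl | rfl | rfl | e
      · simp [h_a h m1]
      · simp [h_b h m1]
      · simp [h_na h m1]
      · simp [h_nb h m1]
      · exact absurd e hi
    refine ⟨S.h a b (-1) * c, mul_mem (h_mem_Lu h _) c1, by simpa using (mon_h hN h m1).mul c2, ?_,
      fun i hi => ?_, fun i hi => ?_, fun u hu => by rw [map_mul, mul_smul, c6 u hu, h_V0 h _ hu]⟩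
    · have := c2.h hN h m1
      simp only [Equiv.Perm.one_apply, mul_inv_eq_iff_eq_mul] at this
      rw [mul_assoc, ← mul_assoc c, this, mul_assoc, c3, mul_one, ← h_mul' hN h m1 m1]
      simpa [CSt.h] using (isR1 hN h).h_one
    · by_cases e : F.D a i ∧ F.D b i
      · rw [map_mul, mul_smul, c4 i ((h2 i).mpr ⟨hi, e⟩), U_neg, h_of_D h _ e.1 e.2]
      · exact h3 i e
    · have e1 : F.D a i := ⟨fun e => hi (e ▸ ha), fun e => hi (e ▸ hT a ha)⟩
      have e2 : F.D b i := ⟨fun e => hi (e ▸ hb), fun e => hi (e ▸ hT b hb)⟩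
      rw [map_mul, mul_smul, c5 i fun h => hi ((h2 i).mp h).1, h_of_D h _ e1 e2]

end CSt

end Cfsg.Agent.H6
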