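import Cfsg.Agent.H6.CSt
import Mathlib.Algebra.Group.Subgroup.Pointwise

/-! The parabolic decomposition in a Steinberg system and the kernel of its representation. -/

set_option autoImplicit false

namespace Cfsg.Agent.H6

open OF Subgroup

variable {K V I G : Type*} [Field K] [AddCommGroup V] [Module K V] [Group G]

theorem le_normalizer_of_closure {s : Set G} {H : Subgroup G}
    (h : ∀ g ∈ s, ∀ y ∈ H, g * y * g⁻¹ ∈ H ∧ g⁻¹ * y * g ∈ H) :
    closure s ≤ normalizer (H : Set G) :=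
  (closure_le _).mpr fun g hg => mem_normalizer_iff.mpr fun y =>
    ⟨fun hy => (h g hg y hy).1, fun hy => by simpa [mul_assoc] using (h g hg _ hy).2⟩

theorem exists_mul_of_mem_sup {H D : Subgroup G} (h : D ≤ normalizer (H : Set G)) {p : G}
    (hp : p ∈ H ⊔ D) : ∃ r ∈ H, ∃ d ∈ D, p = r * d := by
  have : p ∈ ((H ⊔ D : Subgroup G) : Set G) := hp
  rw [coe_mul_of_right_le_normalizer_left H D h] at this
  obtain ⟨r, hr, d, hd, rfl⟩ := this
  exact ⟨r, hr, d, hd, rfl⟩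

theorem IsR1.form [Finite K] {x y : K → G} (H : IsR1 x y) {g : G}
    (hg : g ∈ closure (Set.range x ∪ Set.range y)) : ∃ m ν, IsR1.IsRep x y m ∧ g = m * x ν := by
  have key : ∀ s ∈ Set.range x ∪ Set.range y, ∀ g, (∃ m ν, IsR1.IsRep x y m ∧ g = m * x ν) →
      ∃ m ν, IsR1.IsRep x y m ∧ s * g = m * x ν := by
    rintro s (⟨l, rfl⟩ | ⟨l, rfl⟩) g ⟨m, ν, hm, rfl⟩
    · obtain ⟨m', ν', h1, h2⟩ := H.x_mul_rep l hm
      exact ⟨m', ν' + ν, h1, by rw [← mul_assoc, h2, H.addx, mul_assoc]⟩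
    · obtain ⟨t, ht, ⟨μ, rfl⟩ | rfl⟩ := hm
      · exact ⟨_, ν, ⟨t, ht, Or.inl ⟨l + μ, rfl⟩⟩, by rw [H.addy]; group⟩
      · refine ⟨_, -(t ^ 2 * l) + ν, ⟨t, ht, Or.inr rfl⟩, ?_⟩
        have := H.wx t ht (-(t ^ 2 * l))
        rw [show -(t⁻¹ ^ 2 * -(t ^ 2 * l)) = l by field_simp] at this
        rw [H.addx, ← this]; group
  induction hg using closure_induction_left with
  | one => exact ⟨_, 0, ⟨1, one_ne_zero, Or.inl ⟨0, rfl⟩⟩, by simp [H.x_zero, H.y_zero, H.h_one]⟩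
  | mul_left s hs g _ ih => exact key s hs g ih
  | inv_mul_cancel s hs g _ ih =>
    refine key _ ?_ g ih
    rcases hs with ⟨l, rfl⟩ | ⟨l, rfl⟩
    · exact Or.inl ⟨-l, H.x_neg l⟩
    · exact Or.inr ⟨-l, H.y_neg l⟩

namespace CSt

open Frame

variable {O : OF K V} {F : Frame O I} {π : G →* O.U} (S : CSt F π)

/-- The subsystem subgroup supported on a set of indices. -/
def L (T : Set I) : Subgroup G := closure {g | ∃ k ∈ T, g ∈ S.RR k T}

/-- The rank one subgroup of a short root. -/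
def A (a j : I) : Subgroup G := closure (Set.range (S.x a j) ∪ Set.range (S.x j a))

/-- The Levi subgroup. -/
def DD (a : I) (T : Set I) : Subgroup G :=
  closure ((S.L T : Set G) ∪ {g | ∃ j ∈ T, ∃ t, t ≠ 0 ∧ g = S.h a j t})

variable {S} {T : Set I} {a b : I}

theorem mem_L {k : I} (hk : k ∈ T) {g : G} (hg : g ∈ S.RR k T) : g ∈ S.L T :=
  subset_closure ⟨k, hk, hg⟩

theorem L_mono {T' : Set I} (h : T ⊆ T') : S.L T ≤ S.L T' :=
  closure_mono fun _ ⟨k, hk, hg⟩ => ⟨k, h hk, RR_mono hg fun _ hi _ => h hi⟩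

theorem x_mem_A (s : K) : S.x a b s ∈ S.A a b := subset_closure (Or.inl ⟨s, rfl⟩)

theorem x_mem_A' (s : K) : S.x b a s ∈ S.A a b := subset_closure (Or.inr ⟨s, rfl⟩)

theorem w_mem_A (t : K) : S.w a b t ∈ S.A a b :=
  mul_mem (mul_mem (x_mem_A _) (x_mem_A' _)) (x_mem_A _)

theorem A_le {H : Subgroup G} {g : G} (h1 : ∀ s, g * S.x a b s * g⁻¹ ∈ H)
    (h2 : ∀ s, g * S.x b a s * g⁻¹ ∈ H) {y : G} (hy : y ∈ S.A a b) : g * y * g⁻¹ ∈ H := by
  have : S.A a b ≤ H.comap (MulAut.conj g).toMonoidHom := (closure_le _).mpr (by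
    rintro _ (⟨s, rfl⟩ | ⟨s, rfl⟩)
    exacts [h1 s, h2 s])
  exact this hy

theorem A_le_L (h : F.D a b) (ha : a ∈ T) (hb : b ∈ T) : S.A a b ≤ S.L T := fun y hy => by
  simpa using A_le (g := 1) (fun s => by simpa using mem_L ha (x_mem_RR h s hb))
    (fun s => by simpa using mem_L hb (x_mem_RR h.symm s ha)) hy

theorem Mon.L {g : G} {s : Equiv.Perm I} (h : S.Mon g s) {T' : Set I} (hT : ∀ i ∈ T, s i ∈ T')
    {y : G} (hy : y ∈ S.L T) : g * y * g⁻¹ ∈ S.L T' := by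
  have : S.L T ≤ (S.L T').comap (MulAut.conj g).toMonoidHom := (closure_le _).mpr
    fun y ⟨k, hk, hy⟩ => mem_L (hT k hk) (h.RR hy fun i hi _ => hT i hi)
  exact this hy

theorem Mon.A {g : G} {s : Equiv.Perm I} (h : S.Mon g s) (hab : F.D a b) {y : G}
    (hy : y ∈ S.A a b) : g * y * g⁻¹ ∈ S.A (s a) (s b) := by
  obtain ⟨c, -, h1, h2⟩ := h.exists_x hab
  exact A_le (fun u => h1 u ▸ x_mem_A _) (fun u => h2 u ▸ x_mem_A' _) hy

theorem h_eq_of_conj [Finite K] (hN : F.ND) {i j i' j' : I} (h' : F.D i' j') {g : G} {c : K}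
    (hc : c ≠ 0) (h1 : ∀ u, g * S.x i j u * g⁻¹ = S.x i' j' (c * u))
    (h2 : ∀ u, g * S.x j i u * g⁻¹ = S.x j' i' (c⁻¹ * u)) {t : K} (ht : t ≠ 0) :
    g * S.h i j t * g⁻¹ = S.h i' j' t := by
  have e : ∀ t, g * S.w i j t * g⁻¹ = S.w i' j' (c * t) := fun t => by
    rw [w, w, stW, stW, ← h1, show -(c * t)⁻¹ = c⁻¹ * -t⁻¹ by ring, ← h2]; group
  calc _ = (g * S.w i j t * g⁻¹) * (g * S.w i j (-1) * g⁻¹) := by rw [h, stH, w, w]; group
    _ = _ := by
      rw [e, e, w, w, (isR1 hN h').w_mul_w (mul_ne_zero hc ht) (by simpa), h]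
      congr 1; field_simp

theorem Mon.h [Finite K] (hN : F.ND) {g : G} {s : Equiv.Perm I} (h : S.Mon g s) (hab : F.D a b)
    {t : K} (ht : t ≠ 0) : g * S.h a b t * g⁻¹ = S.h (s a) (s b) t := by
  obtain ⟨c, hc, h1, h2⟩ := h.exists_x hab
  exact h_eq_of_conj hN (h.D hab) hc h1 h2 ht

theorem h_swap [Finite K] (hN : F.ND) (hab : F.D a b) {t : K} (ht : t ≠ 0) :
    S.h a b t = S.h (F.n b) (F.n a) (O.σ t) := by
  have := F.ε_ne a
  have := F.ε_ne b
  rw [h, stH, ← w, ← w, w_swap hab, w_swap hab, w, w,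
    (isR1 hN hab.symm.nl.nr).w_mul_w (sw_ne ht) (sw_ne (by simp)), h]
  congr 1; simp; field_simp

theorem h_symm [Finite K] (hN : F.ND) (hab : F.D a b) {t : K} (ht : t ≠ 0) :
    S.h b a t = S.h a b t⁻¹ := by
  have H := isR1 (S := S) hN hab
  rw [h, stH, H.w_swap ht, H.w_swap (by simp), H.w_mul_w (by simpa) (by simp), h]
  congr 1; simp

section Sym

variable (hT : ∀ i ∈ T, F.n i ∈ T)
include hT

theorem n_notMem {i : I} (h : i ∉ T) : F.n i ∉ T := fun h' => h (F.nn i ▸ hT _ h')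

theorem D_of_mem {i j : I} (hi : i ∉ T) (hj : j ∈ T) : F.D i j :=
  ⟨fun e => hi (e ▸ hj), fun e => n_notMem hT hi (e ▸ hj)⟩

theorem L_fix {g : G} (hg : g ∈ S.L T) {i : I} (hi : i ∉ T) : π g • F.e i = F.e i := by
  have : S.L T ≤ (MulAction.stabilizer O.U (F.e i)).comap π := (closure_le _).mpr
    fun y ⟨k, hk, hy⟩ => hy.2 i hi (D_of_mem hT hi hk).symm.2
  exact this hg

theorem L_conj {g : G} (hg : g ∈ S.L T) {k : I} (hk : k ∉ T) {y : G} (hy : y ∈ S.R k) :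
    g * y * g⁻¹ ∈ S.R k := by
  have : S.L T ≤ normalizer (S.R k : Set G) := le_normalizer_of_closure fun g ⟨j, hj, hg⟩ y hy =>
    ⟨conj_RR (D_of_mem hT hk hj).symm hg hk (n_notMem hT hk) hy, by
      simpa using conj_RR (D_of_mem hT hk hj).symm (inv_mem hg) hk (n_notMem hT hk) hy⟩
  exact (mem_normalizer_iff.mp (this hg) y).mp hy

theorem L_conj_RR {g : G} (hg : g ∈ S.L T) {k : I} (hk : k ∉ T) {y : G} (hy : y ∈ S.RR k T) :
    g * y * g⁻¹ ∈ S.RR k T :=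
  ⟨L_conj hT hg hk hy.1, fun i h1 h2 => by
    rw [map_mul, map_mul, mul_smul, mul_smul, L_fix hT (inv_mem hg) h1, hy.2 i h1 h2,
      L_fix hT hg h1]⟩

theorem L_conj_x {g : G} (hg : g ∈ S.L T) (ha : a ∉ T) {j k : I} (hj : j ∈ T) (hk : k ∈ T) {c d : K}
    (h1 : π g • F.e j = c • F.e k) (h2 : π g • F.e (F.n j) = d • F.e (F.n k)) :
    (∀ u, g * S.x a j u * g⁻¹ = S.x a k (c⁻¹ * u)) ∧
      ∀ u, g * S.x j a u * g⁻¹ = S.x k a (c⁻¹⁻¹ * u) := by
  have h3 : π g • F.e a = (1 : K) • F.e a := by rw [L_fix hT hg ha, one_smul]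
  have h4 : π g • F.e (F.n a) = (1 : K) • F.e (F.n a) := by
    rw [L_fix hT hg (n_notMem hT ha), one_smul]
  have haj := D_of_mem hT ha hj
  have hak := D_of_mem hT ha hk
  refine ⟨fun u => ?_, fun u => ?_⟩
  · rw [S.conj_x haj hak one_ne_zero h3 h1 h2 u (Or.inl (L_conj hT hg ha (S.x_mem haj u)))]
    congr 1; ring
  · rw [S.conj_x haj.symm hak.symm (line_n h1 h2).1 h1 h3 h4 u
      (Or.inr (L_conj hT hg (n_notMem hT ha) (S.x_mem' haj.symm u)))]
    congr 1; simp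

variable (hN : F.ND) (ha : a ∉ T)
include hN ha

theorem DD_le_normalizer {k : I} (hk : k ∉ T) :
    S.DD a T ≤ normalizer (S.RR k T : Set G) := by
  refine le_normalizer_of_closure ?_
  rintro g (hg | ⟨j, hj, t, ht, rfl⟩) y hy
  · exact ⟨L_conj_RR hT hg hk hy, by simpa using L_conj_RR hT (inv_mem hg) hk hy⟩
  · have := mon_h (S := S) hN (D_of_mem hT ha hj) ht
    exact ⟨this.RR hy fun i hi _ => hi, by simpa using this.inv.RR hy fun i hi _ => hi⟩

theorem DD_line {d : G} (hd : d ∈ S.DD a T) {k : I} (hk : k ∉ T) :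
    ∃ c : K, c ≠ 0 ∧ π d • F.e k = c • F.e k := by
  induction hd using closure_induction with
  | mem g hg =>
    rcases hg with hg | ⟨j, hj, t, ht, rfl⟩
    · exact ⟨1, one_ne_zero, by rw [L_fix hT hg hk, one_smul]⟩
    · exact (mon_h hN (D_of_mem hT ha hj) ht).lin' k
  | one => exact ⟨1, one_ne_zero, by simp⟩
  | mul g g' _ _ h1 h2 =>
    obtain ⟨c, hc, h1⟩ := h1
    obtain ⟨d, hd, h2⟩ := h2
    exact ⟨d * c, mul_ne_zero hd hc, by rw [map_mul, mul_smul, h2, U_smul, h1, smul_smul]⟩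
  | inv g _ h =>
    obtain ⟨c, hc, h⟩ := h
    exact ⟨_, inv_ne_zero hc, map_inv π g ▸ inv_smul_of_line hc h⟩

theorem DD_form {d : G} (hd : d ∈ S.DD a T) : ∃ l ∈ S.L T, S.Mon (l⁻¹ * d) 1 := by
  let H := closure {g | ∃ j ∈ T, ∃ t, t ≠ 0 ∧ g = S.h a j t}
  have h1 : ∀ g ∈ H, S.Mon g 1 := fun g hg => by
    induction hg using closure_induction with
    | mem g hg =>
      obtain ⟨j, hj, t, ht, rfl⟩ := hg
      exact mon_h hN (D_of_mem hT ha hj) ht
    | one => exact Mon.one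
    | mul g g' _ _ h1 h2 => simpa using h1.mul h2
    | inv g _ h => simpa using h.inv
  rw [DD, Subgroup.closure_union, closure_eq] at hd
  obtain ⟨l, hl, g, hg, rfl⟩ := exists_mul_of_mem_sup (le_normalizer_of_closure
    fun g hg y hy => ⟨(h1 g (subset_closure hg)).L (fun i hi => hi) hy, by
      simpa using (h1 g (subset_closure hg)).inv.L (fun i hi => hi) hy⟩) hd
  exact ⟨l, hl, by simpa using h1 g hg⟩

end Sym

variable (S) in
/-- The parabolic subgroup with radical at `k`. -/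
def P (k a : I) (T : Set I) : Subgroup G := S.RR k T ⊔ S.DD a T

variable (S) in
/-- The union of the double cosets. -/
def XX (a : I) (T : Set I) (z : G) : Prop := ∃ p ∈ S.P (F.n a) a T, ∃ p' ∈ S.P a a T, ∃ m,
  (m = 1 ∨ ∃ j ∈ T, m = S.w a j 1 ∨ m = S.w a j 1 * S.w a (F.n j) 1) ∧ z = p * m * p'

theorem P_R {k : I} {g : G} (h : g ∈ S.RR k T) : g ∈ S.P k a T := mem_sup_left h

theorem P_D {k : I} {g : G} (h : g ∈ S.DD a T) : g ∈ S.P k a T := mem_sup_right h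

theorem DD_L {g : G} (h : g ∈ S.L T) : g ∈ S.DD a T := subset_closure (Or.inl h)

theorem DD_h {j : I} (hj : j ∈ T) {t : K} (ht : t ≠ 0) : S.h a j t ∈ S.DD a T :=
  subset_closure (Or.inr ⟨j, hj, t, ht, rfl⟩)

theorem P_L {k : I} {g : G} (h : g ∈ S.L T) : g ∈ S.P k a T := P_D (DD_L h)

theorem XX.left {z p : G} (h : S.XX a T z) (hp : p ∈ S.P (F.n a) a T) : S.XX a T (p * z) := by
  obtain ⟨q, hq, q', hq', m, hm, rfl⟩ := h
  exact ⟨_, mul_mem hp hq, q', hq', m, hm, by group⟩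

theorem XX.right {z p : G} (h : S.XX a T z) (hp : p ∈ S.P a a T) : S.XX a T (z * p) := by
  obtain ⟨q, hq, q', hq', m, hm, rfl⟩ := h
  exact ⟨q, hq, _, mul_mem hq' hp, m, hm, by group⟩

theorem XX.conj {z g p : G} (h : S.XX a T (g * z)) (hp : g * p * g⁻¹ ∈ S.P (F.n a) a T) :
    S.XX a T (g * (p * z)) := by
  convert h.left hp using 1; group

theorem XX.conj' {z g p : G} (h : S.XX a T (z * g)) (hp : g⁻¹ * p * g ∈ S.P a a T) :
    S.XX a T (z * (p * g)) := by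
  convert h.right hp using 1; group

theorem XX_one : S.XX a T 1 := ⟨1, one_mem _, 1, one_mem _, 1, Or.inl rfl, by simp⟩

theorem XX_w {j : I} (hj : j ∈ T) : S.XX a T (S.w a j 1) :=
  ⟨1, one_mem _, 1, one_mem _, _, Or.inr ⟨j, hj, Or.inl rfl⟩, by simp⟩

section Main

variable (hT : ∀ i ∈ T, F.n i ∈ T) (ha : a ∉ T)
include hT ha

theorem RR_mem_P {k c : I} (hk : k ∈ T) (hc : c ∉ T) {T' : Set I} {y : G} (hy : y ∈ S.RR k T')
    (h : ∀ i ∈ T', F.D k i → i ∈ T ∨ i = F.n c) : y ∈ S.P c a T := by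
  have hkc := (D_of_mem hT hc hk).symm
  obtain ⟨s, h1, -⟩ := split hkc.nr hy
  have h2 := x_mem_RR' (S := S) hkc.nr s (hT k hk)
  rw [F.nn] at h2
  simpa using mul_mem (P_L (mem_L hk (RR_mono h1 fun i hi hd => (h i hi.1 hd).resolve_right hi.2)))
    (P_R h2)

theorem x_mem_Pm {j : I} (hj : j ∈ T) (s : K) : S.x j a s ∈ S.P (F.n a) a T :=
  P_R (x_mem_RR' (D_of_mem hT ha hj).symm s (hT j hj))

theorem sw_mem {j i : I} (hi : i ∈ T) (hd : F.D j i) : F.sw a j i ∈ T := by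
  rwa [sw_of_D (D_of_mem hT ha hi) hd]

variable [Finite K] (hN : F.ND)
include hN

theorem A_P {j : I} (hj : j ∈ T) {y : G} (hy : y ∈ S.A a j) : ∃ p ∈ S.P a a T,
    (∃ μ, y = S.x j a μ * p) ∨ y = S.w a j 1 * p := by
  have haj := D_of_mem hT ha hj
  have H := isR1 (S := S) hN haj
  obtain ⟨m, ν, ⟨t, ht, ⟨μ, rfl⟩ | rfl⟩, rfl⟩ := H.form hy
  · exact ⟨_, mul_mem (P_D (DD_h hj ht)) (P_R (x_mem_RR haj ν hj)), Or.inl ⟨μ, mul_assoc _ _ _⟩⟩
  · refine ⟨_, mul_mem (P_D (DD_h hj (inv_ne_zero ht))) (P_R (x_mem_RR haj ν hj)), Or.inr ?_⟩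
    rw [← mul_assoc, w, h, H.w_mul_h one_ne_zero (inv_ne_zero ht), inv_inv, one_mul]

theorem A_P' {j : I} (hj : j ∈ T) {y : G} (hy : y ∈ S.A a j) : ∃ p ∈ S.P (F.n a) a T,
    ∃ r ∈ S.RR a T, y = p * r ∨ y = p * S.w a j 1 * r := by
  have haj := D_of_mem hT ha hj
  have H := isR1 (S := S) hN haj
  obtain ⟨m, ν, ⟨t, ht, ⟨μ, rfl⟩ | rfl⟩, rfl⟩ := H.form hy
  · exact ⟨_, mul_mem (x_mem_Pm hT ha hj μ) (P_D (DD_h hj ht)), _, x_mem_RR haj ν hj, Or.inl rfl⟩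
  · exact ⟨_, P_D (DD_h hj ht), _, x_mem_RR haj ν hj, Or.inr (by rw [h, w, H.h_mul_w_one])⟩

theorem XX_A {j : I} (hj : j ∈ T) {y : G} (hy : y ∈ S.A a j) : S.XX a T y := by
  obtain ⟨p, hp, ⟨μ, rfl⟩ | rfl⟩ := A_P hT ha hN hj hy
  · simpa using (XX_one.left (x_mem_Pm hT ha hj μ)).right hp
  · exact (XX_w hj).right hp

theorem omega_conj {j : I} (hj : j ∈ T) {p : G} (hp : p ∈ S.P (F.n a) a T) :
    (S.w a j 1 * S.w a (F.n j) 1)⁻¹ * p * (S.w a j 1 * S.w a (F.n j) 1) ∈ S.P a a T := by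
  have haj := D_of_mem hT ha hj
  have M := ((mon_w (S := S) hN haj one_ne_zero).mul (mon_w hN haj.nr one_ne_zero)).inv
  rw [mul_inv_rev (F.sw a j), haj.sw_inv, haj.nr.sw_inv] at M
  set s := F.sw a (F.n j) * F.sw a j with hs
  have h1 : s a = F.n a := by
    rw [hs, Equiv.Perm.mul_apply, haj.sw_a, ← haj.nr.sw_nb, F.nn]
  have h2 : s (F.n a) = a := by rw [M.comm, h1, F.nn]
  have h3 : ∀ i ∈ T, s i ∈ T := fun i hi => by
    rw [hs, Equiv.Perm.mul_apply]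
    by_cases hd : F.D j i
    · rw [sw_of_D (D_of_mem hT ha hi) hd]; exact sw_mem hT ha hi hd.nl
    · obtain rfl | rfl : i = j ∨ i = F.n j := by simp only [D] at hd; tauto
      · rw [haj.sw_b, haj.nr.sw_a]; exact hT i hi
      · rw [haj.sw_nb, haj.nr.sw_na, F.nn]; exact hj
  have : S.P (F.n a) a T ≤ (S.P a a T).comap
      (MulAut.conj (S.w a j 1 * S.w a (F.n j) 1)⁻¹).toMonoidHom := by
    refine sup_le (fun y hy => P_R ?_) ((closure_le _).mpr ?_)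
    · have := M.RR hy fun i hi _ => h3 i hi
      rwa [h2] at this
    · rintro y (hy | ⟨k, hk, t, ht, rfl⟩)
      · exact P_L (M.L h3 hy)
      · have := M.h hN (D_of_mem hT ha hk) ht
        have hk' := D_of_mem hT ha (h3 k hk)
        rw [h1, h_swap hN hk'.nl ht, F.nn, h_symm hN hk'.nr (O.σ_ne ht)] at this
        have h4 : S.h a (F.n (s k)) (O.σ t)⁻¹ ∈ S.P a a T :=
          P_D (DD_h (hT _ (h3 k hk)) (inv_ne_zero (O.σ_ne ht)))
        rw [← this] at h4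
        exact h4
  simpa [mul_assoc] using this hp

theorem XX_w_A {b c : I} (hb : b ∈ T) (hc : c ∈ T) {y : G} (hy : y ∈ S.A a c) :
    S.XX a T (S.w a b 1 * y) := by
  have hab := D_of_mem hT ha hb
  have hac := D_of_mem hT ha hc
  have M := mon_w (S := S) hN hab one_ne_zero
  by_cases hd : F.D b c
  · have h1 : ∀ y ∈ S.A a c, S.XX a T (S.w a b 1 * (y * 1)) := fun y hy => by
      refine XX.conj (by simpa using XX_w hb) ?_
      have := M.A hac hy
      rw [hab.sw_a, sw_of_D hac hd] at this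
      exact P_L (A_le_L hd hb hc this)
    simpa using h1 y hy
  obtain rfl | rfl : c = b ∨ c = F.n b := by simp only [D] at hd; tauto
  · exact XX_A hT ha hN hb (mul_mem (w_mem_A 1) hy)
  obtain ⟨p, hp, ⟨μ, rfl⟩ | rfl⟩ := A_P hT ha hN hc hy
  · refine XX.conj ((XX_w hb).right hp) (P_R ?_)
    have := M.RR (x_mem_RR hac.symm μ (Set.mem_singleton a)) (T' := T) (by
      rintro i rfl -; rwa [hab.sw_a])
    rwa [hab.sw_nb] at this
  · exact ⟨1, one_mem _, p, hp, _, Or.inr ⟨b, hb, Or.inr rfl⟩, by group⟩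

theorem XX_w_omega {b j : I} (hb : b ∈ T) (hj : j ∈ T) :
    S.XX a T (S.w a b 1 * (S.w a j 1 * S.w a (F.n j) 1)) := by
  have hab := D_of_mem hT ha hb
  have haj := D_of_mem hT ha hj
  have M := mon_w (S := S) hN hab one_ne_zero
  have e : S.w a b 1 * S.w a b 1 ∈ S.DD a T := by
    rw [w, (isR1 hN hab).w_mul_w one_ne_zero one_ne_zero]
    exact DD_h hb (by simp)
  by_cases hd : F.D b j
  · refine XX.conj (XX_w_A hT ha hN hb (hT j hj) (w_mem_A 1)) ?_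
    have := M.A haj (w_mem_A 1)
    rw [hab.sw_a, sw_of_D haj hd] at this
    exact P_L (A_le_L hd hb hj this)
  obtain rfl | rfl : j = b ∨ j = F.n b := by simp only [D] at hd; tauto
  · rw [← mul_assoc]; exact (XX_w (hT j hj)).left (P_D e)
  · have h1 : S.w a b 1 * S.w a (F.n b) 1 * (S.w a b 1)⁻¹ ∈ S.A a (F.n b) := by
      refine A_le (fun s => ?_) (fun s => ?_) (w_mem_A 1)
      · obtain ⟨c, -, h1, -⟩ := M.exists_x haj
        rw [h1, hab.sw_a, hab.sw_nb, S.x_swap hab.symm.nr, F.nn]; exact x_mem_A _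
      · obtain ⟨c, -, -, h1⟩ := M.exists_x haj
        rw [h1, hab.sw_a, hab.sw_nb, S.x_swap hab.nl, F.nn]; exact x_mem_A' _
    rw [F.nn]
    convert (XX_A hT ha hN hj h1).right (P_D e) using 1
    group

omit hN ha [Finite K] in
theorem exists_decomp {l : G} (hl : l ∈ S.L T) {j k : I} (hj : j ∈ T) (hk : k ∈ T) {c : G}
    (hc : c ∈ S.L T) {μ : K} (h : π (c * l) • F.e j = μ • F.e (F.n k)) : ∃ r ∈ S.RR j T,
      ∃ d : K, π (c * l * r⁻¹) • F.e j = μ • F.e (F.n k) ∧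
        π (c * l * r⁻¹) • F.e (F.n j) = d • F.e k := by
  have hμ : μ ≠ 0 := fun h0 => F.e_ne j (by
    have := congrArg ((π (c * l))⁻¹ • ·) h
    simpa only [inv_smul_smul, h0, zero_smul, U_zero] using this)
  have h1 : O.B ((π (c * l))⁻¹ • F.e k) (F.e j) ≠ 0 := by
    rw [← B_U_right, h]; simp [hμ, B_n', F.ε_ne]
  obtain ⟨v, α, h2, h3, h4, h5⟩ := exists_T_smul_eq (F.sing j) (F.sing (F.n j)) (F.pair j)
    (by simpa using F.sing k) h1
  obtain ⟨r, hr, hr'⟩ := S.surj (k := j) ⟨h2, h3⟩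
  have hr2 : r ∈ S.RR j T := ⟨hr, fun i hi hi' => by
    rw [hr', Ok.fix_iff ⟨h2, h3⟩ hi']
    refine h4 _ ?_ (D_of_mem hT hi hj).symm.B (D_of_mem hT hi hj).nr.symm.B
    rw [← B_U_right, L_fix hT (mul_mem hc hl) hi, (D_of_mem hT hi hk).symm.B]⟩
  refine ⟨r, hr2, (O.B ((π (c * l))⁻¹ • F.e k) (F.e j) / O.B (F.e (F.n j)) (F.e j))⁻¹, ?_, ?_⟩
  · rw [map_mul, mul_smul, S.fix_self (inv_mem hr), h]
  · rw [← hr', ← mul_smul] at h5
    rw [← inv_smul_of_line (div_ne_zero h1 (F.pair j)) h5]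
    simp [mul_assoc]

theorem XX_w_L {b j : I} (hb : b ∈ T) (hj : j ∈ T) {l : G} (hl : l ∈ S.L T) {y : G}
    (hy : y ∈ S.A a j) : S.XX a T (S.w a b 1 * (l * y)) := by
  have hab := D_of_mem hT ha hb
  have haj := D_of_mem hT ha hj
  have M := mon_w (S := S) hN hab one_ne_zero
  set ξ := π l • F.e j with hξ
  have hξ1 : O.Λ ξ 0 := by simpa [hξ] using F.sing j
  have hξ2 : ∀ i ∉ T, O.B ξ (F.e i) = 0 := fun i hi => by
    rw [hξ, B_U_left, ← map_inv, L_fix hT (inv_mem hl) hi, (D_of_mem hT hi hj).symm.B]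
  have eich : ∀ k ∈ T, O.B ξ (F.e k) ≠ 0 → ∃ c ∈ S.RR k {i | O.B ξ (F.e i) ≠ 0},
      ∃ μ : K, π (c * l) • F.e j = μ • F.e (F.n k) := fun k hk h0 => by
    obtain ⟨v, α, h2, h3, h4, h5⟩ := exists_T_smul_eq (F.sing k) (F.sing (F.n k)) (F.pair k) hξ1 h0
    obtain ⟨c, hc, hc'⟩ := S.surj (k := k) ⟨h2, h3⟩
    refine ⟨c, ⟨hc, fun i hi hi' => ?_⟩, _, by rw [map_mul, mul_smul, hc', h5]⟩
    by_cases hik : i = k
    · rw [hik]; exact S.fix_self hc
    · rw [hc', Ok.fix_iff ⟨h2, h3⟩ hi']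
      exact h4 _ (not_not.mp hi) (F.orth hi') (D.nl ⟨hik, hi'⟩).B
  have hsub : ∀ i, O.B ξ (F.e i) ≠ 0 → i ∈ T := fun i h => by_contra fun hi => h (hξ2 i hi)
  obtain ⟨k, hk, c, hc, hc', μ, hμ⟩ : ∃ k ∈ T, ∃ c ∈ S.L T,
      S.w a b 1 * c⁻¹ * (S.w a b 1)⁻¹ ∈ S.P (F.n a) a T ∧
        ∃ μ : K, π (c * l) • F.e j = μ • F.e (F.n k) := by
    by_cases h1 : O.B ξ (F.e (F.n b)) ≠ 0
    · obtain ⟨c, hc, h2⟩ := eich _ (hT b hb) h1
      refine ⟨_, hT b hb, c, mem_L (hT b hb) (RR_mono hc fun i hi _ => hsub i hi), P_R ?_, h2⟩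
      have := M.RR (inv_mem hc) (T' := T) fun i hi hd => sw_mem hT ha (hsub i hi)
        (F.nn b ▸ hd.nl)
      rwa [hab.sw_nb] at this
    by_cases h2 : ∃ k, F.D b k ∧ O.B ξ (F.e k) ≠ 0
    · obtain ⟨k, hk, h2⟩ := h2
      obtain ⟨c, hc, h3⟩ := eich k (hsub k h2) h2
      refine ⟨k, hsub k h2, c, mem_L (hsub k h2) (RR_mono hc fun i hi _ => hsub i hi), ?_, h3⟩
      have := M.RR (inv_mem hc) (T' := insert a T) fun i hi _ => by
        by_cases hib : i = b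
        · rw [hib, hab.sw_b]; exact Set.mem_insert _ _
        · exact Set.mem_insert_of_mem _ (sw_mem hT ha (hsub i hi) ⟨hib, fun e => h1 (e ▸ hi)⟩)
      rw [sw_of_D (D_of_mem hT ha (hsub k h2)) hk] at this
      exact RR_mem_P hT ha (hsub k h2) (n_notMem hT ha) this fun i hi _ => by
        rw [F.nn]; exact hi.symm
    · refine ⟨b, hb, 1, one_mem _, by simp, O.B ξ (F.e b) / F.ε b, ?_⟩
      rw [one_mul, ← sub_eq_zero]
      refine F.aniso _ (fun i => ?_) (Λ_congr (O.add hξ1 (smul_zero' (-(O.B ξ (F.e b) / F.ε b))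
        (F.sing (F.n b)))) (by rw [neg_smul, sub_eq_add_neg]) (by
          simp [O.B_eq_zero_comm (not_not.mp h1)]))
      by_cases hib : i = b
      · simp [hib, B_n, F.ε_ne, hξ]
      · have : O.B ξ (F.e i) = 0 := by
          by_cases h : i = F.n b
          · exact h ▸ not_not.mp h1
          · exact not_not.mp fun h3 => h2 ⟨i, ⟨hib, h⟩, h3⟩
        simp [← hξ, this, F.orth (i := F.n b) (j := i) (by rwa [F.nn])]
  obtain ⟨r, hr, d, h1, h2⟩ := exists_decomp hT hl hj hk hc hμ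
  have hn : c * l * r⁻¹ ∈ S.L T := mul_mem (mul_mem hc hl) (inv_mem (mem_L hj hr))
  obtain ⟨h3, h4⟩ := L_conj_x hT hn ha hj (hT k hk) h1 (by rwa [F.nn])
  have key : ∀ y ∈ S.A a j, S.XX a T (S.w a b 1 * (c * l * r⁻¹) * y) := fun y hy => by
    have := (XX_w_A hT ha hN hb (hT k hk) (A_le (fun s => h3 s ▸ x_mem_A _)
      (fun s => h4 s ▸ x_mem_A' _) hy)).right (P_L hn)
    convert this using 1
    group
  rw [show l * y = c⁻¹ * (c * l * r⁻¹ * (r * y)) by group]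
  refine XX.conj ?_ hc'
  rw [← mul_assoc]
  obtain ⟨p, hp, ⟨ν, rfl⟩ | rfl⟩ := A_P hT ha hN hj hy
  · rw [← mul_assoc r, ← mul_assoc]
    refine (XX.conj' (key _ (x_mem_A' ν)) (P_L (mem_L hj ⟨mul_mem (mul_mem (inv_mem
      (S.x_mem haj.symm ν)) hr.1) (S.x_mem haj.symm ν), fun i hi hi' => ?_⟩))).right hp
    obtain ⟨s, hs⟩ := S.exists_smul (S.x_mem haj.symm ν) hi'
    rw [map_mul, map_mul, map_inv, mul_smul, mul_smul, hs, U_add, U_smul, hr.2 i hi hi',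
      S.fix_self hr.1, ← hs, inv_smul_smul]
  · rw [← mul_assoc r, ← mul_assoc]
    refine (XX.conj' (key _ (w_mem_A 1)) (P_R ?_)).right hp
    have := (mon_w (S := S) hN haj one_ne_zero).inv.RR hr (T' := T) fun i hi hd => by
      rw [haj.sw_inv]; exact sw_mem hT ha hi hd
    rwa [haj.sw_inv, haj.sw_b, inv_inv] at this

theorem XX_x {b : I} (hb : b ∈ T) (t : K) {z : G} (hz : S.XX a T z) : S.XX a T (S.x a b t * z) := by
  have hab := D_of_mem hT ha hb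
  obtain ⟨p, hp, p', hp', m, hm, rfl⟩ := hz
  rw [← mul_assoc]
  refine XX.right ?_ hp'
  have H := isR1 (S := S) hN hab
  by_cases hω : ∃ j ∈ T, m = S.w a j 1 * S.w a (F.n j) 1
  · obtain ⟨j, hj, rfl⟩ := hω
    refine XX.conj' ?_ (omega_conj hT ha hN hj hp)
    by_cases ht : t = 0
    · exact ⟨1, one_mem _, 1, one_mem _, _, Or.inr ⟨j, hj, Or.inr rfl⟩, by simp [ht, H.x_zero]⟩
    have := (((XX_w_omega (S := S) hT ha hN hb hj).left (P_D (DD_h hb ht))).left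
      (x_mem_Pm hT ha hb t⁻¹)).right (omega_conj hT ha hN hj (x_mem_Pm hT ha hb t⁻¹))
    convert this using 1
    rw [← mul_assoc (S.h a b t), show S.h a b t * S.w a b 1 = S.w a b t from H.h_mul_w_one t,
      show S.w a b t = _ from H.w_eq ht, H.y_neg]; group
  obtain ⟨c, hc, d, hd, rfl⟩ := exists_mul_of_mem_sup
    (DD_le_normalizer hT hN ha (n_notMem hT ha)) hp
  obtain ⟨s, h1, -⟩ := split hab.nl.nr hc
  have h2 : S.x a b t * (c * (S.x (F.n a) (F.n b) s)⁻¹) * (S.x a b t)⁻¹ ∈ S.P (F.n a) a T := by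
    obtain ⟨c', h3, h4⟩ := conj_key hab.nl.nr h1 (by simp) (S.x_mem' hab t)
    have h5 := RR_mem_P hT ha (hT b hb) (n_notMem hT ha) (T' := insert a T)
      ⟨h4, fun i hi hi' => ?_⟩ fun i hi _ => by rw [F.nn]; exact hi.symm
    · simpa using mul_mem (P_R (RR_mono h3 fun i hi _ => hi.1.1)) h5
    simp only [Set.mem_insert_iff, not_or] at hi
    obtain ⟨u, hu⟩ := S.exists_smul (inv_mem (S.x_mem' hab t)) hi'
    have hi2 : i ≠ F.n (F.n a) := by rw [F.nn]; exact hi.1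
    rw [map_mul, map_mul, map_mul, mul_smul, mul_smul, mul_smul, hu, U_add, U_smul,
      h1.2 i (fun h => hi.2 h.1) hi2, h1.2 _ (by simp) hab.nl.nr.2, ← hu, map_inv (f := π)
        (S.x a b t), smul_inv_smul, map_inv, inv_smul_eq_iff, h3.2 i (fun h => hi.2 h.1.1) hi2]
  rw [show c * d * m = c * (S.x (F.n a) (F.n b) s)⁻¹ * (S.x (F.n a) (F.n b) s * (d * m)) by group]
  refine XX.conj ?_ h2
  obtain ⟨q, hq, r, hr, h3⟩ := A_P' hT ha hN hb (y := S.x a b t * S.x (F.n a) (F.n b) s)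
    (mul_mem (x_mem_A t) (by rw [S.x_swap hab.nl.nr, F.nn, F.nn]; exact x_mem_A' _))
  have h4 : d⁻¹ * r * d ∈ S.RR a T := by
    simpa using (mem_normalizer_iff.mp (DD_le_normalizer hT hN ha ha (inv_mem hd)) r).mp hr
  obtain ⟨j, hj, y, hy, h5⟩ : ∃ j ∈ T, ∃ y ∈ S.A a j, y⁻¹ * (d⁻¹ * r * d * m) ∈ S.P a a T := by
    obtain rfl | ⟨j, hj, rfl | rfl⟩ := hm
    · exact ⟨b, hb, 1, one_mem _, by simpa using P_R h4⟩
    · have haj := D_of_mem hT ha hj
      obtain ⟨u, -, h6, -⟩ := split haj h4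
      refine ⟨j, hj, _, mul_mem (x_mem_A u) (w_mem_A 1), ?_⟩
      have := (mon_w (S := S) hN haj one_ne_zero).inv.RR h6 (T' := insert (F.n a) T)
        fun i hi hd => by
          rw [haj.sw_inv]
          by_cases h : i = F.n j
          · rw [h, haj.sw_nb]; exact Set.mem_insert _ _
          · exact Set.mem_insert_of_mem _ (sw_mem hT ha hi.1 ⟨hi.2, h⟩)
      rw [haj.sw_inv, haj.sw_a] at this
      convert RR_mem_P hT ha hj ha this fun i hi _ => hi.symm using 1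
      group
    · exact absurd ⟨j, hj, rfl⟩ hω
  rw [← mul_assoc]
  rcases h3 with h3 | h3 <;> rw [h3]
  · convert (((XX_A hT ha hN hj hy).right h5).left (P_D hd)).left hq using 1
    group
  · obtain ⟨l, hl, M⟩ := DD_form hT hN ha hd
    have := ((XX_w_L hT ha hN hb hj hl (M.A (D_of_mem hT ha hj) hy)).right
      (mul_mem (P_D (mul_mem (inv_mem (DD_L hl)) hd)) h5)).left hq
    convert this using 1
    group

end Main

end CSt

end Cfsg.Agent.H6
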