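import Cfsg.Agent.H6.CKer
import Mathlib.Data.Set.Card

/-! Descent to rank one in a Steinberg system. -/

set_option autoImplicit false

namespace Cfsg.Agent.H6

open OF Subgroup

variable {K V I G : Type*} [Field K] [AddCommGroup V] [Module K V] [Group G]

namespace CSt

open Frame

variable {O : OF K V} {F : Frame O I} {π : G →* O.U} {S : CSt F π} {T : Set I} {a b : I}

theorem RR_le_of (h : F.D a b) {H : Subgroup G} (h1 : ∀ s, S.x a b s ∈ H)
    (h2 : ∀ s, S.x a (F.n b) s ∈ H)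
    (h3 : ∀ y ∈ S.RR b T, π y • F.e a = F.e a → π y • F.e (F.n a) = F.e (F.n a) →
      y * S.x a b (-1) * y⁻¹ ∈ H) {g : G} (hg : g ∈ S.RR a T) : g ∈ H := by
  obtain ⟨s, h4, -⟩ := split h hg
  obtain ⟨s', h5, -⟩ := split h.nr h4
  set g' := g * (S.x a b s)⁻¹ * (S.x a (F.n b) s')⁻¹ with hg'
  obtain ⟨u, α, h6, h7⟩ := S.img h5.1
  have h8 : ∀ i ∉ (T \ {b}) \ {F.n b}, O.B u (F.e i) = 0 := fun i hi => by
    by_cases e : i = F.n a
    · rw [e]; exact h6.perp'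
    · exact (h6.fix_iff e).mp (h7 ▸ h5.2 i hi e)
  have h9 : F.Ok b u α := ⟨⟨F.sing b, h8 _ (by simp), h6.mem⟩, h8 _ (by simp)⟩
  obtain ⟨y, hy, hy'⟩ := S.surj h9
  have ya : π y • F.e a = F.e a := hy' ▸ (h9.fix_iff h.symm.2).mpr h6.perp
  have yn : π y • F.e (F.n a) = F.e (F.n a) := hy' ▸ (h9.fix_iff h.symm.nr.2).mpr h6.perp'
  have h10 := h3 y ⟨hy, fun i hi hi' => hy' ▸ (h9.fix_iff hi').mpr (h8 i fun h => hi h.1.1)⟩ ya yn
  have h11 : y * S.x a b (-1) * y⁻¹ =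
      S.x a b (-1) * S.x a (F.n b) (-O.σ (α * F.ε (F.n b))) * g' := by
    refine S.ext (S.conj h.symm hy ya yn (S.x_mem h _))
      (mul_mem (mul_mem (S.x_mem h _) (S.x_mem h.nr _)) h5.1) ?_
    have e1 := h.ok_xv (-1)
    have e2 := h.nr.ok_xv (-O.σ (α * F.ε (F.n b)))
    rw [map_mul, map_mul, map_mul, map_mul, map_inv, S.π_x h, S.π_x h.nr, h7, xT, xT, e1.conj_T,
      e1.T_mul e2.toOk, (e1.add e2).T_mul h6.toOk, ya]
    have := F.ε_ne b
    have := F.ε_ne (F.n b)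
    have := O.σ_ne (F.ε_ne b)
    congr 1
    · simp only [xv, U_smul, hy', h9.T_en, F.nn, map_neg, O.σσ, map_one]
      match_scalars <;> field_simp
    · simp only [xv, F.nn, map_neg, O.σσ, map_one, map_smulₛₗ, LinearMap.smul_apply, smul_eq_mul,
        B_n', map_add, h9.perp, h9.perp', F.ε_n, map_div₀, RingHom.id_apply]
      field_simp
      linear_combination (α * O.σ (F.ε b)) * O.ηη
  have h12 : g = (S.x a (F.n b) (-O.σ (α * F.ε (F.n b))))⁻¹ * (S.x a b (-1))⁻¹ *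
      (y * S.x a b (-1) * y⁻¹) * S.x a (F.n b) s' * S.x a b s := by rw [h11, hg']; group
  rw [h12]
  exact mul_mem (mul_mem (mul_mem (mul_mem (inv_mem (h2 _)) (inv_mem (h1 _))) h10) (h2 _)) (h1 _)

section Step

variable (hT : ∀ i ∈ T, F.n i ∈ T) (ha : a ∉ T) [Finite K] (hN : F.ND) (hb : b ∈ T)
include hT ha hN hb

theorem XX_of_mem {g : G} (hg : g ∈ S.L (insert a (insert (F.n a) T))) : S.XX a T g := by
  let Z : Subgroup G :=
    { carrier := {g | ∀ z, S.XX a T z ↔ S.XX a T (g * z)}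
      one_mem' := fun z => by rw [one_mul]
      mul_mem' := fun {g h} hg hh z => by rw [mul_assoc, ← hg, ← hh]
      inv_mem' := fun {g} hg z => by rw [hg (g⁻¹ * z), mul_inv_cancel_left] }
  have mk : ∀ H : Subgroup G, (∀ g ∈ H, ∀ z, S.XX a T z → S.XX a T (g * z)) → H ≤ Z :=
    fun H hH g hg z => ⟨hH g hg z, fun h => by simpa using hH _ (inv_mem hg) _ h⟩
  have hk : ∀ k ∈ T, S.RR k (insert a (insert (F.n a) T)) ≤ Z := fun k hk => mk _ fun g hg z hz => by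
    have hak := D_of_mem hT ha hk
    obtain ⟨s, h1, -⟩ := split hak.symm.nr hg
    have h2 := XX_x hT ha hN (hT k hk) (-(F.ε k * O.σ s / F.ε (F.n a))) hz
    have h3 := S.x_swap hak.symm.nr s
    rw [F.nn] at h3
    rw [← h3] at h2
    have := h2.left (RR_mem_P hT ha hk (n_notMem hT ha) h1 fun i hi _ => by
      rw [F.nn]
      obtain ⟨rfl | rfl | h, h'⟩ := hi
      exacts [Or.inr rfl, absurd rfl h', Or.inl h])
    simpa [mul_assoc] using this
  have hx : ∀ j ∈ T, ∀ s, S.x a j s ∈ Z := fun j hj s =>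
    hk _ (hT j hj) (x_mem_RR' (D_of_mem hT ha hj) s (by simp))
  have : S.L (insert a (insert (F.n a) T)) ≤ Z := by
    refine (closure_le _).mpr ?_
    rintro g ⟨k, rfl | rfl | hk', hg⟩
    · exact RR_le_of (D_of_mem hT ha hb) (hx b hb) (hx _ (hT b hb)) (fun y hy _ _ =>
        mul_mem (mul_mem (hk b hb hy) (hx b hb _)) (inv_mem (hk b hb hy))) hg
    · refine mk (S.RR (F.n a) T) (fun g hg z hz => hz.left (P_R hg)) (RR_mono hg fun i hi hd => ?_)
      obtain rfl | rfl | h := hi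
      exacts [absurd (F.nn i).symm hd.2, absurd rfl hd.1, h]
    · exact hk k hk' hg
  simpa using (this hg 1).mp XX_one

theorem mem_DD {g : G} (hg : g ∈ S.L (insert a (insert (F.n a) T))) {c d : K}
    (h1 : π g • F.e a = c • F.e a) (h2 : π g • F.e (F.n a) = d • F.e (F.n a)) : g ∈ S.DD a T := by
  obtain ⟨p, hp, p', hp', m, hm, rfl⟩ := XX_of_mem hT ha hN hb hg
  have hna := n_notMem hT ha
  obtain ⟨r, hr, e, he, rfl⟩ := exists_mul_of_mem_sup (DD_le_normalizer hT hN ha hna) hp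
  obtain ⟨r', hr', e', he', rfl⟩ := exists_mul_of_mem_sup (DD_le_normalizer hT hN ha ha) hp'
  obtain ⟨c1, hc1, h3⟩ := DD_line hT hN ha he' ha
  obtain ⟨c2, hc2, h4⟩ := DD_line hT hN ha (inv_mem he) hna
  have h5 : O.B (π m • F.e a) (F.e (F.n a)) ≠ 0 := by
    have := congrArg (fun x => O.B x (F.e (F.n a))) h1
    simp only [map_mul, mul_smul, h3, U_smul, S.fix_self hr'.1] at this
    rw [map_smul, LinearMap.smul_apply, B_U_left, ← map_inv, S.fix_self (inv_mem hr.1), B_U_left,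
      ← map_inv, h4, map_smulₛₗ] at this
    intro h0
    simp [h0, B_n', F.ε_ne, (line_n h1 h2).1] at this
  obtain rfl : m = 1 := by
    obtain h | ⟨j, hj, rfl | rfl⟩ := hm
    · exact h
    · have haj := D_of_mem hT ha hj
      simp [w_a haj one_ne_zero, haj.nl.symm.B] at h5
    · have haj := D_of_mem hT ha hj
      simp [mul_smul, w_a haj.nr one_ne_zero, w_nb haj one_ne_zero, F.B_ee] at h5
  have h6 := (mem_normalizer_iff.mp (DD_le_normalizer hT hN ha ha he) r').mp hr'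
  have hd := mul_mem he he'
  have e1 : r * e * 1 * (r' * e') = r * (e * r' * e⁻¹) * (e * e') := by group
  rw [e1] at h1 h2 ⊢
  obtain ⟨c3, hc3, h7⟩ := DD_line hT hN ha hd ha
  obtain ⟨c4, hc4, h8⟩ := DD_line hT hN ha hd hna
  obtain rfl : r = 1 := S.eq_one_of_line hr.1 (c := c3⁻¹ * c) (by
    rw [map_mul, mul_smul, h7, U_smul, map_mul, mul_smul, S.fix_self h6.1] at h1
    rw [F.nn, mul_smul, ← h1, inv_smul_smul₀ hc3])
  rw [one_mul] at h2 ⊢
  rwa [S.eq_one_of_line h6.1 (c := c4⁻¹ * d) (by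
    rw [map_mul, mul_smul, h8, U_smul] at h2
    rw [mul_smul, ← h2, inv_smul_smul₀ hc4]), one_mul]

theorem DD_eq {n : G} (hn : n ∈ S.L T) {c d : K} (h1 : π n • F.e b = c • F.e (F.n b))
    (h2 : π n • F.e (F.n b) = d • F.e b) {g : G} (hg : g ∈ S.DD a T) :
    ∃ t, t ≠ 0 ∧ (S.h a b t)⁻¹ * g ∈ S.L T := by
  have hab := D_of_mem hT ha hb
  have H := isR1 (S := S) hN hab
  have M := fun t (ht : t ≠ 0) => mon_h (S := S) hN hab ht
  induction hg using closure_induction with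
  | mem g hg =>
    rcases hg with hg | ⟨j, hj, t, ht, rfl⟩
    · exact ⟨1, one_ne_zero, by rwa [h, H.h_one, inv_one, one_mul]⟩
    obtain ⟨l, hl, c, d, h1, h2⟩ : ∃ l ∈ S.L T, ∃ c d : K, π l • F.e b = c • F.e j ∧
        π l • F.e (F.n b) = d • F.e (F.n j) := by
      by_cases hd : F.D b j
      · exact ⟨_, A_le_L hd hb hj (w_mem_A 1), _, _, w_a hd one_ne_zero, w_na hd one_ne_zero⟩
      obtain rfl | rfl : j = b ∨ j = F.n b := by simp only [D] at hd; tauto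
      · exact ⟨1, one_mem _, 1, 1, by simp, by simp⟩
      · exact ⟨n, hn, c, d, h1, by rwa [F.nn]⟩
    obtain ⟨h3, h4⟩ := L_conj_x hT hl ha hb hj h1 h2
    refine ⟨t, ht, ?_⟩
    rw [← h_eq_of_conj hN (D_of_mem hT ha hj) (inv_ne_zero (line_n h1 h2).1) h3 h4 ht]
    simpa [mul_assoc] using mul_mem ((M t ht).inv.L (fun i hi => hi) hl) (inv_mem hl)
  | one => exact ⟨1, one_ne_zero, by rw [h, H.h_one]; simp⟩
  | mul g g' _ _ e1 e2 =>
    obtain ⟨s, hs, e1⟩ := e1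
    obtain ⟨t, ht, e2⟩ := e2
    refine ⟨s * t, mul_ne_zero hs ht, ?_⟩
    rw [h, H.h_mul hs ht, ← h, ← h]
    simpa [mul_assoc] using mul_mem ((M t ht).inv.L (fun i hi => hi) e1) e2
  | inv g _ e =>
    obtain ⟨s, hs, e⟩ := e
    refine ⟨s⁻¹, inv_ne_zero hs, ?_⟩
    rw [h, H.h_inv hs, ← h]
    simpa [mul_assoc] using (M s hs).L (fun i hi => hi) (inv_mem e)

end Step

theorem descent [Finite K] [Finite I] (hN : F.ND) (hT : ∀ i ∈ T, F.n i ∈ T) (hb : b ∈ T) {n : G}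
    (hn : n ∈ S.L T) {c d : K} (h1 : π n • F.e b = c • F.e (F.n b))
    (h2 : π n • F.e (F.n b) = d • F.e b) {g : G} (hg : g ∈ S.L Set.univ)
    (h : ∀ i ∉ T, π g • F.e i = F.e i) : g ∈ S.L T := by
  suffices ∀ m, ∀ T' : Set I, T ⊆ T' → (∀ i ∈ T', F.n i ∈ T') → (T' \ T).ncard = m →
      g ∈ S.L T' → g ∈ S.L T from this _ _ (Set.subset_univ _) (fun _ _ => trivial) rfl hg
  intro m
  induction m using Nat.strong_induction_on with
  | _ m ih =>
  intro T' hsub hT' hm hg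
  by_cases h0 : T' ⊆ T
  · exact L_mono h0 hg
  obtain ⟨a, ha, ha'⟩ : ∃ a ∈ T', a ∉ T := Set.not_subset.mp h0
  have hna := n_notMem hT ha'
  have h3 : T ⊆ T' \ {a, F.n a} := fun i hi => ⟨hsub hi, by
    rintro (rfl | rfl)
    exacts [ha' hi, hna hi]⟩
  have h4 : ∀ i ∈ T' \ {a, F.n a}, F.n i ∈ T' \ {a, F.n a} := fun i hi => ⟨hT' i hi.1, by
    rintro (e | e)
    · exact hi.2 (Or.inr (by rw [← e, F.nn]; rfl))
    · exact hi.2 (Or.inl (F.n_inj e))⟩
  have h5 : a ∉ T' \ {a, F.n a} := by simp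
  have hlt : ((T' \ {a, F.n a}) \ T).ncard < (T' \ T).ncard :=
    Set.ncard_lt_ncard ⟨fun i hi => ⟨hi.1.1, hi.2⟩, fun h => h5 (@h a ⟨ha, ha'⟩).1⟩
  refine ih _ (hm ▸ hlt) _ h3 h4 rfl ?_
  obtain ⟨t, ht, h6⟩ := DD_eq h4 h5 hN (h3 hb) (L_mono h3 hn) h1 h2
    (mem_DD h4 h5 hN (h3 hb) (L_mono (fun i hi => by simp; tauto) hg) (c := 1) (d := 1)
      (by rw [h a ha', one_smul]) (by rw [h _ hna, one_smul]))
  have hab := D_of_mem h4 h5 (h3 hb)
  have h7 := L_fix h4 h6 h5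
  rw [map_mul, mul_smul, h a ha', map_inv, inv_smul_eq_iff, h_a hab ht] at h7
  obtain rfl : t = 1 := by
    by_contra h8
    exact F.e_ne a (by simpa [sub_eq_zero, h8] using
      show (t - 1) • F.e a = 0 by rw [sub_smul, ← h7, one_smul, sub_self])
  rwa [CSt.h, (isR1 hN hab).h_one, inv_one, one_mul] at h6

end CSt

end Cfsg.Agent.H6
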