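import Cfsg.Agent.H6.St2

/-! Generation of `SL_{n+1}` by the cyclically simple root groups. -/

set_option autoImplicit false

open Matrix

namespace Cfsg.Agent.H6

variable {K : Type*} [Field K]

theorem addSubgroup_eq_top_of_sq [Finite K] (A : AddSubgroup K) (h : ∀ s : K, s ^ 2 ∈ A) (t : K) :
    t ∈ A := by
  by_cases hc : ringChar K = 2
  · have := Fintype.ofFinite K
    obtain ⟨r, rfl⟩ := FiniteField.isSquare_of_char_two hc t
    rw [← sq]; exact h r
  · have h2 : (2 : K) ≠ 0 := Ring.two_ne_zero hc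
    rw [show t = ((t + 1) / 2) ^ 2 - ((t - 1) / 2) ^ 2 by field_simp; ring]
    exact A.sub_mem (h _) (h _)

/-- The parameters `t` with `x t` in a subgroup. -/
def famSub {G : Type*} [Group G] {x : K → G} (hx : ∀ t u, x (t + u) = x t * x u) (H : Subgroup G) :
    AddSubgroup K where
  carrier := {t | x t ∈ H}
  add_mem' {a b} ha hb := by
    change x (a + b) ∈ H
    rw [hx]; exact H.mul_mem ha hb
  zero_mem' := by
    change x 0 ∈ H
    rw [add_fam_zero hx]; exact H.one_mem
  neg_mem' {a} ha := by
    change x (-a) ∈ H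
    rw [add_fam_neg hx]; exact H.inv_mem ha

theorem eq_top_of_cyclic_roots {n : ℕ} (H : Subgroup (SpecialLinearGroup (Fin (n + 1)) K))
    (h : ∀ i t, slX K i (i + 1) t ∈ H) : H = ⊤ := by
  rw [eq_top_iff, ← stGG_slX_univ]
  have S := isSt0_slX (K := K) (ι := Fin (n + 1))
  have key : ∀ d : ℕ, d < n → ∀ (i : Fin (n + 1)) t, slX K i (i + Fin.ofNat _ (d + 1)) t ∈ H := by
    intro d
    induction d with
    | zero => intro _ i t; exact h i t
    | succ d ih =>
      intro hd i t
      have e : i + Fin.ofNat (n + 1) (d + 1 + 1) = i + Fin.ofNat (n + 1) (d + 1) + 1 := by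
        rw [add_assoc i]; congr 1
        apply Fin.ext
        simp [Fin.val_add]
      have h1 : ∀ k : ℕ, k < n → i ≠ i + Fin.ofNat (n + 1) (k + 1) := fun k hk h => by
        have := congrArg Fin.val (left_eq_add.mp h)
        simp only [Fin.ofNat, Fin.val_zero] at this
        rw [Nat.mod_eq_of_lt (by omega)] at this
        omega
      have h2 : ∀ j : Fin (n + 1), j ≠ j + 1 := fun j h => by
        have := congrArg Fin.val (left_eq_add.mp h)
        rw [Fin.val_one', Nat.mod_eq_of_lt (by omega)] at this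
        simp at this
      rw [← mul_one t, e, ← S.rel (h1 d (by omega)) (h2 _) (e ▸ h1 (d + 1) hd)]
      exact H.mul_mem (H.mul_mem (H.mul_mem (ih (by omega) _ _) (h _ _))
        (H.inv_mem (ih (by omega) _ _))) (H.inv_mem (h _ _))
  refine stGG_le fun i _ j _ hij t => ?_
  have h0 : (j - i).val ≠ 0 := fun h => hij (sub_eq_zero.mp (Fin.ext h)).symm
  have := key ((j - i).val - 1) (by have := (j - i).2; omega) i t
  rwa [Nat.sub_add_cancel (by omega), Fin.ofNat_val_eq_self, add_sub_cancel] at this

theorem cyc_conj {n : ℕ} (hn : 1 ≤ n) {w : SpecialLinearGroup (Fin (n + 1)) K}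
    (hw : w.val = Matrix.of (fun i j : Fin (n + 1) => if j.val = i.val + 1 then (1 : K) else
      if i.val = n ∧ j.val = 0 then (-1) ^ n else 0)) :
    ∃ ε : Fin (n + 1) → K, (∀ i, ε i * ε i = 1) ∧
      w.val = Matrix.of (fun i j => if j = i + 1 then ε i else 0) := by
  refine ⟨fun i => if i.val = n then (-1) ^ n else 1, fun i => ?_, ?_⟩
  · dsimp only
    split_ifs
    · rw [← mul_pow]; simp
    · simp
  · rw [hw]
    ext i j
    simp only [of_apply]
    have hj := j.2
    by_cases hi : i.val = n
    · have e : (i + 1).val = 0 := by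
        rw [Fin.val_add, Fin.val_one', Nat.mod_eq_of_lt (show 1 < n + 1 by omega), hi, Nat.mod_self]
      rw [if_neg (by omega), if_pos hi]
      by_cases h0 : j.val = 0
      · rw [if_pos ⟨hi, h0⟩, if_pos (Fin.ext (h0.trans e.symm))]
      · rw [if_neg (fun h => h0 h.2), if_neg (fun h : j = i + 1 => h0 (h ▸ e))]
    · have e : (i + 1).val = i.val + 1 := by
        have := i.2
        rw [Fin.val_add, Fin.val_one', Nat.mod_eq_of_lt (show 1 < n + 1 by omega),
          Nat.mod_eq_of_lt (by omega)]
      rw [if_neg hi, if_neg (fun h : i.val = n ∧ j.val = 0 => hi h.1)]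
      by_cases h0 : j.val = i.val + 1
      · rw [if_pos h0, if_pos (Fin.ext (h0.trans e.symm))]
      · rw [if_neg h0, if_neg (fun h : j = i + 1 => h0 (h ▸ e))]

theorem cyc_conj_slX {n : ℕ} {w : SpecialLinearGroup (Fin (n + 1)) K} {ε : Fin (n + 1) → K}
    (hε : ∀ i, ε i * ε i = 1) (hw : w.val = Matrix.of (fun i j => if j = i + 1 then ε i else 0))
    {i j : Fin (n + 1)} (hij : i ≠ j) (t : K) :
    w⁻¹ * slX K i j t * w = slX K (i + 1) (j + 1) (ε i * ε j * t) := by
  rw [mul_assoc, inv_mul_eq_iff_eq_mul]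
  apply Subtype.ext
  change (slX K i j t).val * w.val = w.val * (slX K (i + 1) (j + 1) _).val
  rw [slX_val hij, slX_val (fun h => hij (add_right_cancel h)), hw]
  ext a b
  by_cases ha : a = i
  · subst ha
    by_cases hb : b = j + 1
    · subst hb
      simp only [transvection_mul_apply_same, mul_transvection_apply_same, of_apply, if_true]
      linear_combination (-ε j * t) * hε a
    · simp [transvection_mul_apply_same, mul_transvection_apply_of_ne _ _ _ _ hb, hb]
  · by_cases hb : b = j + 1
    · subst hb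
      simp [transvection_mul_apply_of_ne _ _ _ _ ha, mul_transvection_apply_same, Ne.symm ha]
    · simp [transvection_mul_apply_of_ne _ _ _ _ ha, mul_transvection_apply_of_ne _ _ _ _ hb]

theorem eq_top_of_cyc {n : ℕ} (hn : 1 ≤ n) {w : SpecialLinearGroup (Fin (n + 1)) K}
    {ε : Fin (n + 1) → K} (hε : ∀ i, ε i * ε i = 1)
    (hw : w.val = Matrix.of (fun i j => if j = i + 1 then ε i else 0))
    (H : Subgroup (SpecialLinearGroup (Fin (n + 1)) K)) (hwH : w ∈ H)
    (h : ∀ t, slX K 0 1 t ∈ H) : H = ⊤ := by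
  have h2 : ∀ j : Fin (n + 1), j ≠ j + 1 := fun j h => by
    have := congrArg Fin.val (left_eq_add.mp h)
    rw [Fin.val_one', Nat.mod_eq_of_lt (by omega)] at this
    simp at this
  refine eq_top_of_cyclic_roots H fun i => ?_
  induction i using Fin.induction with
  | zero => simpa using h
  | succ i ih =>
    intro t
    have := cyc_conj_slX hε hw (h2 i.castSucc) (ε i.castSucc * ε (i.castSucc + 1) * t)
    rw [show ε i.castSucc * ε (i.castSucc + 1) * (ε i.castSucc * ε (i.castSucc + 1) * t) = t by
      linear_combination (ε (i.castSucc + 1) * ε (i.castSucc + 1) * t) * hε i.castSucc +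
        t * hε (i.castSucc + 1), Fin.coeSucc_eq_succ] at this
    rw [← this, ← Fin.coeSucc_eq_succ]
    exact H.mul_mem (H.mul_mem (H.inv_mem hwH) (ih _)) hwH

theorem diag_conj_slX {ι : Type*} [Fintype ι] [DecidableEq ι] {g : SpecialLinearGroup ι K}
    {d : ι → K} (hg : g.val = diagonal d) {i j : ι} (hij : i ≠ j) (t : K) :
    g * slX K i j t * g⁻¹ = slX K i j (d i * (d j)⁻¹ * t) := by
  have hd : d j ≠ 0 := SpecialLinearGroup.diagonal_neZero d (hg ▸ g.2) j
  rw [mul_inv_eq_iff_eq_mul]
  apply Subtype.ext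
  change g.val * (slX K i j t).val = (slX K i j _).val * g.val
  rw [slX_val hij, slX_val hij, hg]
  ext a b
  simp only [diagonal_mul, mul_diagonal, transvection, Matrix.add_apply, one_apply, single_apply]
  split_ifs with h1 h2 h2
  · exact absurd (h2.1.trans (h1.trans h2.2.symm)) hij
  · subst h1; ring
  · obtain ⟨rfl, rfl⟩ := h2; field_simp; ring
  · simp

end Cfsg.Agent.H6
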