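import Cfsg.Agent.H6.Pres
import Cfsg.Agent.H6.SLGen

/-! Root element families recovered from a few relations. -/

set_option autoImplicit false

open Polynomial
open scoped commutatorElement

namespace Cfsg.Agent.H6

variable {J K I ι : Type*} [Group J] [Field K]

theorem aeval_surj_of_gen [Finite K] {ζ : K} (hζ : ∀ t : K, t ≠ 0 → ∃ n : ℕ, ζ ^ n = t) :
    Function.Surjective (aeval ζ : ℤ[X] → K) := fun t => by
  by_cases ht : t = 0
  · exact ⟨0, by simp [ht]⟩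
  · obtain ⟨n, rfl⟩ := hζ t ht
    exact ⟨X ^ n, by simp⟩

theorem aeval_sq_surj_of_gen [Finite K] {ζ : K} (hζ : ∀ t : K, t ≠ 0 → ∃ n : ℕ, ζ ^ n = t) :
    Function.Surjective (aeval (ζ ^ 2) : ℤ[X] → K) := fun t => by
  refine addSubgroup_eq_top_of_sq (aeval (ζ ^ 2) : ℤ[X] →ₐ[ℤ] K).toAddMonoidHom.range
    (fun s => ?_) t
  by_cases hs : s = 0
  · exact ⟨0, by simp [hs]⟩
  · obtain ⟨n, rfl⟩ := hζ s hs
    exact ⟨X ^ n, by simp [← pow_mul, mul_comm]⟩

theorem exists_gen (K : Type*) [Field K] [Finite K] :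
    ∃ ζ : K, ζ ≠ 0 ∧ ∀ t : K, t ≠ 0 → ∃ n : ℕ, ζ ^ n = t := by
  obtain ⟨a, ha⟩ := IsCyclic.exists_monoid_generator (α := Kˣ)
  refine ⟨a, a.ne_zero, fun t ht => ?_⟩
  obtain ⟨n, hn⟩ := ha (Units.mk0 t ht)
  exact ⟨n, by simpa using congrArg Units.val hn⟩

/-- An additive family. -/
def AddF (x : K → J) : Prop := ∀ s t, x (s + t) = x s * x t

/-- Conjugation by `g` scales the parameter of the family `x` by `c`. -/
def Scales (g : J) (x : K → J) (c : K) : Prop := ∀ t, g * x t * g⁻¹ = x (c * t)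

theorem Scales.mul {g g' : J} {x : K → J} {c c' : K} (h : Scales g x c) (h' : Scales g' x c') :
    Scales (g * g') x (c * c') := fun t => by
  rw [mul_assoc c, ← h, ← h']; group

theorem Scales.inv {g : J} {x : K → J} {c : K} (h : Scales g x c) (hc : c ≠ 0) :
    Scales g⁻¹ x c⁻¹ := fun t => by
  have := h (c⁻¹ * t)
  rw [mul_inv_cancel_left₀ hc] at this
  rw [← this]; group

theorem Scales.pow {g : J} {x : K → J} {c : K} (h : Scales g x c) (n : ℕ) :
    Scales (g ^ n) x (c ^ n) := by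
  induction n with
  | zero => intro t; simp
  | succ n ih => rw [pow_succ, pow_succ]; exact ih.mul h

theorem Scales.commute {g : J} {x : K → J} (h : Scales g x 1) (t : K) : Commute g (x t) := by
  have := h t
  rw [one_mul, mul_inv_eq_iff_eq_mul] at this
  exact this

theorem scales_one {g : J} {x : K → J} (h : ∀ t, Commute g (x t)) : Scales g x 1 := fun t => by
  rw [(h t).eq, mul_inv_cancel_right, one_mul]

theorem fam_induction {θ : K} (hθ : Function.Surjective (aeval θ : ℤ[X] → K)) {P : K → Prop}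
    (h0 : P 0) (h1 : P 1) (hadd : ∀ s t, P s → P t → P (s + t)) (hneg : ∀ s, P s → P (-s))
    (hm : ∀ s, P s → P (θ * s)) (t : K) : P t :=
  span_induction_of_surj hθ
    { carrier := {t | P t}, zero_mem' := h0, add_mem' := fun {a b} => hadd a b,
      neg_mem' := fun {a} => hneg a } h1 hm t

theorem AddF.ext {θ : K} (hθ : Function.Surjective (aeval θ : ℤ[X] → K)) {x x' : K → J}
    (hx : AddF x) (hx' : AddF x') (h1 : x 1 = x' 1) {g : J} (hg : Scales g x θ)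
    (hg' : Scales g x' θ) (t : K) : x t = x' t :=
  fam_induction hθ (P := fun t => x t = x' t) (by rw [add_fam_zero hx, add_fam_zero hx']) h1
    (fun s t hs ht => by rw [hx, hx', hs, ht])
    (fun s hs => by rw [add_fam_neg hx, add_fam_neg hx', hs])
    (fun s hs => by rw [← hg, ← hg', hs]) t

theorem AddF.conj {x : K → J} (hx : AddF x) (c : J) : AddF fun t => c * x t * c⁻¹ := fun s t => by
  dsimp only
  rw [hx]; group

theorem AddF.smul {x : K → J} (hx : AddF x) (c : K) : AddF fun t => x (c * t) := fun s t => by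
  dsimp only
  rw [mul_add, hx]

/-- An element commuting with the scaling element acts by a scalar once it does so on `x 1`. -/
theorem AddF.scales {θ : K} (hθ : Function.Surjective (aeval θ : ℤ[X] → K)) {x : K → J}
    (hx : AddF x) {g c : J} (hg : Scales g x θ) (hc : Commute c g) {a : K}
    (h1 : c * x 1 * c⁻¹ = x a) : Scales c x a := by
  refine AddF.ext hθ (hx.conj c) (hx.smul a) (by simpa using h1) (g := g) (fun t => ?_)
    (fun t => by rw [hg, mul_left_comm])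
  rw [← hg]
  calc _ = (g * c) * x t * (g * c)⁻¹ := by group
    _ = _ := by rw [← hc.eq]; group

theorem AddF.scales_one {θ : K} (hθ : Function.Surjective (aeval θ : ℤ[X] → K)) {x : K → J}
    (hx : AddF x) {g c : J} (hg : Scales g x θ) (hc : Commute c g) (h1 : Commute c (x 1)) :
    Scales c x 1 :=
  hx.scales hθ hg hc (by rw [h1.eq, mul_inv_cancel_right])

theorem AddF.commute {θ : K} (hθ : Function.Surjective (aeval θ : ℤ[X] → K)) {x : K → J}
    (hx : AddF x) {g a : J} (hg : Scales g x θ) (ha : Commute g a) (h1 : Commute a (x 1)) (t : K) :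
    Commute a (x t) :=
  (hx.scales_one hθ hg ha.symm h1).commute t

theorem AddF.mem {θ : K} (hθ : Function.Surjective (aeval θ : ℤ[X] → K)) {x : K → J}
    (hx : AddF x) {g : J} (hg : Scales g x θ) {L : Subgroup J} [hL : L.Normal] (h1 : x 1 ∈ L)
    (t : K) : x t ∈ L :=
  span_induction_of_surj hθ (famSub hx L) h1 (fun t ht => by
    change x (θ * t) ∈ L
    rw [← hg]; exact hL.conj_mem _ ht _) t

theorem comm_mul_right {a b b' : J} (h : Commute b ⁅a, b'⁆) : ⁅a, b * b'⁆ = ⁅a, b⁆ * ⁅a, b'⁆ := by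
  calc _ = ⁅a, b⁆ * (b * ⁅a, b'⁆ * b⁻¹) := by simp only [commutatorElement_def]; group
    _ = _ := by rw [h.eq, mul_inv_cancel_right]

theorem AddF.comm_eq {a : J} {y z : K → J} (hy : AddF y) (hz : AddF z)
    (hc : ∀ s t, Commute (y s) (z t)) : (∀ s t, ⁅a, y s⁆ = z s → ⁅a, y t⁆ = z t →
      ⁅a, y (s + t)⁆ = z (s + t)) ∧ (⁅a, y 0⁆ = z 0) ∧
      ∀ s, ⁅a, y s⁆ = z s → ⁅a, y (-s)⁆ = z (-s) := by
  refine ⟨fun s t hs ht => ?_, by simp [add_fam_zero hy, add_fam_zero hz], fun s hs => ?_⟩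
  · rw [hy, comm_mul_right (ht ▸ hc s t), hs, ht, hz]
  · rw [add_fam_neg hy, add_fam_neg hz, ← hs]
    have := (hc s s).inv_left
    rw [← hs] at this
    calc _ = (y s)⁻¹ * ⁅a, y s⁆⁻¹ * y s := by simp only [commutatorElement_def]; group
      _ = _ := by rw [this.inv_right.eq, inv_mul_cancel_right]

theorem AddF.comm_eq_of_scales {θ : K} (hθ : Function.Surjective (aeval θ : ℤ[X] → K)) {a g : J}
    {y z : K → J} (hy : AddF y) (hz : AddF z) (hc : ∀ s t, Commute (y s) (z t))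
    (hgy : Scales g y θ) (hgz : Scales g z θ) (ha : Commute g a) (h1 : ⁅a, y 1⁆ = z 1) (t : K) :
    ⁅a, y t⁆ = z t := by
  obtain ⟨h2, h3, h4⟩ := AddF.comm_eq (a := a) hy hz hc
  refine fam_induction hθ (P := fun t => ⁅a, y t⁆ = z t) h3 h1 h2 h4 (fun s hs => ?_) t
  rw [← hgy, ← hgz, ← hs, conjugate_commutatorElement, ha.eq, mul_inv_cancel_right]

theorem commute_of_scales {ζ c : K} (hζ : ∀ t : K, t ≠ 0 → ∃ n : ℕ, ζ ^ n = t) (hc : c ≠ 0)
    {x y : K → J} (hx : AddF x) {g : J} (hgx : Scales g x ζ) (hgy : Scales g y c)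
    (h : ∀ t, Commute (x 1) (y t)) (s t : K) : Commute (x s) (y t) := by
  by_cases hs : s = 0
  · rw [hs, add_fam_zero hx]; exact Commute.one_left _
  obtain ⟨n, rfl⟩ := hζ s hs
  have := (h ((c ^ n)⁻¹ * t)).map (MulAut.conj (g ^ n))
  simp only [MulAut.conj_apply] at this
  rwa [hgx.pow n, hgy.pow n, mul_one, mul_inv_cancel_left₀ (pow_ne_zero n hc)] at this

theorem comm_of_scales {ζ c : K} (hζ : ∀ t : K, t ≠ 0 → ∃ n : ℕ, ζ ^ n = t) (hc : c ≠ 0)
    {x y z : K → J} (hx : AddF x) (hz : AddF z) {g : J} (hgx : Scales g x ζ) (hgy : Scales g y c)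
    (hgz : Scales g z (ζ * c)) (h : ∀ t, ⁅x 1, y t⁆ = z t) (s t : K) : ⁅x s, y t⁆ = z (s * t) := by
  by_cases hs : s = 0
  · simp [hs, add_fam_zero hx, add_fam_zero hz]
  obtain ⟨n, rfl⟩ := hζ s hs
  have := congrArg (fun a => g ^ n * a * (g ^ n)⁻¹) (h ((c ^ n)⁻¹ * t))
  simp only [conjugate_commutatorElement] at this
  rw [hgx.pow n, hgy.pow n, hgz.pow n, mul_one, mul_inv_cancel_left₀ (pow_ne_zero n hc)] at this
  rw [this]; congr 1
  field_simp
  ring

/-- A family of torus elements. -/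
structure TorF (cl : I → ι) (h : I → I → J) : Prop where
  ex3 : ∀ i j, ∃ k, cl i ≠ cl k ∧ cl j ≠ cl k
  t1 : ∀ {i j k}, cl i ≠ cl j → cl i ≠ cl k → cl j ≠ cl k → h i k = h i j * h j k
  t2 : ∀ {i j k}, cl i ≠ cl j → cl i ≠ cl k → cl j ≠ cl k → Commute (h i j) (h i k)

namespace TorF

variable {cl : I → ι} {h : I → I → J} (T : TorF cl h)
include T

theorem inv {i j : I} (hij : cl i ≠ cl j) : h j i = (h i j)⁻¹ := by
  obtain ⟨k, hik, hjk⟩ := T.ex3 i j
  have h1 := T.t1 hik.symm hjk.symm hij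
  have h2 := T.t1 hjk.symm hik.symm hij.symm
  rw [h2, mul_assoc, left_eq_mul] at h1
  exact eq_inv_of_mul_eq_one_left h1

theorem t3 {i j k : I} (hij : cl i ≠ cl j) (hik : cl i ≠ cl k) (hjk : cl j ≠ cl k) :
    Commute (h i j) (h j k) := by
  rw [T.inv hij.symm]; exact (T.t2 hij.symm hjk hik).inv_left

theorem t4 {i j k : I} (hij : cl i ≠ cl j) (hik : cl i ≠ cl k) (hjk : cl j ≠ cl k) :
    Commute (h i j) (h k j) := by
  rw [T.inv hjk]; exact (T.t3 hij hik hjk).inv_right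

theorem t5 {i j k : I} (hij : cl i ≠ cl j) (hik : cl i ≠ cl k) (hjk : cl j ≠ cl k) :
    Commute (h i j) (h k i) := by
  rw [T.inv hik]; exact (T.t2 hij hik hjk).inv_right

theorem t6 {i j k l : I} (hij : cl i ≠ cl j) (hik : cl i ≠ cl k) (hil : cl i ≠ cl l)
    (hjk : cl j ≠ cl k) (hjl : cl j ≠ cl l) (hkl : cl k ≠ cl l) : Commute (h i j) (h k l) := by
  rw [T.t1 hik.symm hkl hil]
  exact (T.t5 hij hik hjk).mul_right (T.t2 hij hil hjl)

end TorF

/-- Additive families on which a torus acts in the standard way. -/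
structure RootF (cl : I → ι) (h : I → I → J) (ζ : K) (x : I → I → K → J) : Prop where
  add : ∀ {i j}, cl i ≠ cl j → AddF (x i j)
  a1 : ∀ {i j k}, cl i ≠ cl j → cl i ≠ cl k → cl j ≠ cl k → Scales (h i k) (x i j) ζ
  a2 : ∀ {i j k}, cl i ≠ cl j → cl i ≠ cl k → cl j ≠ cl k → Scales (h k j) (x i j) ζ

/-- The base relations in rank at least three. -/
structure BaseF (cl : I → ι) (h u : I → I → J) : Prop where
  ex4 : ∀ i j k, ∃ l, cl i ≠ cl l ∧ cl j ≠ cl l ∧ cl k ≠ cl l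
  t3 : ∀ {i j k l}, cl i ≠ cl j → cl i ≠ cl k → cl i ≠ cl l → cl j ≠ cl k → cl j ≠ cl l →
    cl k ≠ cl l → Commute (u i j) (h k l)
  t4 : ∀ {i j k}, cl i ≠ cl j → cl i ≠ cl k → cl j ≠ cl k → Commute (u i j) (h i k * h j k)
  c1 : ∀ {i j k}, cl i ≠ cl j → cl i ≠ cl k → cl j ≠ cl k → ⁅u i j, u j k⁆ = u i k
  c2 : ∀ {i j k}, cl i ≠ cl j → cl i ≠ cl k → cl j ≠ cl k → Commute (u i j) (u i k)
  c3 : ∀ {i j k}, cl i ≠ cl j → cl i ≠ cl k → cl j ≠ cl k → Commute (u i j) (u k j)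

theorem conj_pow_eq_of_commute {a b u : J} (hab : Commute a b) (h : Commute u (a * b⁻¹)) (n : ℕ) :
    a ^ n * u * (a ^ n)⁻¹ = b ^ n * u * (b ^ n)⁻¹ := by
  have h1 := (h.pow_right n).eq
  rw [hab.inv_right.mul_pow, inv_pow] at h1
  have h2 := ((hab.pow_pow n n).inv_right).eq
  calc _ = b ^ n * ((b ^ n)⁻¹ * a ^ n * u) * (a ^ n)⁻¹ := by group
    _ = _ := by rw [← h2, ← h1, h2]; group

namespace BaseF

variable {cl : I → ι} {h u : I → I → J} (T : TorF cl h) (B : BaseF cl h u)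
include T B

theorem hc {i j l : I} (hij : cl i ≠ cl j) (hil : cl i ≠ cl l) (hjl : cl j ≠ cl l) (n : ℕ) :
    Commute (u i j) (h i l ^ n * u i j * (h i l ^ n)⁻¹) := by
  obtain ⟨k, hik, hjk, hlk⟩ := B.ex4 i j l
  have h1 : h i l ^ n * u i j * (h i l ^ n)⁻¹ =
      ⁅h l k ^ n * u i k * (h l k ^ n)⁻¹, u k j⁆ := by
    rw [← B.c1 hik hij hjk.symm, conjugate_commutatorElement,
      ← ((B.t3 hjk.symm hik.symm hlk.symm hij.symm hjl hil).pow_right n).eq, mul_inv_cancel_right,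
      conj_pow_eq_of_commute (T.t3 hil hik hlk)]
    rw [← T.inv hlk]
    exact B.t4 hik hil hlk.symm
  have h2 : Commute (u i j) (h l k ^ n * u i k * (h l k ^ n)⁻¹) := by
    have := (B.t3 hij hil hik hjl hjk hlk).pow_right n
    exact (this.mul_right (B.c2 hij hik hjk)).mul_right this.inv_right
  have h3 := B.c3 hij hik hjk
  rw [h1, commutatorElement_def]
  exact ((h2.mul_right h3).mul_right h2.inv_right).mul_right h3.inv_right

theorem exists_rootF {ζ : K} (hζ : Function.Surjective (aeval ζ : ℤ[X] → K)) {m : ℤ[X]}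
    (hm : ∀ P : ℤ[X], aeval ζ P = 0 → ∃ a b : ℤ[X], P = a * (ringChar K : ℤ[X]) + b * m)
    (hp : ∀ {i j}, cl i ≠ cl j → u i j ^ ringChar K = 1)
    (hw : ∀ {i j}, cl i ≠ cl j → ∃ k, cl i ≠ cl k ∧ cl j ≠ cl k ∧ polyWord m (h i k) (u i j) = 1) :
    ∃ x : I → I → K → J, RootF cl h ζ x ∧ (∀ {i j}, cl i ≠ cl j → x i j 1 = u i j) ∧
      ∀ {i j k l}, cl i ≠ cl j → cl i ≠ cl k → cl i ≠ cl l → cl j ≠ cl k → cl j ≠ cl l →
        cl k ≠ cl l → Scales (h k l) (x i j) 1 := by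
  have : ∀ i j, ∃ x : K → J, cl i ≠ cl j → AddF x ∧ x 1 = u i j ∧
      ∃ k, cl i ≠ cl k ∧ cl j ≠ cl k ∧ Scales (h i k) x ζ := fun i j => by
    by_cases hij : cl i ≠ cl j
    · obtain ⟨k, hik, hjk, h1⟩ := hw hij
      obtain ⟨x, h2, h3, h4⟩ := exists_addFam (B.hc T hij hik hjk) hζ hm (hp hij) h1
      exact ⟨x, fun _ => ⟨h2, h3, k, hik, hjk, h4⟩⟩
    · exact ⟨fun _ => 1, fun h => absurd h hij⟩
  choose x hx using this
  have a1 : ∀ {i j k}, cl i ≠ cl j → cl i ≠ cl k → cl j ≠ cl k → Scales (h i k) (x i j) ζ := by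
    intro i j k hij hik hjk
    obtain ⟨h1, h2, k0, hi0, hj0, h3⟩ := hx i j hij
    have step : ∀ {k k' : I}, cl i ≠ cl k → cl j ≠ cl k → cl i ≠ cl k' → cl j ≠ cl k' →
        cl k ≠ cl k' → Scales (h i k) (x i j) ζ → Scales (h i k') (x i j) ζ := by
      intro k k' hik hjk hik' hjk' hkk' h4
      have := h4.mul (h1.scales_one hζ h4 (T.t3 hik hik' hkk').symm
        (h2 ▸ (B.t3 hij hik hik' hjk hjk' hkk').symm))
      rwa [mul_one, ← T.t1 hik hik' hkk'] at this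
    by_cases h0 : cl k0 = cl k
    · obtain ⟨l, hil, hjl, hkl⟩ := B.ex4 i j k
      exact step hil hjl hik hjk hkl.symm (step hi0 hj0 hil hjl (h0 ▸ hkl) h3)
    · exact step hi0 hj0 hik hjk h0 h3
  refine ⟨x, ⟨fun hij => (hx _ _ hij).1, a1, fun {i j k} hij hik hjk => ?_⟩,
    fun hij => (hx _ _ hij).2.1, fun {i j k l} hij hik hil hjk hjl hkl => ?_⟩
  · obtain ⟨h1, h2, -⟩ := hx i j hij
    have h4 := a1 hij hik hjk
    have h5 := (h1.scales_one hζ h4 ((Commute.refl _).mul_left (T.t4 hik hij hjk.symm).symm)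
      (h2 ▸ (B.t4 hij hik hjk).symm)).inv one_ne_zero
    have := h5.mul h4
    rw [inv_one, one_mul, mul_inv_rev, inv_mul_cancel_right, ← T.inv hjk] at this
    exact this
  · obtain ⟨h1, h2, -⟩ := hx i j hij
    exact h1.scales_one hζ (a1 hij hik hjk) (T.t3 hik hil hkl).symm
      (h2 ▸ (B.t3 hij hik hil hjk hjl hkl).symm)

end BaseF

theorem RootF.a3 {cl : I → ι} {h : I → I → J} {ζ : K} {x : I → I → K → J} (R : RootF cl h ζ x)
    (T : TorF cl h) {i j : I} (hij : cl i ≠ cl j) : Scales (h i j) (x i j) (ζ ^ 2) := by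
  obtain ⟨k, hik, hjk⟩ := T.ex3 i j
  rw [T.t1 hik hij hjk.symm, sq]
  exact (R.a1 hij hik hjk).mul (R.a2 hij hik hjk)

/-- The type `A` commutator relations. -/
structure RelA (cl : I → ι) (x : I → I → K → J) : Prop where
  c1 : ∀ {i j k}, cl i ≠ cl j → cl i ≠ cl k → cl j ≠ cl k → ∀ s t,
    ⁅x i j s, x j k t⁆ = x i k (s * t)
  c2 : ∀ {i j k}, cl i ≠ cl j → cl i ≠ cl k → cl j ≠ cl k → ∀ s t, Commute (x i j s) (x i k t)
  c3 : ∀ {i j k}, cl i ≠ cl j → cl i ≠ cl k → cl j ≠ cl k → ∀ s t, Commute (x i j s) (x k j t)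

theorem RootF.relA {cl : I → ι} {h : I → I → J} {ζ : K} {x : I → I → K → J} (R : RootF cl h ζ x)
    (T : TorF cl h) (hζ0 : ζ ≠ 0) (hζ : ∀ t : K, t ≠ 0 → ∃ n : ℕ, ζ ^ n = t)
    (c1 : ∀ {i j k}, cl i ≠ cl j → cl i ≠ cl k → cl j ≠ cl k → ∀ t, ⁅x i j 1, x j k t⁆ = x i k t)
    (c2 : ∀ {i j k}, cl i ≠ cl j → cl i ≠ cl k → cl j ≠ cl k → ∀ t, Commute (x i j 1) (x i k t))
    (c3 : ∀ {i j k}, cl i ≠ cl j → cl i ≠ cl k → cl j ≠ cl k → ∀ t, Commute (x i j 1) (x k j t)) :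
    RelA cl x where
  c1 {i j k} hij hik hjk := comm_of_scales hζ hζ0 (R.add hij) (R.add hik) (R.a1 hij hik hjk)
    (R.a2 hjk hij.symm hik.symm) (sq ζ ▸ R.a3 T hik) (c1 hij hik hjk)
  c2 {i j k} hij hik hjk := commute_of_scales hζ (pow_ne_zero 2 hζ0) (R.add hij)
    (R.a1 hij hik hjk) (R.a3 T hik) (c2 hij hik hjk)
  c3 {i j k} hij hik hjk := commute_of_scales hζ (pow_ne_zero 2 hζ0) (R.add hij)
    (R.a2 hij hik hjk) (R.a3 T hjk.symm) (c3 hij hik hjk)

theorem BaseF.relA {cl : I → ι} {h u : I → I → J} (T : TorF cl h) (B : BaseF cl h u) [Finite K]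
    {ζ : K} (hζ0 : ζ ≠ 0) (hζ : ∀ t : K, t ≠ 0 → ∃ n : ℕ, ζ ^ n = t) {x : I → I → K → J}
    (R : RootF cl h ζ x) (h1 : ∀ {i j}, cl i ≠ cl j → x i j 1 = u i j)
    (h2 : ∀ {i j k l}, cl i ≠ cl j → cl i ≠ cl k → cl i ≠ cl l → cl j ≠ cl k → cl j ≠ cl l →
        cl k ≠ cl l → Scales (h k l) (x i j) 1) : RelA cl x := by
  have hs := aeval_surj_of_gen hζ
  have c2 : ∀ {i j k}, cl i ≠ cl j → cl i ≠ cl k → cl j ≠ cl k → ∀ t,
      Commute (x i j 1) (x i k t) := fun {i j k} hij hik hjk => by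
    obtain ⟨l, hil, hjl, hkl⟩ := B.ex4 i j k
    refine (R.add hik).commute hs (R.a2 hik hil hkl)
      ((h2 hij hil hik hjl hjk hkl.symm).commute 1) ?_
    rw [h1 hij, h1 hik]; exact B.c2 hij hik hjk
  have c3 : ∀ {i j k}, cl i ≠ cl j → cl i ≠ cl k → cl j ≠ cl k → ∀ t,
      Commute (x i j 1) (x k j t) := fun {i j k} hij hik hjk => by
    obtain ⟨l, hil, hjl, hkl⟩ := B.ex4 i j k
    refine (R.add hjk.symm).commute hs (R.a1 hjk.symm hkl hjl)
      ((h2 hij hik hil hjk hjl hkl).commute 1) ?_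
    rw [h1 hij, h1 hjk.symm]; exact B.c3 hij hik hjk
  refine R.relA T hζ0 hζ (fun {i j k} hij hik hjk => ?_) c2 c3
  obtain ⟨l, hil, hjl, hkl⟩ := B.ex4 i j k
  refine AddF.comm_eq_of_scales hs (R.add hjk) (R.add hik) ?_ (R.a2 hjk hjl hkl) (R.a2 hik hil hkl)
    ((h2 hij hil hik hjl hjk hkl.symm).commute 1) (by rw [h1 hij, h1 hjk, h1 hik, B.c1 hij hik hjk])
  exact commute_of_scales hζ (pow_ne_zero 2 hζ0) (R.add hjk) (R.a2 hjk hij.symm hik.symm)
    (R.a3 T hik) (c3 hjk hij.symm hik.symm)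

theorem RootF.c4 {cl : I → ι} {h : I → I → J} (T : TorF cl h) [Finite K] {ζ : K}
    (hζ : ∀ t : K, t ≠ 0 → ∃ n : ℕ, ζ ^ n = t) {x : I → I → K → J} (R : RootF cl h ζ x)
    {i j k l : I} (hij : cl i ≠ cl j) (hkl : cl k ≠ cl l) (h1 : Scales (h i j) (x k l) 1)
    (h2 : Scales (h k l) (x i j) 1) (h3 : Commute (x i j 1) (x k l 1)) (s t : K) :
    Commute (x i j s) (x k l t) := by
  have hs := aeval_sq_surj_of_gen hζ
  refine (R.add hkl).commute hs (R.a3 T hkl) (h2.commute s) ?_ t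
  exact ((R.add hij).commute hs (R.a3 T hij) (h1.commute 1) h3.symm s).symm

theorem RelA.isSt0 {x : I → I → K → J} (H : RelA id x) (add : ∀ {i j}, i ≠ j → AddF (x i j))
    (c4 : ∀ {i j k l}, i ≠ j → i ≠ k → i ≠ l → j ≠ k → j ≠ l → k ≠ l → ∀ s t,
      Commute (x i j s) (x k l t)) : IsSt0 x where
  add h := add h
  comm {i j k l} hij hkl hil hjk t u := by
    by_cases hik : i = k
    · subst hik
      by_cases hjl : j = l
      · subst hjl; exact add_fam_commute (add hij) t u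
      · exact H.c2 hij hil hjl t u
    · by_cases hjl : j = l
      · subst hjl; exact H.c3 hij hik hjk t u
      · exact c4 hij hik hil hjk hjl hkl t u
  rel hij hjl hil t u := H.c1 hij hil hjl t u

end Cfsg.Agent.H6
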