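import Cfsg.Agent.H6.CRoots
import Cfsg.Agent.H6.PresCore

/-! Lifting Steinberg systems to central extensions: abelian radicals. -/

set_option autoImplicit false

open scoped commutatorElement

namespace Cfsg.Agent.H6

open OF Subgroup Frame

variable {K V I G Q : Type*} [Field K] [AddCommGroup V] [Module K V] [Group G] [Group Q]

/-- Homomorphisms with central kernel. -/
def Cen (σ : G →* Q) : Prop := ∀ z, σ z = 1 → ∀ g, Commute z g

namespace Cen

variable {σ : G →* Q} (E : Cen σ)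
include E

theorem conj_congr {a a' : G} (h : σ a = σ a') (g : G) : a * g * a⁻¹ = a' * g * a'⁻¹ := by
  have := (E (a'⁻¹ * a) (by simp [h]) g).eq
  calc _ = a' * (a'⁻¹ * a * g) * a⁻¹ := by group
    _ = _ := by rw [this]; group

theorem comm_congr {a a' b b' : G} (ha : σ a = σ a') (hb : σ b = σ b') : ⁅a, b⁆ = ⁅a', b'⁆ := by
  rw [commutatorElement_def, commutatorElement_def, E.conj_congr ha]
  calc _ = a' * (b * a'⁻¹ * b⁻¹) := by group
    _ = _ := by rw [E.conj_congr hb]; group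

theorem lc_of {a b : G} (h : Commute a b) : LC σ (σ a) (σ b) := fun _ _ ha hb =>
  commutatorElement_eq_one_iff_commute.mp
    ((E.comm_congr ha hb).trans (commutatorElement_eq_one_iff_commute.mpr h))

theorem lc_conj {g y x : Q} (hy : y ∈ σ.range) (h1 : Commute y g) (h : LC σ g x) :
    LC σ g (y * x * y⁻¹) := by
  obtain ⟨y, rfl⟩ := hy
  intro a b ha hb
  have := (h (y⁻¹ * a * y) (y⁻¹ * b * y) (by
    rw [map_mul, map_mul, ha, map_inv, h1.inv_left.eq, inv_mul_cancel_right])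
    (by simp [hb, mul_assoc])).map (MulAut.conj y)
  simp only [MulAut.conj_apply] at this
  simpa [mul_assoc] using this

theorem lc_comm {g g1 g2 : Q} (m1 : g1 ∈ σ.range) (m2 : g2 ∈ σ.range) (h1 : Commute g g1)
    (h2 : Commute g g2) : LC σ g ⁅g1, g2⁆ := by
  obtain ⟨a1, rfl⟩ := m1
  obtain ⟨a2, rfl⟩ := m2
  rintro a b rfl hb
  have h := E.comm_congr (a := a * a1 * a⁻¹) (a' := a1) (b := a * a2 * a⁻¹) (b' := a2)
    (by simp [h1.eq]) (by simp [h2.eq])
  rw [← conjugate_commutatorElement, mul_inv_eq_iff_eq_mul] at h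
  exact E.lc_of h a b rfl (by rw [hb, map_commutatorElement])

theorem lc_one (g : Q) : LC σ g 1 := fun a b _ hb => (E b hb a).symm

theorem lc_mul {g x y : Q} (hx : x ∈ σ.range) (h1 : LC σ g x) (h2 : LC σ g y) :
    LC σ g (x * y) := by
  obtain ⟨x, rfl⟩ := hx
  intro a b ha hb
  simpa using (h1 a x ha rfl).mul_right (h2 a (x⁻¹ * b) ha (by simp [hb]))

omit E in
theorem _root_.Cfsg.Agent.H6.LC.inv {g g' : Q} (h : LC σ g g') : LC σ g g'⁻¹ := h.symm.inv_left.symm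

/-- The elements whose lifts commute with the lifts of `g`. -/
def sub (g : Q) : Subgroup Q where
  carrier := {x | x ∈ σ.range ∧ LC σ g x}
  one_mem' := ⟨one_mem _, E.lc_one g⟩
  mul_mem' h h' := ⟨mul_mem h.1 h'.1, E.lc_mul h.1 h.2 h'.2⟩
  inv_mem' h := ⟨inv_mem h.1, h.2.inv⟩

theorem lc_torus {g d : Q} {r : K → Q} (hr : ∀ t u, r (t + u) = r t * r u) (md : d ∈ σ.range)
    (mr : ∀ u, r u ∈ σ.range) (hgd : Commute g d) (hgr : ∀ u, Commute g (r u)) {c : K} (hc : c ≠ 1)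
    (hd : ∀ u, d * r u * d⁻¹ = r (c * u)) (u : K) : LC σ g (r u) := by
  have := E.lc_comm md (mr _) hgd (hgr (u / (c - 1)))
  have hc' := sub_ne_zero.mpr hc
  rwa [commutatorElement_def, hd, ← add_fam_neg hr, ← hr,
    show c * (u / (c - 1)) + -(u / (c - 1)) = u by field_simp; ring] at this

theorem pow_comm {a b : G} (h : σ ⁅a, b⁆ = 1) (n : ℕ) : ⁅a ^ n, b⁆ = ⁅a, b⁆ ^ n := by
  induction n with
  | zero => simp
  | succ n ih =>
    calc _ = a * ⁅a ^ n, b⁆ * a⁻¹ * ⁅a, b⁆ := by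
          simp only [commutatorElement_def, pow_succ']; group
      _ = _ := by rw [ih, ← ((E _ h a).pow_left n).eq, mul_inv_cancel_right, pow_succ]

theorem lc_swap {g g' m : Q} (hm : m ∈ σ.range) (hc : Commute g g') (h1 : m * g * m⁻¹ = g')
    (h2 : m * g' * m⁻¹ = g) (h3 : g ^ 3 = 1) : LC σ g g' := by
  obtain ⟨m, rfl⟩ := hm
  intro a b ha hb
  have hz : σ ⁅a, b⁆ = 1 := by
    rw [map_commutatorElement, ha, hb]; exact commutatorElement_eq_one_iff_commute.mpr hc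
  have e1 : ⁅a, b⁆ = ⁅b, a⁆ := by
    have := E.comm_congr (a := m * a * m⁻¹) (a' := b) (b := m * b * m⁻¹)
      (b' := a) (by simp [ha, hb, h1]) (by simp [ha, hb, h2])
    rwa [← conjugate_commutatorElement, ← (E _ hz _).eq, mul_inv_cancel_right] at this
  have e2 : ⁅a, b⁆ ^ 3 = 1 := by
    rw [← E.pow_comm hz, commutatorElement_eq_one_iff_commute]
    exact E _ (by rw [map_pow, ha, h3]) b
  rw [← commutatorElement_eq_one_iff_commute]
  have e3 : ⁅a, b⁆ ^ 2 = 1 := by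
    rw [sq]; nth_rewrite 1 [e1]; rw [← commutatorElement_inv a b, inv_mul_cancel]
  rwa [pow_succ, e3, one_mul] at e2

theorem beta {b g r X x : G} (e : σ (b * g * b⁻¹) = σ (X * r * g)) (h1 : Commute b x)
    (h2 : Commute X x) (h3 : Commute r ⁅g, x⁆) (h4 : Commute X ⁅g, x⁆) (h5 : Commute X ⁅r, x⁆) :
    b * ⁅g, x⁆ * b⁻¹ = ⁅g, x⁆ * ⁅r, x⁆ := by
  have h6 := E.conj_congr e x
  have h7 : b * ⁅g, x⁆ * b⁻¹ * x = b * g * b⁻¹ * x * (b * g * b⁻¹)⁻¹ := by
    calc _ = b * g * x * g⁻¹ * (x⁻¹ * b⁻¹ * x) := by rw [commutatorElement_def]; group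
      _ = b * g * (b⁻¹ * x * b) * g⁻¹ * b⁻¹ := by
        rw [← h1.inv_inv.eq, h1.inv_left.eq]; group
      _ = _ := by group
  have h8 : X * r * g * x * (X * r * g)⁻¹ = ⁅g, x⁆ * ⁅r, x⁆ * x := by
    calc _ = X * (r * ⁅g, x⁆ * r⁻¹ * ⁅r, x⁆ * x) * X⁻¹ := by
          simp only [commutatorElement_def]; group
      _ = _ := by
        rw [h3.eq, mul_inv_cancel_right, ((h4.mul_right h5).mul_right h2).eq, mul_inv_cancel_right]
  exact mul_right_cancel (h7.trans (h6.trans h8))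

end Cen

theorem mem_of_eq' {α β : Type*} [Membership α β] {a b : α} {S : β} (e : a = b) (h : b ∈ S) :
    a ∈ S := e ▸ h

/-- Central extensions of the elementary group. -/
structure PSt {O : OF K V} (F : Frame O I) (π : G →* O.U) : Prop where
  cen : Cen π
  le : F.E ≤ π.range

namespace PSt

variable {O : OF K V} {F : Frame O I} {π : G →* O.U} (P : PSt F π)
include P

open Classical in
/-- A chosen lift. -/
noncomputable def l (g : O.U) : G := if h : g ∈ F.E then (P.le h).choose else 1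

theorem π_l {g : O.U} (h : g ∈ F.E) : π (P.l g) = g := by
  rw [l, dif_pos h]; exact (P.le h).choose_spec

theorem π_x {i j : I} (h : F.D i j) (s : K) : π (P.l (F.xT i j s)) = F.xT i j s :=
  P.π_l (h.xT_mem s)

theorem π_T {k : I} {v : V} {α : K} (h : F.Ok k v α) :
    π (P.l (O.T (F.e k) v α)) = O.T (F.e k) v α := P.π_l h.mem_E

theorem induction [Finite I] {k : I} {T : Set I} {H : Subgroup G} (hz : π.ker ≤ H)
    (hx : ∀ j ∈ T, F.D k j → ∀ s, P.l (F.xT k j s) ∈ H)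
    (hy : ∀ u α, F.V0 u → O.Λ u α → P.l (O.T (F.e k) u α) ∈ H) {g : G}
    (hg : π g ∈ F.std.RR k T) : g ∈ H := by
  obtain ⟨a, ha, e⟩ := CSt.RR_induction (H := H.map π)
    (fun j hj hd s => ⟨_, hx j hj hd s, (P.π_x hd s).trans (std_x hd s).symm⟩) (fun y hy' => by
      obtain ⟨u, α, h1, h2, h3⟩ := CSt.Y_img hy'
      exact ⟨_, hy u α h1 h2, (P.π_T (h1.ok h2 k)).trans h3.symm⟩) hg
  simpa using mul_mem (hz (show π (g * a⁻¹) = 1 by simp [e])) ha

omit P in
/-- A Steinberg system from invariant complements in rank at least three. -/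
def ofInv (h3 : ∀ a b, ∃ c, F.D a c ∧ F.D b c) (R : I → Subgroup G)
    (img : ∀ {k g}, g ∈ R k → π g ∈ F.Q k)
    (surj : ∀ {k v α}, F.Ok k v α → ∃ g ∈ R k, π g = O.T (F.e k) v α)
    (inj : ∀ {k g}, g ∈ R k → π g = 1 → g = 1)
    (conj : ∀ {k j g y}, F.D k j → π g ∈ F.Q k → π g • F.e j = F.e j →
      π g • F.e (F.n j) = F.e (F.n j) → y ∈ R j → g * y * g⁻¹ ∈ R j) : CSt F π where
  R := R
  img := img
  surj := surj
  inj := inj
  conj h h1 := conj h (img h1)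
  swap {i j g} c h hg e := by
    obtain ⟨l, h1, h2⟩ := h3 i j
    obtain ⟨a, ha, ha'⟩ := surj (h1.ok_line c)
    obtain ⟨b, hb, hb'⟩ := surj (h2.ok_xv 1)
    have e1 := h2.xT_ne 1 h1.1.symm h.symm.2
    have e2 : π a • F.e j = F.e j := ha' ▸ ((h1.ok_line c).fix_iff h.2).mpr (by simp [h2.symm.B])
    have e3 : π a • F.e (F.n j) = F.e (F.n j) :=
      ha' ▸ ((h1.ok_line c).fix_iff h.nr.2).mpr (by simp [h2.symm.nr.B])
    have h4 : b * a * b⁻¹ * a⁻¹ ∈ R i := mul_mem (conj h.symm (img hb) (hb' ▸ e1)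
      (hb' ▸ h2.xT_ne 1 h1.nl.1.symm h.nl.symm.2) ha) (inv_mem ha)
    rw [mul_inv_eq_one.mp (inj (mul_mem hg (inv_mem h4)) ?_)]
    · simpa [mul_assoc] using mul_mem hb (conj h (img ha) e2 e3 (inv_mem hb))
    rw [map_mul, map_inv, mul_inv_eq_one, e, map_mul, map_mul, map_mul, map_inv, map_inv, ha', hb',
      ← xT, (h1.ok_line c).conj_T, e1, (h1.ok_line c).T_inv, Ok.T_mul _ (h1.ok_line c).inv.toOk]
    · congr 1
      · rw [U_smul, h2.xT_self]; module
      · simp [h2.xT_self, F.B_ee, h2.symm.B]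
    · simpa [e1] using (h1.ok_line c).toOk.map (F.xT j l 1)

section Delta

variable [Finite I] (h3 : ∀ a b, ∃ c, F.D a c ∧ F.D b c)
  (hκ : ∀ {k g g'}, g ∈ F.Q k → g' ∈ F.Q k → LC π g g')
  (hx : ∀ {i j k}, F.D i j → F.D i k → F.D j k → ∀ s {u α}, F.V0 u → O.Λ u α →
    LC π (F.xT i j s) (O.T (F.e k) u α))
  (hd : ∀ {i j k l}, F.D i j → F.D i k → F.D i l → F.D j k → F.D j l → F.D k l → ∀ s t,
    LC π (F.xT i j s) (F.xT k l t))

/-- Commutators of lifted root elements. -/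
noncomputable def FF (r l c : I) (t s : K) : G := ⁅P.l (F.xT r l t), P.l (F.xT l c s)⁆

omit [Finite I] in
theorem π_FF {r l c : I} (h1 : F.D r l) (h2 : F.D l c) (h4 : F.D r c) (t s : K) :
    π (P.FF r l c t s) = F.xT r c (t * s) := by
  rw [FF, map_commutatorElement, P.π_x h1, P.π_x h2, h1.comm_xT h2 h4]

omit [Finite I] in
include hκ hd in
theorem FF_jacobi {h i j k : I} (hi : F.D h i) (hj : F.D h j) (hk : F.D h k) (ij : F.D i j)
    (ik : F.D i k) (jk : F.D j k) (l m : K) : P.FF h j k l m = P.FF h i k 1 (l * m) := by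
  have hA := P.π_FF hi ij hj 1 l
  have hB := P.π_FF ij jk ik l m
  rw [one_mul] at hA
  have hC : π ⁅P.FF h i j 1 l, P.l (F.xT j k m)⁆ = F.xT h k (l * m) := by
    rw [map_commutatorElement, hA, P.π_x jk, hj.comm_xT jk hk]
  have := CExt.jacobi_aux (u := P.l (F.xT h i 1)) (v := P.l (F.xT i j l)) (w := P.l (F.xT j k m))
    (hd hi hj hk ij ik jk _ _ _ _ (P.π_x hi _) (P.π_x jk _))
    (hd hj hi hk ij.symm jk ik _ _ _ _ hA hB) (hκ (hk.xT_mem_Q' _) (ik.xT_mem_Q' _) _ _ hC hB)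
  calc _ = ⁅P.FF h i j 1 l, P.l (F.xT j k m)⁆ := P.cen.comm_congr (by rw [hA, P.π_x hj]) rfl
    _ = _ := this.symm
    _ = _ := P.cen.comm_congr rfl (by rw [P.π_x ik]; exact hB)

omit P [Finite I] in
theorem comm_YY {l c : I} (h : F.D l c) {u u' : V} {α α' : K} (hu : F.V0 u) (hu' : F.V0 u')
    (hα : O.Λ u α) (hα' : O.Λ u' α') : ⁅O.T (F.e l) u α, O.T (F.e (F.n c)) u' α'⁆ =
      F.xT l c (-(O.B u' u * O.σ (F.ε c))) := by
  rw [h.nr.comm_TT (hu.ok hα _) (hu'.ok hα' _) (hu _) (hu' _), h.T_line]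
  congr 1
  linear_combination (-O.B u' u * O.σ (F.ε c)) * O.ηη

omit [Finite I] in
include hκ hx in
theorem FF_beta {r l c : I} (h1 : F.D r l) (h2 : F.D l c) (h4 : F.D r c) {u u' : V} {α α' : K}
    (hu : F.V0 u) (hu' : F.V0 u') (hα : O.Λ u α) (hα' : O.Λ u' α') (t : K) :
    P.FF r l c t (-(O.B u' u * O.σ (F.ε c))) = ⁅P.l (O.T (F.e r) (O.σ t • u) (t * O.σ t * α)),
      P.l (O.T (F.e (F.n c)) u' α')⁆ := by
  have hu1 : F.V0 (O.σ t • u) := fun i => by simp [hu i]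
  have hα1 : O.Λ (O.σ t • u) (t * O.σ t * α) :=
    Λ_congr (O.smul (O.σ t) hα) rfl (by rw [O.σσ]; ring)
  have e1 := P.π_T (hu.ok hα l)
  have e2 := P.π_T (hu1.ok hα1 r)
  have e3 := P.π_T (hu'.ok hα' (F.n c))
  have e4 := P.π_T (h1.ok_line (O.σ t * α))
  have e5 := comm_YY h2 hu hu' hα hα'
  rw [← e1, ← e3, ← map_commutatorElement] at e5
  have e6 := comm_YY h4 hu1 hu' hα1 hα'
  rw [← e2, ← e3, ← map_commutatorElement] at e6
  have e7 := h1.symm.nr.T_line (O.σ t * α)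
  rw [F.nn] at e7
  have := P.cen.beta (b := P.l (F.xT r l t)) (X := P.l (O.T (F.e r) ((O.σ t * α) • F.e l) 0))
    (g := P.l (O.T (F.e l) u α)) (r := P.l (O.T (F.e r) (O.σ t • u) (t * O.σ t * α))) (by
      have := h1.conj_xT_T (hu.ok hα r) (hu.ok hα l) (-t)
      simp only [map_neg, neg_neg, mul_neg, neg_mul, h1.xT_neg] at this
      simp only [map_mul, map_inv, e1, e2, e4, P.π_x h1]
      rw [← mul_inv_eq_iff_eq_mul, mul_assoc, mul_assoc, ← eq_inv_mul_iff_mul_eq, ← mul_assoc, this,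
        mul_assoc])
    (hx h1 h4.nr h2.nr t hu' hα' _ _ (P.π_x h1 t) e3)
    (hx h1.symm.nr h2.nr h4.nl.nr _ hu' hα' _ _ (e4.trans e7) e3)
    (hx h2 h1.symm h4.symm _ hu1 hα1 _ _ e5 e2).symm
    (hκ (h1.symm.nr.xT_mem_Q _) (h2.xT_mem_Q _) _ _ (e4.trans e7) e5)
    (hκ ⟨_, _, h1.ok_line _, rfl⟩ (h4.xT_mem_Q _) _ _ e4 e6)
  rw [FF, P.cen.comm_congr rfl ((P.π_x h2 _).trans e5.symm), commutatorElement_def, this,
    (hκ (h2.xT_mem_Q' _) (h4.xT_mem_Q' _) _ _ e5 e6).eq, mul_inv_cancel_right]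

omit [Finite I] in
include hκ hx hd in
theorem FF_eq (h4 : (∀ a b c, ∃ d, F.D a d ∧ F.D b d ∧ F.D c d) ∨
    ∃ u u', F.V0 u ∧ F.V0 u' ∧ O.B u' u ≠ 0) {r l l' c : I} (h1 : F.D r l) (h2 : F.D l c)
    (h1' : F.D r l') (h2' : F.D l' c) (h : F.D r c) (t s : K) :
    P.FF r l c t s = P.FF r l' c 1 (t * s) := by
  rcases h4 with h4 | ⟨u, u', hu, hu', h0⟩
  · by_cases e : F.D l' l
    · exact P.FF_jacobi hκ hd h1' h1 h e h2' h2 t s
    obtain ⟨d, e1, e2, e3⟩ := h4 r l c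
    have e4 : F.D l' d := by
      rcases cases3 (F := F) l' l with rfl | rfl | h
      exacts [e2, F.nn l' ▸ e2.nl, absurd h e]
    rw [P.FF_jacobi hκ hd e1 h1 h e2.symm e3.symm h2,
      P.FF_jacobi hκ hd e1 h1' h e4.symm e3.symm h2', one_mul]
  · have := O.σ_ne (F.ε_ne c)
    let v := (-(s / (O.B u' u * O.σ (F.ε c)))) • u'
    have hv : F.V0 v := fun i => by simp [v, hu' i]
    obtain ⟨α, hα⟩ := O.ex u
    obtain ⟨α', hα'⟩ := O.ex v
    have e1 := P.FF_beta hκ hx h1 h2 h hu hv hα hα' t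
    have e2 := P.FF_beta hκ hx h1' h2' h (u := O.σ t • u) (fun i => by simp [hu i]) hv
      (Λ_congr (O.smul (O.σ t) hα) rfl (show _ = t * O.σ t * α by rw [O.σσ]; ring)) hα' 1
    simp only [map_one, one_smul, one_mul] at e2
    rw [← e2] at e1
    convert e1 using 2 <;> simp [v, O.σσ] <;> field_simp

include h3 hκ hx hd in
theorem exists_cst_delta (h4 : (∀ a b c, ∃ d, F.D a d ∧ F.D b d ∧ F.D c d) ∨
    ∃ u u', F.V0 u ∧ F.V0 u' ∧ O.B u' u ≠ 0) (hN : F.ND) : Nonempty (CSt F π) := by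
  choose τ hτ hτ' using id h3
  let X : I → I → K → G := fun r c s => P.FF r (τ r c) c 1 s
  have πX : ∀ {r c}, F.D r c → ∀ s, π (X r c s) = F.xT r c s := fun h s => by
    rw [P.π_FF (hτ _ _) (hτ' _ _).symm h, one_mul]
  have C1 : ∀ {r l c}, F.D r l → F.D l c → F.D r c → ∀ t s {a b}, π a = F.xT r l t →
      π b = F.xT l c s → ⁅a, b⁆ = X r c (t * s) := fun h1 h2 h t s a b ha hb =>
    (P.cen.comm_congr (ha.trans (P.π_x h1 t).symm) (hb.trans (P.π_x h2 s).symm)).trans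
      (P.FF_eq hκ hx hd h4 h1 h2 (hτ _ _) (hτ' _ _).symm h t s)
  have C2 : ∀ {r c}, F.D r c → ∀ {u u' α α'}, F.V0 u → F.V0 u' → O.Λ u α → O.Λ u' α' → ∀ {a b},
      π a = O.T (F.e r) u α → π b = O.T (F.e (F.n c)) u' α' →
      ⁅a, b⁆ = X r c (-(O.B u' u * O.σ (F.ε c))) := fun h u u' α α' hu hu' hα hα' a b ha hb => by
    have := P.FF_beta hκ hx (hτ _ _) (hτ' _ _).symm h hu hu' hα hα' 1
    simp only [map_one, one_smul, one_mul] at this
    exact (P.cen.comm_congr (ha.trans (P.π_T (hu.ok hα _)).symm)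
      (hb.trans (P.π_T (hu'.ok hα' _)).symm)).trans this.symm
  have comm : ∀ {k a b}, π a ∈ F.Q k → π b ∈ F.Q k → Commute a b := fun h h' =>
    hκ h h' _ _ rfl rfl
  have Xadd : ∀ {r c}, F.D r c → ∀ s t, X r c (s + t) = X r c s * X r c t := fun {r c} h s t => by
    have h1 := hτ r c
    have h2 := (hτ' r c).symm
    have e := C1 h1 h2 h 1 t (P.π_x h1 1) (P.π_x h2 t)
    rw [← one_mul (s + t), ← one_mul s, ← one_mul t, ← C1 h1 h2 h 1 s (P.π_x h1 1) (P.π_x h2 s), ← e,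
      ← C1 h1 h2 h 1 (1 * s + 1 * t) (P.π_x h1 1)
        (b := P.l (F.xT (τ r c) c s) * P.l (F.xT (τ r c) c t))
        (by rw [map_mul, P.π_x h2, P.π_x h2, one_mul, one_mul, h2.xT_add])]
    exact comm_mul_right (comm (mem_of_eq' (P.π_x h2 _) (h2.xT_mem_Q' _))
      (mem_of_eq' ((congrArg π e).trans (πX h _)) (h.xT_mem_Q' _)))
  have main : ∀ k, ∃ R : Subgroup G, (∀ g ∈ R, π g ∈ F.Q k) ∧
      (∀ {v α}, F.Ok k v α → ∃ g ∈ R, π g = O.T (F.e k) v α) ∧ (∀ g ∈ R, π g = 1 → g = 1) ∧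
      ∀ {j g y}, F.D j k → π g ∈ F.Q j → π g • F.e k = F.e k →
        π g • F.e (F.n k) = F.e (F.n k) → y ∈ R → g * y * g⁻¹ ∈ R := by
    intro k
    obtain ⟨c, rfl⟩ : ∃ c, F.n c = k := ⟨F.n k, F.nn k⟩
    obtain ⟨r, hr⟩ : ∃ r, F.D r c := ⟨_, (hτ c c).symm⟩
    have hr' := hr.symm.nl
    let x := P.l (F.xT (F.n c) r (-1))
    have πx : π x = _ := P.π_x hr' _
    let y : V → K → G := fun u α => ⁅P.l (O.T (F.e r) u α), x⁆ *
      (X r c (O.η * α * O.σ (F.ε c)))⁻¹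
    have πy : ∀ {u α}, F.V0 u → O.Λ u α → π (y u α) = O.T (F.e (F.n c)) u α := fun {u α} hu hα => by
      have := hr'.conj_xT_T (hu.ok hα _) (hu.ok hα r) (-1)
      simp only [map_neg, map_one, neg_neg, one_mul, one_smul, mul_neg, mul_one, hr.T_line] at this
      have h1 : ∀ {g g'}, g ∈ F.Q (F.n c) → g' ∈ F.Q (F.n c) → Commute g g' := fun h h' => by
        obtain ⟨a, rfl⟩ := P.le (Q_le_E _ h)
        obtain ⟨b, rfl⟩ := P.le (Q_le_E _ h')
        exact (comm h h').map π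
      have h2 : O.T (F.e (F.n c)) u α ∈ F.Q (F.n c) := ⟨_, _, hu.ok hα _, rfl⟩
      rw [map_mul, map_inv, map_commutatorElement, πX hr, πx, P.π_T (hu.ok hα r),
        commutatorElement_def, this, mul_assoc (F.xT (F.n c) r (-1)),
        (h1 (hr'.xT_mem_Q _) (mul_mem (hr.xT_mem_Q' _) h2)).eq, mul_inv_cancel_right,
        (h1 (hr.xT_mem_Q' _) h2).eq, mul_inv_cancel_right]
    have ymul : ∀ {u α u' α'}, F.V0 u → O.Λ u α → F.V0 u' → O.Λ u' α' →
        y (u + u') (α + α' - O.η * O.B u' u) = y u α * y u' α' := fun {u α u' α'} hu hα hu' hα' => by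
      have e1 := P.π_T (hu.ok hα r)
      have e2 := C2 hr hu hu' hα hα' e1 (πy hu' hα')
      have m1 : π (y u α) ∈ F.Q (F.n c) := ⟨_, _, hu.ok hα _, πy hu hα⟩
      have m2 : π (y u' α') ∈ F.Q (F.n c) := ⟨_, _, hu'.ok hα' _, πy hu' hα'⟩
      have m3 : ∀ s, π (X r c s) ∈ F.Q (F.n c) := fun s => πX hr s ▸ hr.xT_mem_Q' s
      have e3 := comm (k := r) ⟨_, _, hu.ok hα _, e1⟩
        (mem_of_eq' (πX hr (O.η * α' * O.σ (F.ε c))) (hr.xT_mem_Q _))
      have e4 : ∀ {u α}, ⁅P.l (O.T (F.e r) u α), x⁆ = y u α * X r c (O.η * α * O.σ (F.ε c)) :=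
        (inv_mul_cancel_right _ _).symm
      rw [← mul_left_inj (X r c (O.η * (α + α' - O.η * O.B u' u) * O.σ (F.ε c))), ← e4,
        P.cen.comm_congr (a' := P.l (O.T (F.e r) u α) * P.l (O.T (F.e r) u' α')) (by
          rw [map_mul, e1, P.π_T (hu'.ok hα' r), P.π_T ((hu.ok hα r).add (hu'.ok hα' r)),
            (hu.ok hα r).T_mul (hu'.ok hα' r).toOk]) rfl,
        show O.η * (α + α' - O.η * O.B u' u) * O.σ (F.ε c) = -(O.B u' u * O.σ (F.ε c)) +
          (O.η * α' * O.σ (F.ε c) + O.η * α * O.σ (F.ε c)) by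
            linear_combination (-O.B u' u * O.σ (F.ε c)) * O.ηη, Xadd hr, Xadd hr]
      set a := P.l (O.T (F.e r) u α)
      calc _ = ⁅a, y u' α'⁆ * y u' α' * (a * X r c (O.η * α' * O.σ (F.ε c)) * a⁻¹) * ⁅a, x⁆ := by
            rw [show ∀ b, ⁅a * b, x⁆ = a * ⁅b, x⁆ * a⁻¹ * ⁅a, x⁆ from fun b => by
              simp only [commutatorElement_def]; group, e4, commutatorElement_def a (y u' α')]
            group
        _ = _ := by
            rw [e2, e3.eq, mul_inv_cancel_right, e4, ← mul_assoc, (comm (m3 _) m2).eq,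
              ← (((comm m1 m2).mul_right (comm m1 (m3 _))).mul_right (comm m1 (m3 _))).eq]
            group
    have y0 : y 0 0 = 1 := by simp [y, T_zero, add_fam_zero (Xadd hr),
      (P.cen _ (P.π_l (one_mem _)) x).commutator_eq]
    let Y : Subgroup G :=
      { carrier := {g | ∃ u α, F.V0 u ∧ O.Λ u α ∧ g = y u α}
        one_mem' := ⟨0, 0, fun i => by simp, Λ_zero, y0.symm⟩
        mul_mem' := by
          rintro _ _ ⟨u, α, hu, hα, rfl⟩ ⟨u', α', hu', hα', rfl⟩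
          exact ⟨_, _, fun i => by simp [hu i, hu' i], O.add hα hα', (ymul hu hα hu' hα').symm⟩
        inv_mem' := by
          rintro _ ⟨u, α, hu, hα, rfl⟩
          have hu' : F.V0 (-u) := fun i => by simp [hu i]
          refine ⟨_, _, hu', OF.inv hα, inv_eq_of_mul_eq_one_right ?_⟩
          rw [← ymul hu hα hu' (OF.inv hα), ← y0]
          congr 1
          · simp
          · simp only [map_neg, LinearMap.neg_apply]
            linear_combination O.η * O.max hα - α * O.ηη }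
    let XS : I → Subgroup G := fun j =>
      { carrier := {g | F.D (F.n j) c → ∃ s, g = X (F.n j) c s}
        one_mem' := fun h => ⟨0, (add_fam_zero (Xadd h)).symm⟩
        mul_mem' := fun h h' hj => by
          obtain ⟨s, rfl⟩ := h hj
          obtain ⟨t, rfl⟩ := h' hj
          exact ⟨_, (Xadd hj s t).symm⟩
        inv_mem' := fun h hj => by
          obtain ⟨s, rfl⟩ := h hj
          exact ⟨_, (add_fam_neg (Xadd hj) s).symm⟩ }
    have hD : ∀ {j}, F.D (F.n c) j → F.D (F.n j) c := fun h => F.nn c ▸ h.symm.nl.nr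
    have mX : ∀ {j g}, F.D (F.n c) j → g ∈ XS j → π g ∈ F.Q (F.n c) := fun h hg => by
      obtain ⟨s, rfl⟩ := hg (hD h)
      exact πX (hD h) s ▸ (hD h).xT_mem_Q' s
    have H : Roots F π (F.n c) XS Y :=
      { imgX := fun {j g} h hg => by
          obtain ⟨s, rfl⟩ := hg (hD h)
          refine ⟨_, by rw [πX (hD h), (hD h).xT_swap, F.nn], fun e => ?_⟩
          obtain rfl : s = 0 := by simpa [F.ε_ne] using e
          exact add_fam_zero (Xadd (hD h))
        surjX := fun {j} h s => ⟨_, fun _ => ⟨_, rfl⟩, by rw [πX (hD h), h.xT_swap, F.nn]⟩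
        imgY := by
          rintro _ ⟨u, α, hu, hα, rfl⟩
          obtain ⟨g, h1, h2⟩ := F.std.Y_surj (F.n c) hu hα
          rwa [πy hu hα, ← h2]
        injY := by
          rintro _ ⟨u, α, hu, hα, rfl⟩ h
          obtain ⟨rfl, rfl⟩ := (hu.ok hα (F.n c)).eq_of_line (c := 1) (by rw [← πy hu hα, h]; simp)
          exact y0
        surjY := fun hu hα => ⟨_, ⟨_, _, hu, hα, rfl⟩, πy hu hα⟩
        commX := fun h h' hg hg' => (comm (mX h hg) (mX h' hg')).commutator_eq ▸ one_mem Y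
        normY := by
          rintro j g _ h hg ⟨u, α, hu, hα, rfl⟩
          rw [(comm (mX h hg) ⟨_, _, hu.ok hα _, πy hu hα⟩).eq, mul_inv_cancel_right]
          exact ⟨u, α, hu, hα, rfl⟩ }
    let R := RS XS Y {j | F.D (F.n c) j}
    have mR : ∀ g ∈ R, π g ∈ F.Q (F.n c) := fun g hg => (H.img (fun _ h => h) hg).1
    have XR : ∀ {j}, F.D j c → ∀ s, X j c s ∈ R := fun {j} h s =>
      X_RS (j := F.n j) h.symm.nl.nr fun _ => ⟨s, by rw [F.nn]⟩
    let N : Subgroup G :=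
      { carrier := {g | ∀ x, π x ∈ F.Q (F.n c) → (π (g * x * g⁻¹) ∈ F.Q (F.n c) ∧
          π (g⁻¹ * x * g) ∈ F.Q (F.n c)) ∧ ⁅g, x⁆ ∈ R}
        one_mem' := fun x hx => by simpa using hx
        mul_mem' := fun {g h} hg hh x hx => ⟨⟨by simpa [mul_assoc] using (hg _ (hh x hx).1.1).1.1,
          by simpa [mul_assoc] using (hh _ (hg x hx).1.2).1.2⟩, by
            convert mul_mem (hg _ (hh x hx).1.1).2 (hh x hx).2 using 1
            simp only [commutatorElement_def]; group⟩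
        inv_mem' := fun {g} hg x hx => ⟨⟨by simpa using (hg x hx).1.2, by simpa using (hg x hx).1.1⟩,
          by
            convert inv_mem (hg _ (hg x hx).1.2).2 using 1
            simp only [commutatorElement_def]; group⟩ }
    have Nz : π.ker ≤ N := fun z hz x hx => by
      have := P.cen z hz x
      rw [this.eq, this.inv_left.eq, this.commutator_eq, mul_inv_cancel_right, inv_mul_cancel_right]
      exact ⟨⟨hx, hx⟩, one_mem _⟩
    have NR : ∀ g ∈ N, ∀ y ∈ R, g * y * g⁻¹ ∈ R := fun g hg y hy => by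
      simpa [commutatorElement_def] using mul_mem (hg y (mR y hy)).2 hy
    have mkN : ∀ {j g}, F.D j c → π g ∈ F.std.RR j {c, F.n c}ᶜ →
        (∀ i, F.D i c → ∀ s b, π b = F.xT i c s → ⁅g, b⁆ ∈ R) →
        (∀ u α, F.V0 u → O.Λ u α → ∀ b, π b = O.T (F.e (F.n c)) u α → ⁅g, b⁆ ∈ R) → g ∈ N := by
      intro j g hj hg h1 h2
      have h5 : ∀ {g}, π g ∈ F.std.RR j {c, F.n c}ᶜ → ∀ x, π x ∈ F.Q (F.n c) →
          π (g * x * g⁻¹) ∈ F.Q (F.n c) := fun hg x hx => by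
        rw [map_mul, map_mul, map_inv]
        exact CSt.conj_RR hj.nr hg (by simp) (by simp [F.nn]) hx
      intro x hx
      refine ⟨⟨h5 hg x hx, by simpa using h5 (g := g⁻¹) (map_inv π g ▸ inv_mem hg) x hx⟩, ?_⟩
      let H : Subgroup G :=
        { carrier := {x | π x ∈ F.Q (F.n c) ∧ ⁅g, x⁆ ∈ R}
          one_mem' := by simp
          mul_mem' := fun {a b} ha hb => ⟨map_mul π a b ▸ mul_mem ha.1 hb.1, by
            rw [comm_mul_right (comm ha.1 (mR _ hb.2))]; exact mul_mem ha.2 hb.2⟩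
          inv_mem' := fun {a} ha => ⟨map_inv π a ▸ inv_mem ha.1, by
            rw [show ⁅g, a⁻¹⁆ = a⁻¹ * ⁅g, a⁆⁻¹ * a by simp only [commutatorElement_def]; group,
              (comm ha.1 (mR _ ha.2)).inv_inv.eq, inv_mul_cancel_right]
            exact inv_mem ha.2⟩ }
      refine (P.induction (H := H) (fun z hz => ⟨hz ▸ one_mem _, ?_⟩) (fun i _ hi s => ?_)
        (fun u α hu hα => ?_) (CSt.mem_RR_univ (S := F.std) hx)).2
      · rw [(P.cen z hz g).symm.commutator_eq]; exact one_mem _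
      · exact ⟨mem_of_eq' (P.π_x hi s) (hi.xT_mem_Q s), h1 _ (hD hi) _ _ (by rw [P.π_x hi, hi.xT_swap, F.nn])⟩
      · exact ⟨⟨_, _, hu.ok hα _, P.π_T (hu.ok hα _)⟩, h2 u α hu hα _ (P.π_T (hu.ok hα _))⟩
    have one : ∀ {a b : G}, Commute a b → ⁅a, b⁆ ∈ R := fun h => h.commutator_eq ▸ one_mem R
    have NX : ∀ {j l}, F.D j l → F.D j c → F.D l c → ∀ t g, π g = F.xT j l t → g ∈ N := by
      intro j l h1 h2 h5 t g hg
      refine mkN h2 (hg ▸ std_x h1 t ▸ CSt.x_mem_RR h1 t h5.notMem) (fun i hi s b hb => ?_)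
        fun u α hu hα b hb => one (hx h1 h2.nr h5.nr t hu hα _ _ hg hb)
      rcases cases5 (F := F) j l i with rfl | rfl | rfl | rfl | ⟨e1, e2⟩
      · exact one (comm (hg ▸ h1.xT_mem_Q t) (hb ▸ hi.xT_mem_Q s))
      · rw [C1 h1 hi h2 t s hg hb]; exact XR h2 _
      · rw [C1 h1.symm.nl.nr hi h5.nl _ s (hg.trans (h1.xT_swap t)) hb]; exact XR h5.nl _
      · exact one (comm (hg ▸ h1.xT_mem_Q' t) (hb ▸ hi.xT_mem_Q s))
      · exact one (hd h1 e1 h2 e2 h5 hi t s _ _ hg hb)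
    have NA : ∀ {j l}, F.D j l → F.D j c → F.D l c → ∀ g, π g ∈ F.std.A j l → g ∈ N := by
      intro j l h1 h2 h5 g hg
      have : F.std.A j l ≤ N.map π := (closure_le _).mpr (by
        rintro _ (⟨s, rfl⟩ | ⟨s, rfl⟩)
        · exact ⟨_, NX h1 h2 h5 s _ (P.π_x h1 s), (P.π_x h1 s).trans (std_x h1 s).symm⟩
        · exact ⟨_, NX h1.symm h5 h2 s _ (P.π_x h1.symm s),
            (P.π_x h1.symm s).trans (std_x h1.symm s).symm⟩)
      obtain ⟨a, ha, e⟩ := this hg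
      simpa using mul_mem (Nz (show π (g * a⁻¹) = 1 by simp [e])) ha
    have hY : ∀ {j g}, π g ∈ F.std.RR j ∅ → π g ∈ F.std.RR j {c, F.n c}ᶜ := fun h =>
      CSt.RR_mono h fun _ h => h.elim
    have NY0 : ∀ g, π g ∈ F.std.RR r ∅ → g ∈ N := by
      intro g hg
      obtain ⟨u, α, hu, hα, e⟩ := CSt.Y_img hg
      refine mkN hr (hY hg) (fun i hi s b hb => ?_) fun u' α' hu' hα' b hb => by
        rw [C2 hr hu hu' hα hα' e hb]; exact XR hr _
      rcases cases3 (F := F) r i with rfl | rfl | e1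
      · exact one (comm hg.1 (hb ▸ hi.xT_mem_Q s))
      swap
      · exact one (hx hi e1.symm hr.symm s hu hα _ _ hb e).symm
      rw [hi.xT_swap, F.nn] at hb
      generalize -(F.ε (F.n r) * O.σ s / F.ε c) = t at hb
      by_cases ht : t = 0
      · exact one (P.cen b (by rw [hb, ht, hr'.xT_zero]) g).symm
      obtain ⟨l, h1, h2⟩ := h3 r c
      have M := CSt.mon_h (S := F.std) hN h1 (t := -t⁻¹) (by simpa)
      let a := P.l (F.std.h r l (-t⁻¹))
      have ha : π a = _ := P.π_l (h_mem_E h1 _)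
      have h6 : a ∈ N := NA h1 hr h2.symm a
        (ha ▸ mul_mem (CSt.w_mem_A _) (CSt.w_mem_A _))
      obtain ⟨u', α', hu', hα', e'⟩ := CSt.Y_img (M.inv.RR hg (T' := ∅) fun _ h _ => h)
      have h7 := NR a h6 _ (mul_mem (Y_RS (show y u' α' ∈ Y from ⟨_, _, hu', hα', rfl⟩))
        (XR hr (O.η * α' * O.σ (F.ε c))))
      rwa [inv_mul_cancel_right, conjugate_commutatorElement, P.cen.comm_congr (a' := g) (b' := b)]
        at h7
      · simp only [map_mul, map_inv, ha, P.π_T (hu'.ok hα' r)]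
        rw [← show _ = O.T (F.e r) u' α' from e']; simp [mul_assoc]
      · have := M.x hr' (c := 1) (by rw [one_smul]; exact CSt.h_of_D h1 _ hr.nr h2.symm.nr)
          (CSt.h_a h1 (by simpa)) (-1)
        simp only [Equiv.Perm.one_apply, std_x hr'] at this
        simp only [map_mul, map_inv, ha, πx, hb, this]
        congr 1; field_simp
    have NY1 : ∀ {i j}, F.D i j → F.D i c → F.D j c → (∀ g, π g ∈ F.std.RR i ∅ → g ∈ N) →
        ∀ g, π g ∈ F.std.RR j ∅ → g ∈ N := by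
      intro i j h1 h2 h5 h g hg
      let a := P.l (F.std.w i j 1)
      have ha : π a = _ := P.π_l (w_mem_E h1 _)
      have h6 : a ∈ N := NA h1 h2 h5 a (ha ▸ CSt.w_mem_A _)
      have h7 := (CSt.mon_w (S := F.std) hN h1 one_ne_zero).RR hg (T' := ∅) fun _ h _ => h
      rw [h1.sw_b] at h7
      simpa [mul_assoc] using mul_mem (mul_mem (inv_mem h6)
        (h (a * g * a⁻¹) (by simpa [ha] using h7))) h6
    have NY : ∀ {j}, F.D j c → ∀ g, π g ∈ F.std.RR j ∅ → g ∈ N := fun {j} hj => by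
      rcases cases3 (F := F) r j with rfl | rfl | e
      · exact NY0
      · obtain ⟨l, h1, h2⟩ := h3 r c
        exact NY1 h1.symm.nr h2.symm hj (NY1 h1 hr h2.symm NY0)
      · exact NY1 e hr hj NY0
    refine ⟨R, mR, H.surj, fun g => H.inj, fun {j g y} hj hg h1 h2 hy => NR g ?_ y hy⟩
    have hj' : F.D j c := F.nn c ▸ hj.nr
    refine P.induction (k := j) (T := {l | F.D l c}) Nz
      (fun l hl hjl s => NX hjl hj' hl s _ (P.π_x hjl s)) (fun u α hu hα => NY hj' _ ?_)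
      ⟨hg, fun i hi _ => ?_⟩
    · obtain ⟨g, h1, h2⟩ := F.std.Y_surj j hu hα
      rwa [P.π_T (hu.ok hα j), ← h2]
    · rcases cases3 (F := F) c i with rfl | rfl | e
      exacts [F.nn i ▸ h2, h1, absurd e.symm hi]
  choose R h1 h2 h5 h6 using main
  exact ⟨ofInv h3 R (h1 _ _) (h2 _) (h5 _ _) (h6 _)⟩

end Delta

end PSt

end Cfsg.Agent.H6
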