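import Cfsg.Agent.H6.CW

/-! Lifting Steinberg systems to central extensions: Heisenberg radicals. -/

set_option autoImplicit false

open scoped commutatorElement

namespace Cfsg.Agent.H6

open OF Subgroup Frame

variable {K V I G : Type*} [Field K] [AddCommGroup V] [Module K V] [Group G]

theorem T_line_add {O : OF K V} {F : Frame O I} {k j : I} (h : F.D k j) (s t : K) :
    O.T (F.e k) ((s + t) • F.e j) 0 = O.T (F.e k) (s • F.e j) 0 * O.T (F.e k) (t • F.e j) 0 := by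
  rw [(h.ok_line s).T_mul (h.ok_line t).toOk, add_smul]; simp [F.B_ee]

/-- Lifts of long root elements are central in the preimage of the radical. -/
def CenZ {O : OF K V} (F : Frame O I) (π : G →* O.U) (k : I) : Prop :=
  ∀ {α a x}, O.Λ 0 α → π a = F.Z k α → π x ∈ F.Q k → Commute a x

namespace PSt

variable {O : OF K V} {F : Frame O I} {π : G →* O.U} (P : PSt F π)
include P

theorem cenZ {k j : I} (h : F.D k j)
    (hG : ∀ i, F.D k i → ∃ d μ μ₀, F.Good i d μ μ₀) : CenZ F π k := by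
  intro α a x hα ha hx
  let H := P.cen.sub (F.Z k α)
  have h1 : ∀ {i}, F.D k i → ∀ c : K, O.T (F.e k) (c • F.e i) 0 ∈ H := fun {i} hi c => by
    obtain ⟨d, μ, μ₀, hd⟩ := hG i hi
    refine ⟨P.le (hi.ok_line c).mem_E, P.cen.lc_torus (r := fun c => O.T (F.e k) (c • F.e i) 0)
      (T_line_add hi) (P.le hd.mem) (fun c => P.le (hi.ok_line c).mem_E) ?_
      (fun c => Z_commute hα (Q_fix ⟨_, _, hi.ok_line c, rfl⟩)) (c := O.σ (μ k) * μ i)
      (fun e => hd.ne' k hi.symm ?_) (fun c => ?_) c⟩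
    · refine Commute.symm (mul_inv_eq_iff_eq_mul.mp ?_)
      rw [Z_conj hα (hd.ne k) (hd.lin k), hd.nm k hi.symm, one_mul]
    · simpa [O.σσ, mul_comm] using congrArg O.σ e
    · rw [(hi.ok_line c).conj_T' (hd.ne k) (hd.lin k), U_smul, hd.lin, smul_smul, smul_smul,
        mul_zero, mul_right_comm]
  have h2 : ∀ {u β}, F.W k u → F.W j u → O.Λ u β → O.T (F.e k) u β ∈ H := fun {u β} e1 e2 e3 => by
    have e4 := h.conj_xT_T (e1.ok e3) (e2.ok e3) (-1)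
    simp only [map_neg, map_one, neg_neg, one_mul, one_smul, mul_neg, mul_one] at e4
    have e5 : F.xT k j (-1) ∈ H := h1 h.nr _
    have e6 : _ ∈ H := ⟨e4 ▸ P.le (mul_mem (mul_mem (h.xT_mem _) (h.ok_line β).mem_E)
      (e1.ok e3).mem_E), P.cen.lc_conj (P.le (e2.ok e3).mem_E)
      (Z_commute hα (((e2.ok e3).fix_iff h.symm.2).mpr e1.1)).symm e5.2⟩
    rw [e4] at e6
    exact (mul_mem_cancel_left (mul_mem e5 (h1 h β))).mp e6
  obtain ⟨v, β, e1, e2⟩ := hx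
  obtain ⟨c, d, u, e3, e4, rfl⟩ := W.proj h e1.W
  obtain ⟨γ, e5⟩ := O.ex u
  have e6 := ((e3.ok e5).add (h.ok_line c)).add (h.nr.ok_line d)
  obtain ⟨e7, e8⟩ := e1.T_eq e6
  have : π x ∈ H := by
    rw [e2, e8, ← ((e3.ok e5).add (h.ok_line c)).T_mul (h.nr.ok_line d).toOk,
      ← (e3.ok e5).T_mul (h.ok_line c).toOk]
    exact mul_mem (mul_mem (mul_mem (h2 e3 e4 e5) (h1 h c)) (h1 h.nr d))
      (h2 (W_zero k) (W_zero j) e7)
  exact this.2 a x ha rfl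

/-- The commutator form. -/
noncomputable def κ (k : I) (v w : V) : G :=
  ⁅P.l (O.T (F.e k) v (O.ex v).choose), P.l (O.T (F.e k) w (O.ex w).choose)⁆

section Kappa

variable {k : I} (hA : CenZ F π k)
include hA

theorem κ_eq {x y : G} {v w : V} {α β : K} (h : F.Ok k v α) (h' : F.Ok k w β)
    (hx : π x = O.T (F.e k) v α) (hy : π y = O.T (F.e k) w β) : ⁅x, y⁆ = P.κ k v w := by
  have key : ∀ {x y : G} {v : V} {α : K}, F.Ok k v α → π x = O.T (F.e k) v α → π y ∈ F.Q k →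
      ⁅x, y⁆ = ⁅P.l (O.T (F.e k) v (O.ex v).choose), y⁆ := fun {x y v α} h hx hy => by
    have h1 := h.W.ok (O.ex v).choose_spec
    obtain ⟨e1, e2⟩ := h.T_eq h1
    have e3 := P.π_T h1
    generalize P.l (O.T (F.e k) v (O.ex v).choose) = z at e3
    have := (hA (a := z⁻¹ * x) e1 (by
      rw [map_mul, map_inv, e3, hx, e2, inv_mul_cancel_left]) hy).eq
    rw [commutatorElement_def, commutatorElement_def]
    calc _ = z * (z⁻¹ * x * y) * x⁻¹ * y⁻¹ := by group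
      _ = _ := by rw [this]; group
  have h1 := h.W.ok (O.ex v).choose_spec
  rw [key h hx ⟨_, _, h', hy⟩, ← commutatorElement_inv, key h' hy ⟨_, _, h1, P.π_T h1⟩,
    commutatorElement_inv, κ]

omit hA in
theorem π_κ {v w : V} (hv : F.W k v) (hw : F.W k w) :
    π (P.κ k v w) = F.Z k (O.η * O.B v w - O.η * O.B w v) := by
  have h1 := hv.ok (O.ex v).choose_spec
  have h2 := hw.ok (O.ex w).choose_spec
  rw [κ, map_commutatorElement, P.π_T h1, P.π_T h2, h1.comm_T h2]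

omit hA in
theorem κ_swap (v w : V) : P.κ k w v = (P.κ k v w)⁻¹ := (commutatorElement_inv _ _).symm

theorem κ_cen {v w : V} (hv : F.W k v) (hw : F.W k w) {x : G} (hx : π x ∈ F.Q k) :
    Commute (P.κ k v w) x := hA (Λ0_comm v w) (P.π_κ hv hw) hx

theorem κ_comm {v w v' w' : V} (hv : F.W k v) (hw : F.W k w) (hv' : F.W k v') (hw' : F.W k w') :
    Commute (P.κ k v w) (P.κ k v' w') :=
  P.κ_cen hA hv hw (P.π_κ hv' hw' ▸ Z_mem_Q k (Λ0_comm _ _))

theorem κ_add_left {v v' w : V} (hv : F.W k v) (hv' : F.W k v') (hw : F.W k w) :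
    P.κ k (v + v') w = P.κ k v w * P.κ k v' w := by
  have h1 := hv.ok (O.ex v).choose_spec
  have h2 := hv'.ok (O.ex v').choose_spec
  have h3 := hw.ok (O.ex w).choose_spec
  rw [← P.κ_eq hA (h1.add h2) h3 ((map_mul π _ _).trans
    ((congrArg₂ _ (P.π_T h1) (P.π_T h2)).trans (h1.T_mul h2.toOk))) (P.π_T h3),
    (P.κ_comm hA hv hw hv' hw).eq, ← mul_inv_cancel_right (P.κ k v' w) (P.l _),
    (P.κ_cen hA hv' hw ⟨_, _, h1, P.π_T h1⟩).eq]
  simp only [κ, commutatorElement_def]; group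

theorem κ_add_right {v w w' : V} (hv : F.W k v) (hw : F.W k w) (hw' : F.W k w') :
    P.κ k v (w + w') = P.κ k v w * P.κ k v w' := by
  rw [P.κ_swap, P.κ_add_left hA hw hw' hv, mul_inv_rev, ← P.κ_swap, ← P.κ_swap,
    (P.κ_comm hA hv hw' hv hw).eq]

theorem κ_zero_left {w : V} (hw : F.W k w) : P.κ k 0 w = 1 := by
  simpa using P.κ_add_left hA (W_zero k) (W_zero k) hw

theorem κ_neg_left {v w : V} (hv : F.W k v) (hw : F.W k w) : P.κ k (-v) w = (P.κ k v w)⁻¹ :=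
  eq_inv_of_mul_eq_one_left (by
    rw [← P.κ_add_left hA hv.neg hv hw, neg_add_cancel, P.κ_zero_left hA hw])

theorem κ_neg_right {v w : V} (hv : F.W k v) (hw : F.W k w) : P.κ k v (-w) = (P.κ k v w)⁻¹ := by
  rw [P.κ_swap, P.κ_neg_left hA hw hv, ← P.κ_swap, P.κ_swap w v, inv_inv]

theorem κ_conj {g : G} {c d : K} (h1 : π g • F.e k = c • F.e k)
    (h2 : π g • F.e (F.n k) = d • F.e (F.n k)) {v w : V} (hv : F.W k v) (hw : F.W k w) :
    g * P.κ k v w * g⁻¹ = P.κ k (O.σ c • π g • v) (O.σ c • π g • w) := by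
  have hc := (line_n h1 h2).1
  have e : ∀ {v}, F.W k v → ∃ β, F.Ok k (O.σ c • π g • v) β ∧
      π (g * P.l (O.T (F.e k) v (O.ex v).choose) * g⁻¹) = O.T (F.e k) (O.σ c • π g • v) β :=
    fun {v} hv => by
      have h3 := hv.ok (O.ex v).choose_spec
      exact ⟨_, ((hv.map h1 h2).smul _).ok (Ok.of_smul hc (h1 ▸ h3.toOk.map _)).mem, by
        rw [map_mul, map_mul, map_inv, P.π_T h3, h3.conj_T' hc h1]⟩
  obtain ⟨β, e1, e2⟩ := e hv
  obtain ⟨γ, e3, e4⟩ := e hw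
  rw [κ, conjugate_commutatorElement, P.κ_eq hA e1 e3 e2 e4]

theorem κ_conj' {j : I} (h : F.D k j) {u : V} {α : K} (hu : F.W k u) (hu' : F.Ok j u α)
    {v w : V} (hv : F.W k v) (hw : F.W k w) : P.l (O.T (F.e j) u α) * P.κ k v w *
      (P.l (O.T (F.e j) u α))⁻¹ = P.κ k (O.T (F.e j) u α • v) (O.T (F.e j) u α • w) := by
  have := P.κ_conj hA (g := P.l (O.T (F.e j) u α)) (c := 1) (d := 1)
    (by rw [P.π_T hu', one_smul, (hu'.fix_iff h.symm.2).mpr hu.1])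
    (by rw [P.π_T hu', one_smul, (hu'.fix_iff h.symm.nr.2).mpr hu.2]) hv hw
  simpa [P.π_T hu'] using this

variable {α₀ : K} (h0 : α₀ ≠ 0) (hα₀ : O.Λ 0 α₀)
  (hB : ∀ {j α}, F.D k j → O.Λ 0 α → LC π (F.Z k α) (F.Z j α₀))
include h0 hα₀ hB

theorem κ_C {j : I} (h : F.D k j) (c : K) {w : V} (hw : F.W k w) (hw' : O.B w (F.e j) = 0) :
    P.κ k (c • F.e j) w = 1 := by
  have h1 := h.nr.W.smul (c / (α₀ * F.ε j))
  have h2 := P.κ_conj' hA h (W_zero k) (okZ j hα₀) h1 hw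
  rw [← (hB h (Λ0_comm _ _) _ _ (P.π_κ h1 hw) (P.π_T (okZ j hα₀))).eq, mul_inv_cancel_right, ← Z,
    Z_smul hα₀, Z_smul hα₀, hw', P.κ_add_left hA h1 (h.W.smul _) (by simpa using hw)] at h2
  simp only [mul_zero, zero_smul, add_zero, left_eq_mul, map_smul, LinearMap.smul_apply, B_n,
    smul_eq_mul] at h2
  have := F.ε_ne j
  rwa [show α₀ * (c / (α₀ * F.ε j) * F.ε j) = c by field_simp] at h2

theorem κ_C' {j : I} (h : F.D k j) (c : K) {w : V} (hw : F.W k w) (hw' : O.B w (F.e j) = 0) :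
    P.κ k w (c • F.e j) = 1 := by rw [P.κ_swap, P.κ_C hA h0 hα₀ hB h c hw hw', inv_one]

theorem κ_gen {j : I} (h : F.D k j) {u u' : V} (h1 : F.W k u) (h2 : F.W j u) (h3 : F.W k u')
    (h4 : F.W j u') (s : K) :
    P.κ k ((s * F.ε j) • u) u' = P.κ k (s • F.e (F.n j)) ((O.η * O.B u' u) • F.e j) := by
  obtain ⟨α, hα⟩ := O.ex u
  have e1 := h.nr.W.smul s
  have e2 := P.κ_conj' hA h h1 (h2.ok hα) e1 h3
  have e3 := h1.smul (s * F.ε j)
  have e4 := h.W.smul (-(O.η * O.B u' u))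
  have e5 := h.W.smul (s * (α * F.ε j))
  rw [P.κ_C hA h0 hα₀ hB h.nr s h3 h4.2, mul_one, mul_inv_cancel, U_smul, (h2.ok hα).T_en,
    (h2.ok hα).T_smul, h4.1, smul_add, smul_add, smul_smul, smul_smul, zero_smul, add_zero,
    mul_zero, zero_sub, P.κ_add_left hA (e1.add e3) e5 (h3.add e4),
    P.κ_C hA h0 hα₀ hB h _ (h3.add e4) (by simp [h4.1, F.B_ee]), mul_one,
    P.κ_add_left hA e1 e3 (h3.add e4), P.κ_add_right hA e1 h3 e4, P.κ_add_right hA e3 h3 e4,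
    P.κ_C hA h0 hα₀ hB h.nr s h3 h4.2, P.κ_C' hA h0 hα₀ hB h _ e3 (by simp [h2.1]), one_mul,
    mul_one, neg_smul, P.κ_neg_right hA e1 (h.W.smul _)] at e2
  exact (inv_mul_eq_one.mp e2.symm).symm

theorem κ_mem {j : I} (h : F.D k j) {Φ : Subgroup G}
    (hΦ : ∀ s c : K, P.κ k (s • F.e (F.n j)) (c • F.e j) ∈ Φ) {v w : V} (hv : F.W k v)
    (hw : F.W k w) : P.κ k v w ∈ Φ := by
  obtain ⟨c, d, u, e1, e2, rfl⟩ := W.proj h hv
  obtain ⟨c', d', u', e3, e4, rfl⟩ := W.proj h hw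
  have f1 := h.W.smul
  have f2 := h.nr.W.smul
  rw [P.κ_add_left hA (e1.add (f1 c)) (f2 d) hw, P.κ_add_left hA e1 (f1 c) hw]
  refine mul_mem (mul_mem ?_ ?_) ?_
  · rw [P.κ_add_right hA e1 (e3.add (f1 c')) (f2 d'), P.κ_add_right hA e1 e3 (f1 c'),
      P.κ_C' hA h0 hα₀ hB h _ e1 e2.1, P.κ_C' hA h0 hα₀ hB h.nr _ e1 e2.2, mul_one, mul_one]
    have := P.κ_gen hA h0 hα₀ hB h e1 e2 e3 e4 (F.ε j)⁻¹
    rw [inv_mul_cancel₀ (F.ε_ne j), one_smul] at this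
    exact this ▸ hΦ _ _
  · rw [P.κ_add_right hA (f1 c) (e3.add (f1 c')) (f2 d'),
      P.κ_C hA h0 hα₀ hB h _ (e3.add (f1 c')) (by simp [e4.1, F.B_ee]), one_mul, P.κ_swap]
    exact inv_mem (hΦ _ _)
  · rw [add_right_comm, P.κ_add_right hA (f2 d) (e3.add (f2 d')) (f1 c'),
      P.κ_C hA h0 hα₀ hB h.nr _ (e3.add (f2 d')) (by simp [e4.2, F.B_ee]), one_mul]
    exact hΦ _ _

end Kappa

end PSt

/-- A complement to the kernel over the long root subgroup containing all commutators. -/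
structure Phi {O : OF K V} (F : Frame O I) (π : G →* O.U) (k : I) (Φ : Subgroup G) : Prop where
  cen : CenZ F π k
  img : ∀ φ ∈ Φ, ∃ α, O.Λ 0 α ∧ π φ = F.Z k α
  inj : ∀ φ ∈ Φ, π φ = 1 → φ = 1
  surj : ∀ α, O.Λ 0 α → ∃ φ ∈ Φ, π φ = F.Z k α
  conj : ∀ g (c d : K), π g • F.e k = c • F.e k → π g • F.e (F.n k) = d • F.e (F.n k) →
    ∀ φ ∈ Φ, g * φ * g⁻¹ ∈ Φ
  comm : ∀ x y, π x ∈ F.Q k → π y ∈ F.Q k → ⁅x, y⁆ ∈ Φ

namespace Phi

variable {O : OF K V} {F : Frame O I} {π : G →* O.U} {k : I} {Φ : Subgroup G} (H : Phi F π k Φ)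
include H

theorem commute {φ x : G} (h : φ ∈ Φ) (hx : π x ∈ F.Q k) : Commute φ x :=
  (H.img φ h).elim fun _ e => H.cen e.1 e.2 hx

theorem mem_Q {φ : G} (h : φ ∈ Φ) : π φ ∈ F.Q k :=
  (H.img φ h).elim fun _ e => e.2 ▸ Z_mem_Q k e.1

omit H in
theorem comm_Q {g x : G} {c d : K} (h1 : π g • F.e k = c • F.e k)
    (h2 : π g • F.e (F.n k) = d • F.e (F.n k)) (hx : π x ∈ F.Q k) : π ⁅g, x⁆ ∈ F.Q k := by
  rw [map_commutatorElement]; exact mul_mem (conj_mem_Q h1 h2 hx) (inv_mem hx)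

/-- The complement defined by a fixed point free element. -/
def RD (g : G) {c d : K} (h1 : π g • F.e k = c • F.e k)
    (h2 : π g • F.e (F.n k) = d • F.e (F.n k)) : Subgroup G where
  carrier := {r | ∃ x, π x ∈ F.Q k ∧ ∃ φ ∈ Φ, r = ⁅g, x⁆ * φ}
  one_mem' := ⟨1, by simp, 1, one_mem _, by simp⟩
  mul_mem' := by
    rintro _ _ ⟨x, hx, a, ha, rfl⟩ ⟨y, hy, b, hb, rfl⟩
    have e1 := comm_Q h1 h2 hy
    refine ⟨x * y, by simpa using mul_mem hx hy, _, mul_mem (mul_mem (inv_mem (H.comm _ _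
      (show π ⁅g, y⁆⁻¹ ∈ _ from map_inv π _ ▸ inv_mem e1) hx)) ha) hb, ?_⟩
    rw [mul_assoc, ← mul_assoc a, (H.commute ha e1).eq]
    simp only [commutatorElement_def]; group
  inv_mem' := by
    rintro _ ⟨x, hx, a, ha, rfl⟩
    have e1 := comm_Q h1 h2 hx
    refine ⟨x⁻¹, by simpa using hx, _, mul_mem (H.comm _ _ (show π x⁻¹ ∈ _ by simpa using hx) e1)
      (inv_mem ha), ?_⟩
    rw [← (H.commute ha e1).eq]
    simp only [commutatorElement_def]; group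

variable {g : G} {c d : K} {h1 : π g • F.e k = c • F.e k}
  {h2 : π g • F.e (F.n k) = d • F.e (F.n k)}

theorem comm_mem_RD {x : G} (hx : π x ∈ F.Q k) : ⁅g, x⁆ ∈ H.RD g h1 h2 :=
  ⟨x, hx, 1, one_mem _, (mul_one _).symm⟩

theorem le_RD : Φ ≤ H.RD g h1 h2 := fun φ h => ⟨1, by simp, φ, h, by simp⟩

theorem RD_img {r : G} (h : r ∈ H.RD g h1 h2) : π r ∈ F.Q k := by
  obtain ⟨x, hx, φ, h, rfl⟩ := h
  rw [map_mul]; exact mul_mem (comm_Q h1 h2 hx) (H.mem_Q h)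

omit H in
theorem π_comm (h1 : π g • F.e k = c • F.e k) (h2 : π g • F.e (F.n k) = d • F.e (F.n k)) {x : G}
    {v : V} {α : K} (h : F.Ok k v α) (hx : π x = O.T (F.e k) v α) :
    ∃ β, F.Ok k (O.σ c • π g • v - v) β ∧ π ⁅g, x⁆ = O.T (F.e k) (O.σ c • π g • v - v) β := by
  have hc := (line_n h1 h2).1
  have h3 := ((h.W.map h1 h2).smul _).ok (Ok.of_smul hc (h1 ▸ h.toOk.map _)).mem
  refine ⟨_, sub_eq_add_neg (G := V) _ _ ▸ h3.add h.inv, ?_⟩
  rw [map_commutatorElement, commutatorElement_def, hx, h.conj_T' hc h1, h.T_inv,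
    h3.T_mul h.inv.toOk, sub_eq_add_neg (G := V)]

variable (E : Cen π) (fpf : ∀ v, F.W k v → O.σ c • π g • v = v → v = 0)
include E fpf

theorem RD_inj {r : G} (h : r ∈ H.RD g h1 h2) (e : π r = 1) : r = 1 := by
  obtain ⟨x, ⟨v, α, e1, e2⟩, ψ, h, rfl⟩ := h
  obtain ⟨β, e3, e4⟩ := π_comm h1 h2 e1 e2
  obtain ⟨γ, e5, e6⟩ := H.img _ h
  have e7 := ((e3.add (okZ k e5)).eq_of_line (c := 1) (by
    rw [← e3.T_mul (okZ k e5).toOk, ← e4, ← Z, ← e6, ← map_mul, e]; simp)).1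
  obtain rfl := fpf v e1.W (by simpa [sub_eq_zero] using e7)
  obtain ⟨φ, e8, e9⟩ := H.surj α e1.mem
  refine H.inj _ ?_ e
  rw [E.comm_congr rfl (e2.trans e9.symm)]
  exact mul_mem (mul_mem (H.conj g c d h1 h2 φ e8) (inv_mem e8)) h

omit E in
theorem RD_surj [Finite V] (hle : F.E ≤ π.range) {v : V} {α : K} (h : F.Ok k v α) :
    ∃ r ∈ H.RD g h1 h2, π r = O.T (F.e k) v α := by
  let f : {v // F.W k v} → {v // F.W k v} := fun v =>
    ⟨O.σ c • π g • v.1 - v.1, ((v.2.map h1 h2).smul _).sub v.2⟩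
  have hf : Function.Injective f := fun v w e => Subtype.ext (sub_eq_zero.mp
    (fpf _ (v.2.sub w.2) (by
      have := congrArg Subtype.val e
      simp only [f] at this
      rw [U_sub, smul_sub, sub_eq_sub_iff_sub_eq_sub, this])))
  obtain ⟨w, hw⟩ := Finite.injective_iff_surjective.mp hf ⟨v, h.W⟩
  obtain ⟨β, hβ⟩ := O.ex w.1
  obtain ⟨x, hx⟩ := hle (w.2.ok hβ).mem_E
  obtain ⟨γ, e1, e2⟩ := π_comm h1 h2 (w.2.ok hβ) hx
  rw [show O.σ c • π g • w.1 - w.1 = v from congrArg Subtype.val hw] at e1 e2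
  obtain ⟨e3, e4⟩ := h.T_eq e1
  obtain ⟨φ, e5, e6⟩ := H.surj _ e3
  exact ⟨_, mul_mem (H.comm_mem_RD ⟨_, _, w.2.ok hβ, hx⟩) (H.le_RD e5), by rw [map_mul, e2, e6, e4]⟩

omit fpf in
theorem RD_conj {a : G} {c' d' : K} (h3 : π a • F.e k = c' • F.e k)
    (h4 : π a • F.e (F.n k) = d' • F.e (F.n k)) (h5 : Commute (π a) (π g)) {r : G}
    (h : r ∈ H.RD g h1 h2) : a * r * a⁻¹ ∈ H.RD g h1 h2 := by
  obtain ⟨x, hx, φ, h, rfl⟩ := h
  refine ⟨a * x * a⁻¹, by simpa using conj_mem_Q h3 h4 hx, _, H.conj a _ _ h3 h4 _ h, ?_⟩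
  rw [← E.comm_congr (a := a * g * a⁻¹) (b := a * x * a⁻¹) (by simp [h5.eq]) rfl,
    ← conjugate_commutatorElement]
  group

omit fpf in
theorem RD_norm {a : G} {c' d' : K} (h3 : π a • F.e k = c' • F.e k)
    (h4 : π a • F.e (F.n k) = d' • F.e (F.n k)) (h5 : Commute (π a) (π g)) :
    a ∈ normalizer (H.RD g h1 h2 : Set G) := by
  obtain ⟨e1, e2⟩ := line_n h3 h4
  refine mem_normalizer_iff.mpr fun r => ⟨H.RD_conj E h3 h4 h5, fun h => ?_⟩
  simpa [mul_assoc] using H.RD_conj E (a := a⁻¹) (map_inv π a ▸ inv_smul_of_line e1 h3)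
    (map_inv π a ▸ inv_smul_of_line e2 h4) (map_inv π a ▸ h5.inv_left) h

theorem RD_le [Finite V] (hle : F.E ≤ π.range) {g' : G} {c' d' : K} {h3 : π g' • F.e k = c' • F.e k}
    {h4 : π g' • F.e (F.n k) = d' • F.e (F.n k)} (h5 : Commute (π g') (π g)) :
    H.RD g' h3 h4 ≤ H.RD g h1 h2 := by
  rintro _ ⟨x, ⟨v, α, e1, e2⟩, φ, h, rfl⟩
  obtain ⟨y, e3, e4⟩ := H.RD_surj fpf hle (h1 := h1) (h2 := h2) e1
  rw [E.comm_congr rfl (e2.trans e4.symm)]
  exact mul_mem (mul_mem (H.RD_conj E h3 h4 h5 e3) (inv_mem e3)) (H.le_RD h)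

end Phi

theorem PSt.exists_cst_phi {O : OF K V} {F : Frame O I} {π : G →* O.U} (P : PSt F π) [Finite V]
    [Finite I] (h2 : ∀ a, ∃ b, F.D a b) (hΦ : ∀ k, ∃ Φ, Phi F π k Φ)
    (hG : ∀ j i l, F.D j i → F.D j l → ∃ d μ μ₀, F.Good j d μ μ₀ ∧ μ i = μ₀ ∧ μ l = μ₀) :
    Nonempty (CSt F π) := by
  choose Φ H using hΦ
  have e1 : ∀ {j d μ μ₀}, F.Good j d μ μ₀ → ∀ i, π (P.l d) • F.e i = μ i • F.e i :=
    fun h i => by rw [P.π_l h.mem, h.lin]
  have e2 : ∀ {j d μ μ₀}, F.Good j d μ μ₀ → ∀ v, F.W j v → O.σ (μ j) • π (P.l d) • v = v → v = 0 :=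
    fun h v hv e => h.fpf hv (by rwa [P.π_l h.mem] at e)
  choose d μ μ₀ hd using fun k => show ∃ d μ μ₀, F.Good k d μ μ₀ from (h2 k).elim fun j h =>
    (hG k j j h h).imp fun _ h => h.imp fun _ h => h.imp fun _ h => h.1
  let R : I → Subgroup G := fun k => (H k).RD (P.l (d k)) (e1 (hd k) _) (e1 (hd k) _)
  have e3 : ∀ {j d' μ' μ₀'} (h : F.Good j d' μ' μ₀') (a : G) {c c' : K}, π a • F.e j = c • F.e j →
      π a • F.e (F.n j) = c' • F.e (F.n j) → Commute (π a) d' →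
        a ∈ normalizer (R j : Set G) := fun {j d' μ' μ₀'} h a c c' h3 h4 h5 => by
    have h6 : Commute (π (P.l d')) (π (P.l (d j))) := by
      rw [P.π_l h.mem, P.π_l (hd j).mem]; exact h.commute (hd j).toDg
    rw [show R j = (H j).RD (P.l d') (e1 h _) (e1 h _) from le_antisymm
      ((H j).RD_le P.cen (e2 h) P.le h6.symm) ((H j).RD_le P.cen (e2 (hd j)) P.le h6)]
    exact (H j).RD_norm P.cen h3 h4 (by rwa [P.π_l h.mem])
  have surj : ∀ {k v α}, F.Ok k v α → ∃ g ∈ R k, π g = O.T (F.e k) v α :=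
    fun {k} => (H k).RD_surj (e2 (hd k)) P.le
  have inj : ∀ {k g}, g ∈ R k → π g = 1 → g = 1 := fun {k} => (H k).RD_inj P.cen (e2 (hd k))
  refine ⟨⟨R, fun {k} => (H k).RD_img, surj, inj, fun {i j g} c h hg e => ?_,
    fun {k j g y} h hg h3 h4 hy => mem_normalizer_iff.mp ?_ y |>.mp hy⟩⟩
  · have h3 := sub_ne_zero.mpr ((hd i).ne' j h)
    obtain ⟨r, h4, h5⟩ := surj (h.symm.ok_line (-(O.η * O.σ (c / (O.σ (μ i i) * μ i j - 1)))))
    rw [← T_swap (F.sing i) (F.sing j) h.symm.B] at h5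
    have h6 : ⁅P.l (d i), r⁆ ∈ R i := (H i).comm_mem_RD ⟨_, _, h.ok_line _, h5⟩
    rw [mul_inv_eq_one.mp (inj (mul_mem hg (inv_mem h6)) ?_)]
    · exact mul_mem ((mem_normalizer_iff.mp (e3 (hd j) _ (e1 (hd i) _) (e1 (hd i) _)
        (by rw [P.π_l (hd i).mem]; exact (hd i).commute (hd j).toDg)) r).mp h4) (inv_mem h4)
    rw [map_mul, map_inv, mul_inv_eq_one, e, map_commutatorElement, commutatorElement_def, h5,
      P.π_l (hd i).mem, (h.ok_line _).conj_T' ((hd i).ne i) ((hd i).lin i), U_smul, (hd i).lin,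
      smul_smul, smul_smul, mul_zero, eq_mul_inv_iff_mul_eq, ← T_line_add h]
    congr 2; field_simp; ring
  · refine P.induction (T := {j, F.n j}ᶜ) (fun z hz => mem_normalizer_iff.mpr fun r => by
      rw [(P.cen z hz r).eq, mul_inv_cancel_right]) (fun i hi hi' s => ?_) (fun u α hu hα => ?_)
      ⟨(H k).RD_img hg, fun i hi _ => ?_⟩
    · have h5 : F.D j i := by simpa [D] using hi
      obtain ⟨d', μ', _, h6, h7, rfl⟩ := hG j k i h.symm h5
      refine e3 h6 _ (c := 1) (c' := 1) (by simp [P.π_x hi', hi'.xT_ne s h5.1.symm h.2])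
        (by simp [P.π_x hi', hi'.xT_ne s h5.nl.1.symm h.nr.2]) (Commute.symm
          (mul_inv_eq_iff_eq_mul.mp ?_))
      rw [P.π_x hi', hi'.conj_xT (h6.ne k) (h6.lin k) (h6.lin i) (h6.lin _), h7,
        mul_div_cancel_left₀ _ (h6.ne i)]
    · obtain ⟨d', μ', _, h6, rfl, -⟩ := hG j k k h.symm h.symm
      have h5 := hu.ok hα k
      refine e3 h6 _ (c := 1) (c' := 1) (by simp [P.π_T h5, h5.fix_iff h.2, hu j])
        (by simp [P.π_T h5, h5.fix_iff h.nr.2, hu _]) (Commute.symm (mul_inv_eq_iff_eq_mul.mp ?_))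
      rw [P.π_T h5, h5.conj_T' (h6.ne k) (h6.lin k), h6.v0 u hu, smul_smul, mul_comm (O.σ _),
        h6.nm k h.symm, one_smul, one_mul]
    · rcases not_not.mp hi with rfl | rfl
      exacts [h3, h4]

end Cfsg.Agent.H6
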