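import Cfsg.Agent.H6.CLiftD

/-! Lifting Steinberg systems for symplectic and unitary groups of rank at least two. -/

set_option autoImplicit false

open scoped commutatorElement

namespace Cfsg.Agent.H6

open OF Subgroup Frame

variable {K V I G : Type*} [Field K] [AddCommGroup V] [Module K V] [Group G]

namespace PSt

variable {O : OF K V} {F : Frame O I} {π : G →* O.U} (P : PSt F π)
include P

theorem comm_mem {k : I} (hA : CenZ F π k) {Φ : Subgroup G}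
    (h : ∀ v w, F.W k v → F.W k w → P.κ k v w ∈ Φ) (x y : G) (hx : π x ∈ F.Q k)
    (hy : π y ∈ F.Q k) : ⁅x, y⁆ ∈ Φ := by
  obtain ⟨v, α, e1, e2⟩ := hx
  obtain ⟨w, β, e3, e4⟩ := hy
  exact P.κ_eq hA e1 e3 e2 e4 ▸ h v w e1.W e3.W

section Big

variable (hc : ∀ c α, O.σ c = c → O.Λ 0 α → O.Λ 0 (c * α)) {t : K} (ht : t ≠ 0) (ht' : t ^ 2 ≠ 1)
  (hσ : O.σ t = t) {α₀ : K} (h0 : α₀ ≠ 0) (hα₀ : O.Λ 0 α₀)
include hc ht ht' hσ h0 hα₀

omit P h0 hα₀ in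
theorem Z_eq_comm {k : I} {d : O.U} (hd : d • F.e k = t • F.e k) {α : K} (hα : O.Λ 0 α) :
    O.Λ 0 ((t ^ 2 - 1)⁻¹ * α) ∧ F.Z k α = ⁅d, F.Z k ((t ^ 2 - 1)⁻¹ * α)⁆ := by
  have h1 := hc (t ^ 2 - 1)⁻¹ α (by simp [hσ]) hα
  have := sub_ne_zero.mpr ht'
  refine ⟨h1, ?_⟩
  rw [commutatorElement_def, Z_conj h1 ht hd, eq_mul_inv_iff_mul_eq, ← Z_add k hα h1, hσ]
  congr 1; field_simp; ring

theorem lcB_big {k j : I} (h : F.D k j) {α β : K} (hα : O.Λ 0 α) (hβ : O.Λ 0 β) :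
    LC π (F.Z k α) (F.Z j β) := by
  obtain ⟨d, hd, e1, -, e3⟩ := exists_torus (F := F) j hα₀ h0 ht (hc t _ hσ hα₀)
  obtain ⟨e4, e5⟩ := Z_eq_comm hc ht ht' hσ e1 hβ
  rw [e5]
  exact P.cen.lc_comm (P.le hd) (P.le (okZ j e4).mem_E) (Z_commute hα (e3 _ h.symm.W))
    (Z_commute hα (by simp [Z_smul e4, h.B]))

theorem phi_big {k j : I} (h : F.D k j) : ∃ Φ, Phi F π k Φ := by
  have ht1 : t ≠ 1 := by rintro rfl; simp at ht'
  have hA : CenZ F π k := P.cenZ h fun i _ => by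
    obtain ⟨d, μ, h, -⟩ := exists_good_torus (F := F) i hα₀ h0 ht ht1 (hc t _ hσ hα₀)
    exact ⟨d, μ, 1, h⟩
  obtain ⟨d, hd, e1, e2, e3⟩ := exists_torus (F := F) k hα₀ h0 ht (hc t _ hσ hα₀)
  obtain ⟨d, rfl⟩ := P.le hd
  have e4 : ∀ {a α}, O.Λ 0 α → π a = F.Z k α →
      O.Λ 0 ((t ^ 2 - 1) * α) ∧ π ⁅d, a⁆ = F.Z k ((t ^ 2 - 1) * α) := fun {a α} hα ha => by
    have h1 := hc (t ^ 2 - 1) α (by simp [hσ]) hα
    refine ⟨h1, ?_⟩
    rw [map_commutatorElement, (Z_eq_comm hc ht ht' hσ e1 h1).2, ha,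
      inv_mul_cancel_left₀ (sub_ne_zero.mpr ht')]
  let Φ : Subgroup G :=
    { carrier := {g | ∃ a α, O.Λ 0 α ∧ π a = F.Z k α ∧ g = ⁅d, a⁆}
      one_mem' := ⟨1, 0, Λ_zero, by simp [Z_zero], by simp⟩
      mul_mem' := by
        rintro _ _ ⟨a, α, h1, h2, rfl⟩ ⟨b, β, h3, h4, rfl⟩
        exact ⟨a * b, _, Λ0_add h1 h3, by rw [map_mul, h2, h4, Z_add k h1 h3], (comm_mul_right
          (hA h1 h2 ((e4 h3 h4).2 ▸ Z_mem_Q k (e4 h3 h4).1))).symm⟩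
      inv_mem' := by
        rintro _ ⟨a, α, h1, h2, rfl⟩
        refine ⟨a⁻¹, _, OF.neg_zero h1, by rw [map_inv, h2, Z_neg k h1],
          inv_eq_of_mul_eq_one_left ?_⟩
        rw [← comm_mul_right (hA h1 h2 ((e4 h1 h2).2 ▸ Z_mem_Q k (e4 h1 h2).1)).inv_left]; simp }
  have surj : ∀ α, O.Λ 0 α → ∃ φ ∈ Φ, π φ = F.Z k α := fun α hα => by
    obtain ⟨h1, h2⟩ := Z_eq_comm hc ht ht' hσ e1 hα
    exact ⟨_, ⟨_, _, h1, P.π_T (okZ k h1), rfl⟩, by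
      rw [map_commutatorElement, P.π_T (okZ k h1), h2]; rfl⟩
  have conj : ∀ g (c d : K), π g • F.e k = c • F.e k → π g • F.e (F.n k) = d • F.e (F.n k) →
      ∀ φ ∈ Φ, g * φ * g⁻¹ ∈ Φ := by
    rintro g c c' h1 h2 _ ⟨a, α, h3, h4, rfl⟩
    refine ⟨g * a * g⁻¹, _, by simpa using O.smul c h3, by
      rw [map_mul, map_mul, map_inv, h4, Z_conj h3 (line_n h1 h2).1 h1], ?_⟩
    rw [conjugate_commutatorElement]
    exact P.cen.comm_congr (by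
      simp [← (commute_of_lines e1 e2 (μ := 1) (by simpa using e3) h1 h2).eq]) rfl
  refine ⟨Φ, hA, ?_, ?_, surj, conj, P.comm_mem hA fun v w => P.κ_mem hA h0 hα₀
    (fun h hα => P.lcB_big hc ht ht' hσ h0 hα₀ h hα hα₀) h fun s c => ?_⟩
  · rintro _ ⟨a, α, h1, h2, rfl⟩
    exact ⟨_, e4 h1 h2⟩
  · rintro _ ⟨a, α, h1, h2, rfl⟩ e
    obtain rfl : α = 0 := by
      simpa [sub_ne_zero.mpr ht'] using Z_eq_one (e4 h1 h2).1 ((e4 h1 h2).2.symm.trans e)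
    exact commutatorElement_eq_one_iff_commute.mpr (P.cen a (h2.trans (Z_zero k)) d).symm
  · have h1 := h.nr.W.smul ((t ^ 2 - 1)⁻¹ * s)
    have h2 := h.W.smul c
    have h3 := P.π_l (h_mem_E h t)
    have h4 := h.h_a ht
    have h5 := h.h_na ht
    rw [← h3] at h4 h5
    obtain ⟨φ, h6, h7⟩ := surj _ (Λ0_comm (((t ^ 2 - 1)⁻¹ * s) • F.e (F.n j)) (c • F.e j))
    have h8 := mul_mem (conj _ _ _ h4 h5 φ h6) (inv_mem h6)
    rw [← commutatorElement_def, P.cen.comm_congr rfl (h7.trans (P.π_κ h1 h2).symm),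
      commutatorElement_def, P.κ_conj hA h4 h5 h1 h2, ← P.κ_neg_left hA h1 h2, h3, U_smul, U_smul,
      h.h_nb ht, h.h_b ht, hσ, smul_comm c, smul_inv_smul₀ ht,
      ← P.κ_add_left hA (((h.nr.W.smul _).smul _).smul _) h1.neg h2] at h8
    convert h8 using 2
    have := sub_ne_zero.mpr ht'
    match_scalars; field_simp; ring

theorem exists_cst_big [Finite V] [Finite I] (h2 : ∀ a, ∃ b, F.D a b) : Nonempty (CSt F π) := by
  refine P.exists_cst_phi h2 (fun k => (h2 k).elim fun j h => P.phi_big hc ht ht' hσ h0 hα₀ h)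
    fun j i l hi hl => ?_
  obtain ⟨d, μ, h, h'⟩ := exists_good_torus (F := F) j hα₀ h0 ht (by rintro rfl; simp at ht')
    (hc t _ hσ hα₀)
  exact ⟨d, μ, 1, h, h' i hi, h' l hl⟩

end Big

section Min

variable (hmin : ∀ α, O.Λ 0 α → ∃ y, α = y - O.η * O.σ y)
  (h90 : ∀ y, y = O.η * O.σ y → ∃ s γ, O.Λ 0 γ ∧ y = (O.σ s - s) * O.σ γ)
  {α₀ : K} (h0 : α₀ ≠ 0) (hα₀ : O.Λ 0 α₀)
  (hW : (∀ k j, F.D k j → ∃ u u', F.W k u ∧ F.W j u ∧ F.W k u' ∧ F.W j u' ∧ O.B u' u ≠ 0) ∨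
    ((1 : K) + 1 + 1 = 0 ∧ ∀ a : K, a = 0 ∨ a = 1 ∨ a = -1))
include hmin hW

theorem lcB_min {k j : I} (h : F.D k j) {α β : K} (hα : O.Λ 0 α) (hβ : O.Λ 0 β) :
    LC π (F.Z k α) (F.Z j β) := by
  rcases hW with hW | ⟨h3, hall⟩
  · obtain ⟨u, u', h1, h2, h3, h4, h5⟩ := hW k j h
    obtain ⟨y, rfl⟩ := hmin β hβ
    obtain ⟨γ, e1⟩ := O.ex u
    obtain ⟨γ', e2⟩ := O.ex ((O.η * y / O.B u' u) • u')
    have e3 := (h4.smul _).ok e2
    have := P.cen.lc_comm (g := F.Z k α) (P.le e3.mem_E) (P.le (h2.ok e1).mem_E)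
      (Z_commute hα ((e3.fix_iff h.symm.2).mpr (h3.smul _).1))
      (Z_commute hα (((h2.ok e1).fix_iff h.symm.2).mpr h1.1))
    rwa [e3.comm_T (h2.ok e1), O.herm _ u, show O.B ((O.η * y / O.B u' u) • u') u = O.η * y by
      simp [h5], map_mul, O.ση, ← mul_assoc, ← mul_assoc, O.ηη, one_mul, one_mul] at this
  by_cases h0 : α = 0
  · rw [h0, Z_zero]; exact (P.cen.lc_one _).symm
  have h1 : LC π (F.Z k α) (F.Z j α) := P.cen.lc_swap (P.le (w_mem_E h 1))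
    (Z_commute hα (by simp [Z_smul hα, h.B]))
    (by rw [Z_conj hα (by simp) (h.w_a one_ne_zero)]; simp)
    (by rw [Z_conj hα (by simp) (h.w_b one_ne_zero)]; simp) (by
      rw [pow_three', ← Z_add k hα hα, ← Z_add k (Λ0_add hα hα) hα,
        show α + α + α = 0 by linear_combination α * h3, Z_zero])
  rcases hall (β / α) with e | e | e <;> rw [div_eq_iff h0] at e <;> rw [e]
  · rw [zero_mul, Z_zero]; exact P.cen.lc_one _
  · rwa [one_mul]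
  · rw [neg_one_mul, Z_neg j hα]; exact h1.inv

include h90 h0 hα₀

theorem phi_min {k j : I} (h : F.D k j) (hG : ∀ i, F.D k i → ∃ d μ μ₀, F.Good i d μ μ₀) :
    ∃ Φ, Phi F π k Φ := by
  have hA : CenZ F π k := P.cenZ h hG
  have hB : ∀ {j α}, F.D k j → O.Λ 0 α → LC π (F.Z k α) (F.Z j α₀) :=
    fun h hα => P.lcB_min hmin hW h hα hα₀
  have f1 := h.W.smul
  have f2 := h.nr.W.smul
  have bal : ∀ s c : K, P.κ k (s • F.e (F.n j)) (c • F.e j) =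
      P.κ k ((s * O.σ c) • F.e (F.n j)) (F.e j) := fun s c => by
    rcases hW with hW | ⟨-, hall⟩
    · obtain ⟨u, u', h1, h2, h3, h4, h5⟩ := hW k j h
      have e1 := P.κ_gen hA h0 hα₀ hB h h1 h2 (h3.smul (O.η / O.B u' u)) (h4.smul _) (s * O.σ c)
      have e2 := P.κ_gen hA h0 hα₀ hB h (h1.smul (O.σ c)) (h2.smul _) (h3.smul (O.η / O.B u' u))
        (h4.smul _) s
      simp only [map_smulₛₗ, LinearMap.smul_apply, smul_eq_mul, RingHom.id_apply, O.σσ,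
        div_mul_cancel₀ _ h5, O.ηη, one_smul, smul_smul, mul_left_comm O.η, mul_one] at e1 e2
      rw [← e1, ← e2, mul_right_comm]
    rcases hall c with rfl | rfl | rfl
    · rw [P.κ_swap]; simp [P.κ_zero_left hA h.W, P.κ_zero_left hA (f2 s)]
    · simp
    · simp [P.κ_neg_left hA (f2 s) h.W, P.κ_neg_right hA (f2 s) h.W]
  let Φ : Subgroup G :=
    { carrier := {g | ∃ s : K, g = P.κ k (s • F.e (F.n j)) (F.e j)}
      one_mem' := ⟨0, by rw [zero_smul, P.κ_zero_left hA h.W]⟩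
      mul_mem' := by
        rintro _ _ ⟨s, rfl⟩ ⟨t, rfl⟩
        exact ⟨s + t, by rw [add_smul, P.κ_add_left hA (f2 s) (f2 t) h.W]⟩
      inv_mem' := by
        rintro _ ⟨s, rfl⟩
        exact ⟨-s, by rw [neg_smul, P.κ_neg_left hA (f2 s) h.W]⟩ }
  have mem : ∀ v w, F.W k v → F.W k w → P.κ k v w ∈ Φ := fun v w =>
    P.κ_mem (Φ := Φ) hA h0 hα₀ hB h fun s c => ⟨_, bal s c⟩
  have e1 : ∀ s : K, O.η * O.B (s • F.e (F.n j)) (F.e j) - O.η * O.B (F.e j) (s • F.e (F.n j)) =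
      O.η * (s * F.ε j) - O.σ (s * F.ε j) := fun s => by
    simp only [map_smulₛₗ, LinearMap.smul_apply, smul_eq_mul, RingHom.id_apply, B_n, B_n', F.ε_n,
      map_mul]
    linear_combination (-O.σ s * O.σ (F.ε j)) * O.ηη
  have n1 := F.ε_ne j
  have n2 := O.σ_ne n1
  refine ⟨Φ, hA, ?_, ?_, fun α hα => ?_, ?_, P.comm_mem hA mem⟩
  · rintro _ ⟨s, rfl⟩
    exact ⟨_, Λ0_comm _ _, P.π_κ (f2 s) h.W⟩
  · rintro _ ⟨s, rfl⟩ e
    have e2 := Z_eq_one (Λ0_comm _ _) ((P.π_κ (f2 s) h.W).symm.trans e)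
    rw [e1] at e2
    obtain ⟨r, γ, h1, h2⟩ := h90 (s / O.σ (F.ε j)) (by
      rw [map_div₀, O.σσ]; field_simp
      rw [map_mul] at e2
      linear_combination O.η * e2 - s * F.ε j * O.ηη)
    have e3 := P.κ_conj' hA h (W_zero k) (okZ j h1) h.nr.W (f2 r)
    rw [P.κ_C' hA h0 hα₀ hB h.nr r h.nr.W (F.B_ee _), mul_one, mul_inv_cancel, ← Z, U_smul,
      Z_smul h1, B_n, smul_add, smul_smul, P.κ_add_left hA h.nr.W (f1 _) ((f2 _).add (f1 _)),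
      P.κ_add_right hA h.nr.W (f2 _) (f1 _), P.κ_add_right hA (f1 _) (f2 _) (f1 _),
      P.κ_C' hA h0 hα₀ hB h.nr r h.nr.W (F.B_ee _), P.κ_C hA h0 hα₀ hB h _ (f1 _)
        (by simp [F.B_ee]), one_mul, mul_one, P.κ_swap (r • F.e (F.n j)), bal,
      show P.κ k (F.e (F.n j)) _ = _ by simpa using bal 1 (r * (γ * F.ε j)),
      ← P.κ_neg_left hA (f2 _) h.W, ← P.κ_add_left hA (f2 _) (f2 _).neg h.W] at e3
    rw [e3]
    congr 1
    rw [div_eq_iff n2] at h2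
    simp only [h2, map_mul]
    module
  · obtain ⟨y, rfl⟩ := hmin α hα
    refine ⟨_, ⟨O.η * y / F.ε j, rfl⟩, ?_⟩
    rw [P.π_κ (f2 _) h.W, e1, div_mul_cancel₀ _ n1, ← mul_assoc, O.ηη, one_mul, map_mul, O.ση]
  · rintro g c d h1 h2 _ ⟨s, rfl⟩
    rw [P.κ_conj hA h1 h2 (f2 s) h.W]
    exact mem _ _ (((f2 s).map h1 h2).smul _) ((h.W.map h1 h2).smul _)

theorem exists_cst_min [Finite V] [Finite I] (h2 : ∀ a, ∃ b, F.D a b)
    (hG : ∀ j i l, F.D j i → F.D j l → ∃ d μ μ₀, F.Good j d μ μ₀ ∧ μ i = μ₀ ∧ μ l = μ₀) :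
    Nonempty (CSt F π) :=
  P.exists_cst_phi h2 (fun k => (h2 k).elim fun _ h => P.phi_min hmin h90 h0 hα₀ hW h fun i hi =>
    (hG i k k hi.symm hi.symm).imp fun _ h => h.imp fun _ h => h.imp fun _ h => h.1) hG

end Min

end PSt

end Cfsg.Agent.H6
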