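import Cfsg.Agent.H6.CLift

/-! Commutation of lifted root elements for symmetric forms. -/

set_option autoImplicit false

open scoped commutatorElement

namespace Cfsg.Agent.H6

open OF Subgroup Frame

variable {K V I G Q : Type*} [Field K] [AddCommGroup V] [Module K V] [Group G] [Group Q]

theorem field_cases (K : Type*) [Field K] : (∃ t : K, t ≠ 0 ∧ t ^ 2 ≠ 1) ∨
    ((1 : K) + 1 + 1 = 0 ∧ ∀ a : K, a = 0 ∨ a = 1 ∨ a = -1) ∨ ∀ a : K, a = 0 ∨ a = 1 := by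
  by_cases h : ∃ t : K, t ≠ 0 ∧ t ^ 2 ≠ 1
  · exact Or.inl h
  push Not at h
  have hall : ∀ a : K, a = 0 ∨ a = 1 ∨ a = -1 := fun a => by
    by_cases h0 : a = 0
    · exact Or.inl h0
    · exact Or.inr (sq_eq_one_iff.mp (h a h0))
  rcases hall (1 + 1) with e | e | e
  · refine Or.inr (Or.inr fun a => (hall a).imp_right fun h => h.elim id fun h => ?_)
    linear_combination h - e
  · exact absurd (by linear_combination e) (one_ne_zero (α := K))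
  · exact Or.inr (Or.inl ⟨by linear_combination e, hall⟩)

theorem LC.conj {σ : G →* Q} {g y x : Q} (hy : y ∈ σ.range) (h : LC σ g x) :
    LC σ (y * g * y⁻¹) (y * x * y⁻¹) := by
  obtain ⟨y, rfl⟩ := hy
  intro a b ha hb
  have := (h (y⁻¹ * a * y) (y⁻¹ * b * y) (by simp [ha, mul_assoc])
    (by simp [hb, mul_assoc])).map (MulAut.conj y)
  simp only [MulAut.conj_apply] at this
  simpa [mul_assoc] using this

theorem Cen.lc_three {σ : G →* Q} (E : Cen σ) (hall : ∀ a : K, a = 0 ∨ a = 1 ∨ a = -1)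
    {r r' : K → Q} (hr : AddF r) (hr' : AddF r') {c : K} (hc : c ≠ 0) (h : LC σ (r 1) (r' c))
    (s t : K) : LC σ (r s) (r' t) := by
  have h1 : LC σ (r s) (r' c) := by
    rcases hall s with rfl | rfl | rfl
    · rw [add_fam_zero hr]; exact (E.lc_one _).symm
    · exact h
    · rw [add_fam_neg hr]; exact h.inv_left
  obtain ⟨t, rfl⟩ : ∃ u, t = u * c := ⟨t / c, by field_simp⟩
  rcases hall t with rfl | rfl | rfl
  · rw [zero_mul, add_fam_zero hr']; exact E.lc_one _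
  · rwa [one_mul]
  · rw [neg_one_mul, add_fam_neg hr']; exact h1.inv

theorem Cen.lc_cancel {σ : G →* Q} (E : Cen σ) {g x y : Q} (hx : x ∈ σ.range) (hy : y ∈ σ.range)
    (h : LC σ g (x * y)) : (LC σ g x → LC σ g y) ∧ (LC σ g y → LC σ g x) :=
  ⟨fun h' => by simpa using E.lc_mul (inv_mem hx) h'.inv h,
    fun h' => by simpa using E.lc_mul (mul_mem hx hy) h h'.inv⟩

namespace Frame

variable {O : OF K V} {F : Frame O I}

section Std

variable {a b : I} (h : F.D a b) {t : K}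
include h

theorem D.w_a (ht : t ≠ 0) : F.std.w a b t • F.e a = (-t⁻¹) • F.e b := CSt.w_a (S := F.std) h ht

theorem D.w_b (ht : t ≠ 0) : F.std.w a b t • F.e b = t • F.e a := CSt.w_b (S := F.std) h ht

theorem D.w_na (ht : t ≠ 0) : F.std.w a b t • F.e (F.n a) =
    (-(F.ε a * O.σ t / F.ε b)) • F.e (F.n b) := CSt.w_na (S := F.std) h ht

theorem D.w_nb (ht : t ≠ 0) : F.std.w a b t • F.e (F.n b) =
    (-(-(F.ε a * O.σ t / F.ε b))⁻¹) • F.e (F.n a) := CSt.w_nb (S := F.std) h ht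

theorem D.w_D {k : I} (ha : F.D a k) (hb : F.D b k) : F.std.w a b t • F.e k = F.e k :=
  CSt.w_of_D (S := F.std) h t ha hb

theorem D.h_a (ht : t ≠ 0) : F.std.h a b t • F.e a = t • F.e a := CSt.h_a (S := F.std) h ht

theorem D.h_b (ht : t ≠ 0) : F.std.h a b t • F.e b = t⁻¹ • F.e b := CSt.h_b (S := F.std) h ht

theorem D.h_na (ht : t ≠ 0) : F.std.h a b t • F.e (F.n a) = (O.σ t)⁻¹ • F.e (F.n a) :=
  CSt.h_na (S := F.std) h ht

theorem D.h_nb (ht : t ≠ 0) : F.std.h a b t • F.e (F.n b) = O.σ t • F.e (F.n b) :=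
  CSt.h_nb (S := F.std) h ht

theorem D.h_D {k : I} (ha : F.D a k) (hb : F.D b k) : F.std.h a b t • F.e k = F.e k :=
  CSt.h_of_D (S := F.std) h t ha hb

theorem D.h_V0 {u : V} (hu : F.V0 u) : F.std.h a b t • u = u := CSt.h_V0 (S := F.std) h t hu

end Std

theorem commute_xT_T {i j k : I} (hij : F.D i j) (h1 : k ≠ j) (h2 : k ≠ F.n i) (s : K) {u : V}
    {α : K} (h : F.Ok k u α) (hi : O.B u (F.e i) = 0) (hj : O.B u (F.e (F.n j)) = 0) :
    Commute (F.xT i j s) (O.T (F.e k) u α) := h.commute (hij.xT_ne s h1 h2) (hij.xT_fix s hi hj)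

theorem commute_xT_xT {i j k l : I} (hij : F.D i j) (hkl : F.D k l) (h1 : k ≠ j) (h2 : k ≠ F.n i)
    (h3 : i ≠ l) (h4 : j ≠ F.n l) (s t : K) : Commute (F.xT i j s) (F.xT k l t) :=
  hkl.commute_xT t (hij.xT_ne s h1 h2) (hij.xT_ne s h4.symm (n_ne_comm h3.symm))

theorem commute_xT_D {i j k l : I} (hij : F.D i j) (hik : F.D i k) (hil : F.D i l) (hjk : F.D j k)
    (hjl : F.D j l) (hkl : F.D k l) (s t : K) : Commute (F.xT i j s) (F.xT k l t) :=
  commute_xT_xT hij hkl hjk.1 hik.2 hil.1.symm hjl.symm.2 s t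

theorem D.xT_eq' {i j : I} (h : F.D i j) (c : K) :
    O.T (F.e i) (c • F.e j) 0 = F.xT i (F.n j) (-O.σ (c * F.ε (F.n j))) := by
  have := F.ε_ne (F.n j)
  rw [xT, xv, F.nn, map_neg, O.σσ]; congr 2; field_simp

theorem hx_std (hN : F.ND) {i j : I} (h : F.D i j) {t : K} (ht : t ≠ 0) (u : K) :
    F.std.h i j t * F.xT i j u * (F.std.h i j t)⁻¹ = F.xT i j (t ^ 2 * u) := by
  rw [← std_x h, ← std_x h]; exact (CSt.isR1 hN h).hx ht u

theorem mon_xT {g : O.U} {s : Equiv.Perm I} (M : F.std.Mon g s) {i j i' j' : I} (h : F.D i j)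
    {c d : K} (e1 : s i = i') (e2 : s j = j') (hi : g • F.e i = c • F.e i')
    (hj : g • F.e j = d • F.e j') (u : K) : g * F.xT i j u * g⁻¹ = F.xT i' j' (c * u / d) := by
  subst e1 e2
  rw [← std_x h, ← std_x (M.D h)]; exact M.x h hi hj u

theorem Q_comm (hs : ∀ x, O.σ x = x) (hη : O.η = 1) {k : I} {g g' : O.U} (h : g ∈ F.Q k)
    (h' : g' ∈ F.Q k) : Commute g g' := by
  obtain ⟨v, α, h, rfl⟩ := h
  obtain ⟨w, β, h', rfl⟩ := h'
  rw [Commute, SemiconjBy, h.T_mul h'.toOk, h'.T_mul h.toOk, add_comm v, add_comm α, O.herm v w,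
    hs, hη, one_mul, one_mul]

end Frame

namespace PSt

variable {O : OF K V} {F : Frame O I} {π : G →* O.U} (P : PSt F π)
include P

theorem mx {i j : I} (h : F.D i j) (s : K) : F.xT i j s ∈ π.range := P.le (h.xT_mem s)

theorem mQ {k : I} {g : O.U} (h : g ∈ F.Q k) : g ∈ π.range := P.le (Q_le_E k h)

theorem lcx_spare {i j k l : I} (hij : F.D i j) (hik : F.D i k) (hjk : F.D j k) (hil : F.D i l)
    (hjl : F.D j l) (hkl : F.D k l) (s : K) {u : V} {α : K} (hu : F.V0 u) (hα : O.Λ u α) :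
    LC π (F.xT i j s) (O.T (F.e k) u α) := by
  rw [← mul_one s, ← hil.comm_xT hjl.symm hij]
  exact (P.cen.lc_comm (P.mx hil _) (P.mx hjl.symm _)
    (commute_xT_T hil hkl.1.symm hik.2 _ (hu.ok hα k) (hu _) (hu _)).symm
    (commute_xT_T hjl.symm hjk.1 hkl.symm.2 _ (hu.ok hα k) (hu _) (hu _)).symm).symm

theorem lc_h (hN : F.ND) {i j : I} (hij : F.D i j) {t : K} (ht : t ≠ 0) (ht' : t ^ 2 ≠ 1) {g : O.U}
    (h1 : Commute (F.std.h i j t) g) (h2 : ∀ s, Commute (F.xT i j s) g) (s : K) :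
    LC π (F.xT i j s) g :=
  (P.cen.lc_torus hij.xT_add (P.le (h_mem_E hij t)) (P.mx hij) h1.symm (fun s => (h2 s).symm) ht'
    (hx_std hN hij ht) s).symm

theorem lcx_torus (hN : F.ND) {i j k : I} (hij : F.D i j) (hik : F.D i k) (hjk : F.D j k) {t : K}
    (ht : t ≠ 0) (ht' : t ^ 2 ≠ 1) (s : K) {u : V} {α : K} (hu : F.V0 u) (hα : O.Λ u α) :
    LC π (F.xT i j s) (O.T (F.e k) u α) :=
  P.lc_h hN hij ht ht' ((hu.ok hα k).commute (CSt.h_of_D (S := F.std) hij t hik hjk)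
    (CSt.h_V0 (S := F.std) hij t hu))
    (fun s => commute_xT_T hij hjk.1 hik.2 s (hu.ok hα k) (hu _) (hu _)) s

theorem lcx_rot (h0 : ∀ α, O.Λ 0 α → α = 0) {ρ : O.U} (hρ : ρ ∈ F.E)
    (h1 : ∀ i, ρ • F.e i = F.e i) (h2 : ∀ u, F.V0 u → ∃ u', F.V0 u' ∧ ρ • u' - u' = u) {i j k : I}
    (hij : F.D i j) (hik : F.D i k) (hjk : F.D j k) (s : K) {u : V} {α : K} (hu : F.V0 u)
    (hα : O.Λ u α) : LC π (F.xT i j s) (O.T (F.e k) u α) := by
  obtain ⟨v, hv, rfl⟩ := h2 u hu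
  obtain ⟨β, hβ⟩ := O.ex v
  have h3 := (hv.ok hβ k).toOk.map ρ
  rw [h1] at h3
  have := P.cen.lc_comm (P.le hρ) (P.le (hv.ok hβ k).mem_E)
    (hij.commute_xT s (h1 _) (h1 _)).symm
    (commute_xT_T hij hjk.1 hik.2 s (hv.ok hβ k) (hv _) (hv _))
  rw [commutatorElement_def, (hv.ok hβ k).conj_T, h1, (hv.ok hβ k).T_inv,
    h3.T_mul (hv.ok hβ k).inv.toOk, ← sub_eq_add_neg] at this
  have h4 := (h3.add (hv.ok hβ k).inv.toOk).mem
  rw [← sub_eq_add_neg] at h4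
  have h5 := h0 _ (Λ_congr (O.add h4 (OF.inv hα)) (add_neg_cancel _) rfl)
  have h6 := h0 _ (Λ_congr (O.add hα (OF.inv hα)) (add_neg_cancel _) rfl)
  convert this using 2
  linear_combination h6 - h5

theorem lcd_spare {i j k l h : I} (hij : F.D i j) (hik : F.D i k) (hil : F.D i l) (hjk : F.D j k)
    (hjl : F.D j l) (hkl : F.D k l) (hi : F.D i h) (hj : F.D j h) (hk : F.D k h) (hl : F.D l h)
    (s t : K) : LC π (F.xT i j s) (F.xT k l t) := by
  rw [← mul_one t, ← hk.comm_xT hl.symm hkl]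
  exact P.cen.lc_comm (P.mx hk _) (P.mx hl.symm _) (commute_xT_D hij hik hi hjk hj hk _ _)
    (commute_xT_D hij hi hil hj hjl hl.symm _ _)

theorem lcd_torus (hN : F.ND) {i j k l : I} (hij : F.D i j) (hik : F.D i k) (hil : F.D i l)
    (hjk : F.D j k) (hjl : F.D j l) (hkl : F.D k l) {a : K} (ha : a ≠ 0) (ha' : a ^ 2 ≠ 1)
    (s t : K) : LC π (F.xT i j s) (F.xT k l t) :=
  P.lc_h hN hij ha ha' (hkl.commute_xT t (CSt.h_of_D (S := F.std) hij a hik hjk)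
    (CSt.h_of_D (S := F.std) hij a hil.nr hjl.nr))
    (fun s => commute_xT_D hij hik hil hjk hjl hkl s t) s

theorem lcd_three (hN : F.ND) {i j k l : I} (hij : F.D i j) (hik : F.D i k) (hil : F.D i l)
    (hjk : F.D j k) (hjl : F.D j l) (hkl : F.D k l) (h3 : (1 : K) + 1 + 1 = 0)
    (hall : ∀ a : K, a = 0 ∨ a = 1 ∨ a = -1) (s t : K) : LC π (F.xT i j s) (F.xT k l t) := by
  have M := (CSt.mon_w (S := F.std) hN hjl one_ne_zero).mul (CSt.mon_w hN hik one_ne_zero)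
  refine P.cen.lc_three hall hij.xT_add hkl.xT_add one_ne_zero (P.cen.lc_swap
    (P.le (mul_mem (w_mem_E hjl 1) (w_mem_E hik 1))) (commute_xT_D hij hik hil hjk hjl hkl _ _)
    ?_ ?_ (by rw [pow_three', ← hij.xT_add, ← hij.xT_add, h3, hij.xT_zero])) s t
  · rw [mon_xT M hij (i' := k) (j' := l) (c := -1) (d := -1)
      (by simp [hik.sw_a, sw_of_D hjk hkl.symm]) (by simp [hjl.sw_a, sw_of_D hij hjk.symm])
      (by simp [mul_smul, hik.w_a, hjl.w_D hjk hkl.symm])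
      (by simp [mul_smul, hjl.w_a, hik.w_D hij hjk.symm])]
    simp
  · rw [mon_xT M hkl (i' := i) (j' := j) (c := 1) (d := 1)
      (by simp [hik.sw_b, sw_of_D hij.symm hil.symm]) (by simp [hjl.sw_b, sw_of_D hil hkl])
      (by simp [mul_smul, hik.w_b, hjl.w_D hij.symm hil.symm])
      (by simp [mul_smul, hjl.w_b, hik.w_D hil hkl])]
    simp

theorem lcd_Y (hx : ∀ {i j k}, F.D i j → F.D i k → F.D j k → ∀ s {u α}, F.V0 u → O.Λ u α →
    LC π (F.xT i j s) (O.T (F.e k) u α)) {u : V} {α : K} (hu : F.V0 u) (hα : O.Λ u α) (h0 : α ≠ 0)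
    {i j k l : I} (hij : F.D i j) (hik : F.D i k) (hil : F.D i l) (hjk : F.D j k) (hjl : F.D j l)
    (hkl : F.D k l) (s t : K) : LC π (F.xT i j s) (F.xT k l t) := by
  let r := t / O.σ (α * F.ε l)
  have := P.cen.lc_comm (inv_mem (P.mx hkl.nr r)) (P.le (hu.ok hα (F.n l)).mem_E)
    (commute_xT_D hij hik hil.nr hjk hjl.nr hkl.nr s r).inv_right
    (commute_xT_T hij hjl.nr.1 hil.nr.2 s (hu.ok hα _) (hu _) (hu _))
  have hu' : F.V0 ((-O.σ r) • u) := fun i => by simp [hu i]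
  have hα' : O.Λ ((-O.σ r) • u) (r * O.σ r * α) :=
    Λ_congr (O.smul (-O.σ r) hα) rfl (by rw [map_neg, O.σσ]; ring)
  rw [commutatorElement_def, inv_inv, mul_assoc, mul_assoc, ← mul_assoc (O.T _ _ _),
    hkl.nr.conj_xT_T (hu.ok hα _) (hu.ok hα _), mul_assoc, inv_mul_cancel_left, hkl.nr.xT_eq',
    F.nn] at this
  convert (P.cen.lc_cancel (P.mx hkl _) (P.le (hu'.ok hα' k).mem_E) this).2
    (hx hij hik hjk s hu' hα') using 2
  have := O.σ_ne h0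
  have := O.σ_ne (F.ε_ne l)
  simp only [r, map_mul, map_neg, O.σσ]
  field_simp

section Sym

variable (hs : ∀ x, O.σ x = x) (hη : O.η = 1) (h3 : ∀ a b, ∃ c, F.D a c ∧ F.D b c)
include hs hη h3

theorem lc_same {k j : I} (h : F.D k j) (s t : K) : LC π (F.xT k j s) (F.xT k j t) := by
  obtain ⟨l, h1, h2⟩ := h3 k j
  rw [← mul_one t, ← h1.comm_xT h2.symm h]
  exact P.cen.lc_comm (P.mx h1 _) (P.mx h2.symm _) (Q_comm hs hη (h.xT_mem_Q _) (h1.xT_mem_Q _))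
    (Q_comm hs hη (h.xT_mem_Q' _) (h2.symm.xT_mem_Q' _))

theorem lc_perp {a b : I} (h : F.D a b) {v : V} {α : K} (ha : F.Ok a v α) (hb : F.Ok b v α)
    (s : K) : LC π (F.xT a (F.n b) s) (O.T (F.e a) v α) := by
  have h1 := h.nr.xT_mem_Q' s
  rw [F.nn] at h1
  have := P.cen.lc_comm (inv_mem (P.mx h (-1))) (P.le hb.mem_E)
    (Q_comm hs hη (h.nr.xT_mem_Q s) (inv_mem (h.xT_mem_Q _))) (Q_comm hs hη h1 ⟨_, _, hb, rfl⟩)
  rw [commutatorElement_def, inv_inv, mul_assoc, mul_assoc, ← mul_assoc (O.T _ _ _),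
    h.conj_xT_T ha hb, mul_assoc, inv_mul_cancel_left, h.xT_eq'] at this
  simp only [map_neg, map_one, neg_neg, one_smul, mul_neg, mul_one, one_mul] at this
  exact (P.cen.lc_cancel (P.mx h.nr _) (P.le ha.mem_E) this).1 (P.lc_same hs hη h3 h.nr _ _)

theorem lc_Q (h2 : ∀ {k j}, F.D k j → ∀ s t, LC π (F.xT k j s) (F.xT k (F.n j) t)) {k : I}
    {g g' : O.U} (hg : g ∈ F.Q k) (hg' : g' ∈ F.Q k) : LC π g g' := by
  have key : ∀ {j}, F.D k j → ∀ s, ∀ g ∈ F.Q k, LC π (F.xT k (F.n j) s) g := fun {j} h s g hg => by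
    refine (CSt.RR_le_of (S := F.std) (H := P.cen.sub (F.xT k (F.n j) s)) h
      (fun t => ⟨P.mQ (F.std.x_mem h t), std_x h t ▸ (h2 h t s).symm⟩)
      (fun t => ⟨P.mQ (F.std.x_mem h.nr t), std_x h.nr t ▸ P.lc_same hs hη h3 h.nr s t⟩)
      (fun y hy e _ => ⟨mul_mem (mul_mem (P.mQ hy.1) (P.mQ (F.std.x_mem h _))) (inv_mem (P.mQ hy.1)),
        P.cen.lc_conj (P.mQ hy.1) (h.nr.commute_xT s e ?_) (std_x h _ ▸ (h2 h _ s).symm)⟩)
      (CSt.mem_RR_univ hg)).2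
    rw [F.nn]; exact F.std.fix_self hy.1
  obtain ⟨j, h, -⟩ := h3 k k
  let H : Subgroup O.U := ⨅ g ∈ F.Q k, P.cen.sub g
  have hH : ∀ x, x ∈ π.range → (∀ g ∈ F.Q k, LC π g x) → x ∈ H := fun x h1 h2 => by
    simp only [H, mem_iInf]; exact fun g hg => ⟨h1, h2 g hg⟩
  have h4 : ∀ t, ∀ g ∈ F.Q k, LC π g (F.std.x k j t) := fun t g hg => by
    have := key h.nr t g hg
    rw [F.nn] at this
    exact std_x h t ▸ this.symm
  have : g' ∈ H := CSt.RR_le_of (S := F.std) h (fun t => hH _ (P.mQ (F.std.x_mem h t)) (h4 t))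
    (fun t => hH _ (P.mQ (F.std.x_mem h.nr t)) fun g hg => std_x h.nr t ▸ (key h t g hg).symm)
    (fun y hy e e' => hH _ (mul_mem (mul_mem (P.mQ hy.1) (P.mQ (F.std.x_mem h _)))
      (inv_mem (P.mQ hy.1))) fun g hg => by
        simpa [mul_assoc] using (h4 (-1) _ (F.std.conj h.symm (inv_mem hy.1)
          (inv_smul_eq_iff.mpr e.symm) (inv_smul_eq_iff.mpr e'.symm) hg)).conj (P.mQ hy.1))
    (CSt.mem_RR_univ hg')
  simp only [H, mem_iInf] at this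
  exact (this g hg).2

omit h3 in
theorem lc_opp_torus (hN : F.ND) {a : K} (ha : a ≠ 0) (ha' : a ^ 2 ≠ 1) {k j : I} (h : F.D k j)
    (s t : K) : LC π (F.xT k j s) (F.xT k (F.n j) t) := by
  refine P.lc_h hN h ha ha' (mul_inv_eq_iff_eq_mul.mp ?_)
    (fun s => Q_comm hs hη (h.xT_mem_Q s) (h.nr.xT_mem_Q t)) s
  rw [mon_xT (CSt.mon_h hN h ha) h.nr rfl rfl (CSt.h_a (S := F.std) h ha)
    (CSt.h_nb (S := F.std) h ha), hs]
  congr 1; field_simp

theorem lc_opp_three (hN : F.ND) (h30 : (1 : K) + 1 + 1 = 0)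
    (hall : ∀ a : K, a = 0 ∨ a = 1 ∨ a = -1) {k j : I} (h : F.D k j)
    (s t : K) : LC π (F.xT k j s) (F.xT k (F.n j) t) := by
  obtain ⟨l, h1, h2⟩ := h3 k j
  have M := (CSt.mon_w (S := F.std) hN h2 one_ne_zero).mul (CSt.mon_w hN h2.nr one_ne_zero)
  have e1 : (F.sw j l * F.sw j (F.n l)) j = F.n j := by simp [h2.nr.sw_a, h2.sw_nb]
  have e2 : (F.sw j l * F.sw j (F.n l)) (F.n j) = j := by rw [M.comm, e1, F.nn]
  have e3 : (F.sw j l * F.sw j (F.n l)) k = k := by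
    simp [sw_of_D h.symm h1.symm, sw_of_D h.symm h1.symm.nl]
  have e4 : (F.std.w j l 1 * F.std.w j (F.n l) 1) • F.e k = (1 : K) • F.e k := by
    simp [mul_smul, h2.nr.w_D h.symm h1.symm.nl, h2.w_D h.symm h1.symm]
  obtain ⟨c, hc, e5⟩ := M.lin' j
  obtain ⟨d, hd, e6⟩ := M.lin' (F.n j)
  rw [e1, MonoidHom.id_apply] at e5
  rw [e2, MonoidHom.id_apply] at e6
  have e7 := B_U (F.std.w j l 1 * F.std.w j (F.n l) 1) (F.e (F.n j)) (F.e j)
  rw [e5, e6] at e7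
  simp only [map_smulₛₗ, LinearMap.smul_apply, smul_eq_mul, B_n, B_n', F.ε_n, hs, hη,
    RingHom.id_apply, one_mul] at e7
  refine P.cen.lc_three hall h.xT_add h.nr.xT_add (c := 1 * 1 / c) (by simpa) (P.cen.lc_swap
    (P.le (mul_mem (w_mem_E h2 1) (w_mem_E h2.nr 1))) (Q_comm hs hη (h.xT_mem_Q _) (h.nr.xT_mem_Q _))
    (mon_xT M h e3 e1 e4 e5 1) ?_ (by rw [pow_three', ← h.xT_add, ← h.xT_add, h30, h.xT_zero])) s t
  rw [mon_xT M h.nr e3 e2 e4 e6]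
  congr 1
  field_simp
  exact mul_right_cancel₀ (F.ε_ne j) (by linear_combination -e7)

theorem lc_opp_two (hall : ∀ a : K, a = 0 ∨ a = 1) {k j l : I} (h : F.D k j) (hj : F.D j l)
    {v : V} (vj : F.Ok j v 1) (vk : F.Ok k v 1) (vl : F.Ok l v 1)
    (h1 : LC π (F.xT j l 1) (O.T (F.e k) v 1)) (h2 : ∀ s, LC π (F.xT j (F.n l) s) (O.T (F.e k) v 1))
    (hk : F.D k l) (s t : K) : LC π (F.xT k j s) (F.xT k (F.n j) t) := by
  have h20 : (1 : K) + 1 = 0 := (hall _).resolve_right (by simp)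
  have hm : (-1 : K) = 1 := by linear_combination -h20
  have hv : O.B v v = 0 := by linear_combination O.max vj.mem - h20 - hη - hs 1
  have hT : ∀ {i}, F.Ok i v 1 → F.D i k → ⁅O.T (F.e i) v 1, O.T (F.e k) v 1⁆ = 1 := fun hi h => by
    rw [h.comm_TT hi vk vk.perp hi.perp, hv]; simp [T_zero]
  let x := P.l (O.T (F.e k) v 1)
  let y := P.l (O.T (F.e j) v 1)
  have πx : π x = _ := P.π_T vk
  have πy : π y = _ := P.π_T vj
  have c1 := P.cen ⁅P.l (O.T (F.e l) v 1), x⁆ (by rw [map_commutatorElement, P.π_T vl, πx, hT vl hk.symm])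
  have c2 := P.cen ⁅y, x⁆ (by rw [map_commutatorElement, πy, πx, hT vj h.symm])
  have e1 := P.cen.beta (b := P.l (F.xT j l 1)) (X := P.l (F.xT j (F.n l) (-O.σ (1 * F.ε (F.n l)))))
    (by
      have := hj.conj_xT_T vj vl (-1)
      simp only [map_neg, neg_neg, mul_neg, hj.xT_neg, map_one, mul_one, hj.xT_eq'] at this
      simp only [map_mul π, map_inv, P.π_T vl, πy, P.π_x hj, P.π_x hj.nr]
      rw [← mul_inv_eq_iff_eq_mul, mul_assoc, mul_assoc, ← eq_inv_mul_iff_mul_eq, ← mul_assoc, this,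
        mul_assoc, one_smul]) (h1 _ _ (P.π_x hj 1) πx) (h2 _ _ _ (P.π_x hj.nr _) πx)
    (c1 _).symm (c1 _).symm (c2 _).symm
  rw [← (c1 _).eq, mul_inv_cancel_right, left_eq_mul, commutatorElement_eq_one_iff_commute] at e1
  let a := P.l (F.xT k j 1)
  have πa : π a = _ := P.π_x h 1
  have e2 : π ⁅y, a⁆ = F.xT k (F.n j) (-O.σ (1 * F.ε (F.n j))) * O.T (F.e k) v 1 := by
    have := h.conj_xT_T vk vj 1
    simp only [map_one, mul_one, hm, h.xT_eq'] at this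
    rw [one_smul] at this
    rw [map_commutatorElement, πa, πy, commutatorElement_def, this, mul_assoc (F.xT k j 1),
      (Q_comm hs hη (h.xT_mem_Q _) (mul_mem (h.nr.xT_mem_Q _) ⟨_, _, vk, rfl⟩)).eq,
      mul_inv_cancel_right]
  have e3 : Commute y ⁅y, a⁆ := by
    refine P.cen.lc_mul (P.mx h.nr _) ?_ (πx ▸ P.cen.lc_of e1) _ _ rfl e2
    rw [πy, h.nr.xT_swap, F.nn]
    exact (P.lc_perp hs hη h3 h.symm vj vk _).symm
  have e4 : ⁅y, a⁆ * ⁅y, a⁆ = 1 := by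
    have := (P.cen (y * y) (by
      rw [map_mul, πy, vj.T_mul vj.toOk, ← two_smul K, hv, ← one_add_one_eq_two, h20]
      simp [T_zero]) a).commutator_eq
    rw [← this]
    nth_rewrite 1 [← mul_inv_cancel_right ⁅y, a⁆ y, ← e3.eq]
    simp only [commutatorElement_def]; group
  have e5 : Commute a ⁅y, a⁆ := by
    have := (P.cen (a * a) (by rw [map_mul, πa, ← h.xT_add, h20, h.xT_zero]) y).symm.commutator_eq
    rw [← e4, show ⁅y, a * a⁆ = ⁅y, a⁆ * (a * ⁅y, a⁆ * a⁻¹) by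
      simp only [commutatorElement_def]; group, mul_right_inj, mul_inv_eq_iff_eq_mul] at this
    exact this
  have e6 := P.cen.lc_of e5
  rw [πa, e2] at e6
  have e7 := P.lc_perp hs hη h3 h.nr vk ⟨⟨F.sing _, vj.perp', vj.mem⟩, by simpa [F.nn] using vj.perp⟩ 1
  rw [F.nn] at e7
  refine P.cen.lc_three (fun a => (hall a).imp_right Or.inl) h.xT_add h.nr.xT_add ?_
    ((P.cen.lc_cancel (P.mx h.nr _) (P.le vk.mem_E) e6).2 e7) s t
  simp [F.ε_ne]

variable [Finite I] (hN : F.ND)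
include hN

theorem exists_cst_D (hD : ∀ u α, F.V0 u → O.Λ u α → α = 0)
    (h4 : ∀ a b c, ∃ d, F.D a d ∧ F.D b d ∧ F.D c d)
    (h5 : (∀ a b c d, ∃ e, F.D a e ∧ F.D b e ∧ F.D c e ∧ F.D d e) ∨ ∃ a : K, a ≠ 0 ∧ a ≠ 1) :
    Nonempty (CSt F π) := by
  have hd : ∀ {i j k l}, F.D i j → F.D i k → F.D i l → F.D j k → F.D j l → F.D k l → ∀ s t,
      LC π (F.xT i j s) (F.xT k l t) := fun {i j k l} hij hik hil hjk hjl hkl => by
    rcases h5 with h5 | ⟨a, h6, h7⟩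
    · obtain ⟨e, e1, e2, e3, e4⟩ := h5 i j k l
      exact P.lcd_spare hij hik hil hjk hjl hkl e1 e2 e3 e4
    rcases field_cases K with ⟨a, ha, ha'⟩ | ⟨h, h'⟩ | h
    · exact P.lcd_torus hN hij hik hil hjk hjl hkl ha ha'
    · exact P.lcd_three hN hij hik hil hjk hjl hkl h h'
    · exact absurd (h a) (by tauto)
  refine P.exists_cst_delta h3 (P.lc_Q hs hη h3 fun {k j} h => ?_)
    (fun {i j k} _ _ _ s u α hu hα => ?_) hd (Or.inl h4) hN
  · rcases field_cases K with ⟨a, ha, ha'⟩ | ⟨h1, h'⟩ | h1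
    · exact P.lc_opp_torus hs hη hN ha ha' h
    · exact P.lc_opp_three hs hη h3 hN h1 h' h
    obtain ⟨l, kl, jl⟩ := h3 k j
    obtain ⟨r, kr, jr, lr⟩ := h4 k j l
    have hv : ∀ {i}, F.D i r → F.Ok i ((1 : K) • F.e r + (-(F.ε r)⁻¹) • F.e (F.n r)) 1 ∧
        O.T (F.e i) ((1 : K) • F.e r + (-(F.ε r)⁻¹) • F.e (F.n r)) 1 =
          O.T (F.e i) ((1 : K) • F.e r) 0 * O.T (F.e i) ((-(F.ε r)⁻¹) • F.e (F.n r)) 0 := fun h => by
      have e : (0 : K) + 0 - O.η * O.B ((-(F.ε r)⁻¹) • F.e (F.n r)) ((1 : K) • F.e r) = 1 := by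
        simp [hη, B_n, F.ε_ne]
      have := (h.ok_line 1).add (h.nr.ok_line (-(F.ε r)⁻¹))
      rw [e] at this
      exact ⟨this,
        by rw [(h.ok_line _).T_mul (h.nr.ok_line _).toOk, e]⟩
    have key : ∀ {l}, F.D j l → F.D k l → F.D l r → ∀ s, LC π (F.xT j l s)
        (O.T (F.e k) ((1 : K) • F.e r + (-(F.ε r)⁻¹) • F.e (F.n r)) 1) := fun jl kl lr s => by
      rw [(hv kr).2, kr.xT_eq', kr.nr.xT_eq']
      exact P.cen.lc_mul (P.mx kr.nr _) (hd jl h.symm jr.nr kl.symm lr.nr kr.nr _ _)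
        (hd jl h.symm jr.nr.nr kl.symm lr.nr.nr kr.nr.nr _ _)
    exact P.lc_opp_two hs hη h3 h1 h jl (hv jr).1 (hv kr).1 (hv lr).1 (key jl kl lr 1)
      (key jl.nr kl.nr lr.nl) kl
  · obtain rfl := hD u α hu hα
    obtain rfl := F.aniso u hu hα
    rw [T_zero]; exact P.cen.lc_one _

theorem exists_cst_sym {u : V} {α : K} (hu : F.V0 u) (hα : O.Λ u α) (h0 : α ≠ 0)
    (h4 : (∀ a b c, ∃ d, F.D a d ∧ F.D b d ∧ F.D c d) ∨
      (∃ u u', F.V0 u ∧ F.V0 u' ∧ O.B u' u ≠ 0) ∧ ((∃ t : K, t ≠ 0 ∧ t ^ 2 ≠ 1) ∨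
        (∀ α, O.Λ 0 α → α = 0) ∧ ∃ ρ ∈ F.E, (∀ i, ρ • F.e i = F.e i) ∧
          ∀ u, F.V0 u → ∃ u', F.V0 u' ∧ ρ • u' - u' = u)) : Nonempty (CSt F π) := by
  have hx : ∀ {i j k}, F.D i j → F.D i k → F.D j k → ∀ s {u α}, F.V0 u → O.Λ u α →
      LC π (F.xT i j s) (O.T (F.e k) u α) := fun {i j k} hij hik hjk => by
    rcases h4 with h4 | ⟨-, ⟨t, ht, ht'⟩ | ⟨h1, ρ, h2, h5, h6⟩⟩
    · obtain ⟨l, e1, e2, e3⟩ := h4 i j k
      exact P.lcx_spare hij hik hjk e1 e2 e3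
    · exact P.lcx_torus hN hij hik hjk ht ht'
    · exact P.lcx_rot h1 h2 h5 h6 hij hik hjk
  refine P.exists_cst_delta h3 (P.lc_Q hs hη h3 fun {k j} h => ?_) hx (P.lcd_Y hx hu hα h0)
    (h4.imp_right And.left) hN
  rcases field_cases K with ⟨a, ha, ha'⟩ | ⟨h1, h'⟩ | h1
  · exact P.lc_opp_torus hs hη hN ha ha' h
  · exact P.lc_opp_three hs hη h3 hN h1 h' h
  obtain rfl := (h1 α).resolve_left h0
  obtain ⟨l, kl, jl⟩ := h3 k j
  exact P.lc_opp_two hs hη h3 h1 h jl (hu.ok hα _) (hu.ok hα _) (hu.ok hα _)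
    (hx jl h.symm kl.symm _ hu hα) (fun s => hx jl.nr h.symm kl.symm.nl s hu hα) kl

end Sym

end PSt

end Cfsg.Agent.H6
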