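import Cfsg.Agent.H6.CGen
import Cfsg.Agent.H6.Spinor
import Cfsg.Agent.H6.OrthBridge

/-! Orthogonal groups as odd form groups, and the spin group. -/

set_option autoImplicit false

open scoped commutatorElement

namespace Cfsg.Agent.H6

open OF Subgroup Frame

variable {K V I G : Type*} [Field K] [AddCommGroup V] [Module K V] [Group G]

/-- The odd form space of a quadratic form. -/
def ofQ (Q : QuadraticForm K V) : OF K V where
  σ := RingHom.id K
  B := pb Q
  η := 1
  Λ v α := α = -Q v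
  σσ _ := rfl
  ηη := one_mul 1
  ση := rfl
  herm u v := by simp [pb_comm Q u]
  max := by rintro v _ rfl; simp [pb_self]; ring
  add := by rintro v _ w _ rfl rfl; rw [Q_add, pb_comm Q v]; ring
  smul := by rintro v _ c rfl; rw [Q_smul, RingHom.id_apply]; ring
  min d := by simp
  ex v := ⟨_, rfl⟩

variable {Q : QuadraticForm K V}

theorem ofQ_σ (x : K) : (ofQ Q).σ x = x := rfl

theorem ofQ_η : (ofQ Q).η = 1 := rfl

theorem ofQ_B (x y : V) : (ofQ Q).B x y = pb Q x y := rfl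

theorem ofQ_Λ (x : V) (α : K) : (ofQ Q).Λ x α ↔ α = -Q x := Iff.rfl

theorem ofQ_U : (ofQ Q).U = OG Q := by
  ext g
  exact ⟨fun h v => neg_injective (((h.2 v _).mpr rfl).symm : -Q (g v) = -Q v), fun h =>
    ⟨OG_pb ⟨g, h⟩, fun x α => by rw [ofQ_Λ, ofQ_Λ, h x]⟩⟩

/-- The identification of the two versions of the orthogonal group. -/
def uEquiv (Q : QuadraticForm K V) : OG Q ≃* (ofQ Q).U := MulEquiv.subgroupCongr ofQ_U.symm

theorem uEquiv_smul (g : OG Q) (x : V) : uEquiv Q g • x = g.1 x := rfl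

theorem Q_U (g : (ofQ Q).U) (x : V) : Q (g • x) = Q x := OG_Q ((uEquiv Q).symm g) x

theorem Frame.Q_e (F : Frame (ofQ Q) I) (i : I) : Q (F.e i) = 0 := by simpa [ofQ_Λ] using F.sing i

theorem ofQ_trans {F : Frame (ofQ Q) I} (hB : (pb Q).Nondegenerate) (h2 : ∀ a, ∃ b, F.D a b) (a : I)
    {v w : V} (h : Q v = Q w) (h0 : Q v ≠ 0) : ∃ g ∈ F.E, g • v = w := by
  have key : ∀ v, Q v ≠ 0 → ∃ g ∈ F.E, ∃ c d : K, g • v = c • F.e a + d • F.e (F.n a) ∧
      Q v = c * d * F.ε a := fun v hv => by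
    obtain ⟨g, hg, c, d, -, h⟩ := (tr_of_D h2).exists_plane hB.1 (x := v)
      (by rintro rfl; simp at hv) a
    refine ⟨g, hg, c, d, h, ?_⟩
    rw [← Q_U g, h, Q_add, Q_smul, Q_smul, F.Q_e, F.Q_e, pb_comm, ← F.B_n, ofQ_B]
    simp; ring
  obtain ⟨g, hg, c, d, h3, h4⟩ := key v h0
  obtain ⟨g', hg', c', d', h5, h6⟩ := key w (h ▸ h0)
  obtain ⟨b, hb⟩ := h2 a
  have hc : c ≠ 0 := by rintro rfl; simp [h4] at h0
  have hc' : c' ≠ 0 := by rintro rfl; simp [h, h6] at h0
  refine ⟨_, mul_mem (inv_mem hg') (mul_mem (h_mem_E hb (c' / c)) hg), ?_⟩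
  rw [mul_smul, inv_smul_eq_iff, mul_smul, h3, h5, U_add, U_smul, U_smul,
    hb.h_a (div_ne_zero hc' hc), hb.h_na (div_ne_zero hc' hc), smul_smul, smul_smul, ofQ_σ]
  congr 2
  · field_simp
  · field_simp
    exact mul_right_cancel₀ (F.ε_ne a) (by linear_combination h6 - h4 + h)

theorem ofQ_E_eq [FiniteDimensional K V] {F : Frame (ofQ Q) I} (hB : (pb Q).Nondegenerate)
    (hN : BigEnough K V) (h3 : ∀ a b, ∃ c, F.D a c ∧ F.D b c) (a : I) :
    F.E = commutator (ofQ Q).U := by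
  have h2 : ∀ a, ∃ b, F.D a b := fun a => (h3 a a).imp fun _ h => h.1
  refine le_antisymm ((CSt.L_le_commutator h3).trans (commutator_mono le_top le_top)) ?_
  have := (tr_of_D h2).normal
  rw [commutator_def, commutator_le]
  rintro g - h -
  rw [← QuotientGroup.eq_one_iff, ← QuotientGroup.mk'_apply, map_commutatorElement,
    commutatorElement_eq_one_iff_commute]
  obtain ⟨h, rfl⟩ := (uEquiv Q).surjective h
  induction h using refl_induction hB hN with
  | h1 => simp
  | hs h v hv ih =>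
    rw [map_mul, map_mul]
    refine ih.mul_right (mul_inv_eq_iff_eq_mul.mp ?_)
    obtain ⟨l, hl, e⟩ := ofQ_trans hB h2 a (Q_U g v).symm hv
    have key : ∀ g : (ofQ Q).U, g * uEquiv Q (refl Q v) * g⁻¹ = uEquiv Q (refl Q (g • v)) :=
      fun g => congrArg (uEquiv Q) (conj_refl ((uEquiv Q).symm g) v)
    rw [← map_inv, ← map_mul, ← map_mul, key, ← e, ← key, map_mul, map_mul, map_inv,
      show QuotientGroup.mk' F.E l = 1 from (QuotientGroup.eq_one_iff l).mpr hl]
    simp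

section Spin

open CliffordAlgebra

variable (Q) in
/-- Pairs of a unit of the Clifford algebra and the isometry it induces. -/
def ClG : Subgroup ((CliffordAlgebra Q)ˣ × (ofQ Q).U) where
  carrier := {g | ∀ x : V, g.1 * ι Q x = ι Q (g.2 • x) * g.1}
  one_mem' x := by simp
  mul_mem' {g h} hg hh x := by
    simp only [Prod.fst_mul, Units.val_mul, Prod.snd_mul, mul_smul]
    rw [mul_assoc, hh, ← mul_assoc, hg, mul_assoc]
  inv_mem' {g} hg x := by
    simp only [Prod.fst_inv, Prod.snd_inv]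
    rw [Units.inv_mul_eq_iff_eq_mul, ← mul_assoc, hg, smul_inv_smul, Units.mul_inv_cancel_right]

variable (Q) in
/-- The vector representation. -/
def clπ : ClG Q →* (ofQ Q).U := (MonoidHom.snd _ _).comp (Subgroup.subtype _)

theorem ι_anti {x y : V} (h : pb Q x y = 0) : ι Q x * ι Q y = -(ι Q y * ι Q x) := by
  rw [ι_mul_ι_comm, show QuadraticMap.polar Q x y = 0 from h]; simp

theorem ι_sq_zero {e : V} (h : (ofQ Q).Λ e 0) : ι Q e * ι Q e = 0 := by
  rw [ι_sq_scalar, show Q e = 0 by simpa [ofQ_Λ] using h, map_zero]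

theorem cl_mul {e v w : V} (he : (ofQ Q).Λ e 0) (hw : pb Q w e = 0) :
    (1 + ι Q v * ι Q e) * (1 + ι Q w * ι Q e) = 1 + ι Q (v + w) * ι Q e := by
  have : ι Q v * ι Q e * (ι Q w * ι Q e) = 0 := by
    rw [ι_anti hw, mul_neg, mul_assoc, ← mul_assoc (ι Q e), ι_sq_zero he]; simp
  rw [map_add, mul_add, add_mul, add_mul, this]; noncomm_ring

/-- The lift of an Eichler transformation to the Clifford algebra. -/
noncomputable def clT {e v : V} {α : K} (h : (ofQ Q).Ok e v α) : ClG Q :=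
  ⟨(⟨1 + ι Q v * ι Q e, 1 + ι Q (-v) * ι Q e, by rw [cl_mul h.sing h.inv.perp]; simp,
    by rw [cl_mul h.sing h.perp]; simp⟩, (ofQ Q).T e v α), fun x => by
    have h1 := ι_sq_zero h.sing
    have h2 := ι_anti h.perp
    have h3 : ι Q x * ι Q e = pb Q x e • 1 - ι Q e * ι Q x := by
      rw [ι_mul_ι_comm, Algebra.algebraMap_eq_smul_one]; rfl
    have h4 : ι Q x * ι Q v = pb Q x v • 1 - ι Q v * ι Q x := by
      rw [ι_mul_ι_comm, Algebra.algebraMap_eq_smul_one]; rfl
    have h5 : ι Q v * ι Q v = Q v • 1 := by rw [ι_sq_scalar, Algebra.algebraMap_eq_smul_one]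
    have h6 : ι Q x * (ι Q v * ι Q e) = pb Q x v • ι Q e - pb Q x e • ι Q v +
        ι Q v * ι Q e * ι Q x := by
      rw [← mul_assoc, h4, sub_mul, mul_assoc, h3]; simp [mul_sub, mul_assoc]; abel
    have h7 : ι Q e * (ι Q v * ι Q e) = 0 := by rw [h2, mul_neg, ← mul_assoc, h1]; simp
    have h8 : ι Q v * (ι Q v * ι Q e) = Q v • ι Q e := by rw [← mul_assoc, h5]; simp
    change (1 + ι Q v * ι Q e) * ι Q x = ι Q ((ofQ Q).T e v α • x) * (1 + ι Q v * ι Q e)
    rw [h.T_smul]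
    simp only [map_add, map_smul, ofQ_B, ofQ_η, show α = -Q v from h.mem, mul_add,
      add_mul, smul_mul_assoc, h6, h7, h8, mul_one, one_mul]
    module⟩

variable (F : Frame (ofQ Q) I)

/-- The Steinberg system in the Clifford group. -/
noncomputable def clSt : CSt F (clπ Q) where
  R k :=
    { carrier := {g | ∃ v α, ∃ h : F.Ok k v α, g = clT h.toOk}
      one_mem' := ⟨0, 0, ⟨Ok.zero (F.sing k), by simp⟩, Subtype.ext
        (Prod.ext (Units.ext (by simp [clT])) (T_zero _).symm)⟩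
      mul_mem' := by
        rintro _ _ ⟨v, α, h, rfl⟩ ⟨w, β, h', rfl⟩
        exact ⟨_, _, h.add h', Subtype.ext (Prod.ext (Units.ext (cl_mul h.sing h'.perp))
          (h.T_mul h'.toOk))⟩
      inv_mem' := by
        rintro _ ⟨v, α, h, rfl⟩
        exact ⟨_, _, h.inv, Subtype.ext (Prod.ext (Units.ext rfl) h.T_inv)⟩ }
  img := by rintro k _ ⟨v, α, h, rfl⟩; exact ⟨v, α, h, rfl⟩
  surj h := ⟨_, ⟨_, _, h, rfl⟩, rfl⟩
  inj := by
    rintro k _ ⟨v, α, h, rfl⟩ e
    obtain ⟨rfl, rfl⟩ := h.eq_of_line (c := 1) (by rw [show (ofQ Q).T _ v α = 1 from e]; simp)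
    exact Subtype.ext (Prod.ext (Units.ext (by simp [clT])) e)
  swap := by
    rintro i j _ c hij ⟨v, α, h, rfl⟩ e
    have h1 := h.T_en
    rw [show (ofQ Q).T _ v α = _ from e, (hij.ok_line c).T_en, add_assoc, add_assoc,
      add_right_inj] at h1
    have h2 := congrArg (fun x => (ofQ Q).B x (F.e (F.n i))) h1
    simp only [map_add, map_smul, LinearMap.add_apply, LinearMap.smul_apply, h.perp', B_n',
      hij.nl.symm.B, smul_eq_mul, mul_zero, zero_mul, zero_add] at h2
    obtain rfl : α = 0 := by simpa [F.ε_ne] using h2.symm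
    obtain rfl : c • F.e j = v := smul_right_injective V (F.ε_ne i) (add_right_cancel h1)
    refine ⟨_, _, hij.symm.ok_line _, Subtype.ext (Prod.ext (Units.ext ?_)
      (T_swap (F.sing i) (F.sing j) hij.symm.B c))⟩
    simp [clT, ι_anti (show pb Q (F.e i) (F.e j) = 0 from hij.B), ofQ_η, ofQ_σ]
  conj := by
    rintro k j g _ - - h1 h2 ⟨v, α, h, rfl⟩
    have h3 : F.Ok j (clπ Q g • v) α := ⟨h1 ▸ h.toOk.map _, by rw [← h2, B_U, h.perp']⟩
    refine ⟨_, _, h3, Subtype.ext (Prod.ext (Units.ext ?_) ((h.conj_T _).trans (by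
      rw [show g.1.2 • F.e j = F.e j from h1]; rfl)))⟩
    change g.1.1.1 * (1 + ι Q v * ι Q (F.e j)) * (g.1.1⁻¹).1 = 1 + ι Q (g.1.2 • v) * ι Q (F.e j)
    rw [Units.mul_inv_eq_iff_eq_mul, mul_add, ← mul_assoc, g.2, mul_assoc, g.2,
      show g.1.2 • F.e j = F.e j from h1, add_mul, mul_one, one_mul, mul_assoc]

variable {F}

theorem clSt_x {i j : I} (h : F.D i j) (s : K) : (clSt F).x i j s = clT (h.ok_xv s).toOk :=
  (clSt F).ext ((clSt F).x_mem h s) ⟨_, _, h.ok_xv s, rfl⟩ ((clSt F).π_x h s)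

theorem w_sq_ring {R : Type*} [Ring R] {A B : R} (h1 : A * A = 0) (h2 : B * B = 0)
    (h3 : A * B * A = A) (h4 : B * A * B = B) :
    (1 + A) * (1 - B) * (1 + A) * ((1 + A) * (1 - B) * (1 + A)) = 1 - 2 * (A * B + B * A) := by
  have e : (1 + A) * (1 - B) * (1 + A) = 1 + A - B - A * B - B * A := by
    calc _ = 1 + 2 * A - B - A * B - B * A + A * A - A * B * A := by noncomm_ring
      _ = _ := by rw [h1, h3]; noncomm_ring
  rw [e]
  calc _ = 1 + 2 * A - 2 * B - 3 * (A * B) - 3 * (B * A) + A * A + B * B - A * A * B -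
        2 * (A * B * A) + 2 * (B * A * B) + B * B * A + A * (B * B) - B * (A * A) + A * B * A * B +
        A * (B * B) * A + B * (A * A) * B + B * A * B * A := by noncomm_ring
    _ = _ := by rw [h1, h2, h3, h4]; noncomm_ring

theorem clSt_h {a b : I} (h : F.D a b) : (((clSt F).h a b (-1)).1.1 : CliffordAlgebra Q) =
    1 - (2 * (F.ε a * F.ε b)⁻¹) • (ι Q (F.e a) * ι Q (F.e (F.n a)) *
      (ι Q (F.e (F.n b)) * ι Q (F.e b)) + ι Q (F.e (F.n a)) * ι Q (F.e a) *
      (ι Q (F.e b) * ι Q (F.e (F.n b)))) := by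
  have ha := F.ε_ne a
  have hb := F.ε_ne b
  have e : ∀ i, ι Q (F.e i) * ι Q (F.e (F.n i)) * ι Q (F.e i) = F.ε i • ι Q (F.e i) ∧
      ι Q (F.e (F.n i)) * ι Q (F.e i) * ι Q (F.e (F.n i)) = F.ε i • ι Q (F.e (F.n i)) := fun i => by
    rw [ι_mul_ι_mul_ι, ι_mul_ι_mul_ι, F.Q_e, F.Q_e, QuadraticMap.polar_comm]
    simp only [zero_smul, sub_zero, map_smul]
    exact ⟨rfl, rfl⟩
  have c1 := ι_anti (show pb Q _ _ = 0 from h.symm.B)
  have c2 := ι_anti (show pb Q _ _ = 0 from h.symm.nr.B)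
  have c3 := ι_anti (show pb Q _ _ = 0 from h.symm.nl.B)
  have c4 := ι_anti (show pb Q _ _ = 0 from h.symm.nl.nr.B)
  have s1 := ι_sq_zero (F.sing a)
  have s2 := ι_sq_zero (F.sing b)
  obtain ⟨e1, e2⟩ := e a
  obtain ⟨e3, e4⟩ := e b
  set x := ι Q (F.e a)
  set x' := ι Q (F.e (F.n a))
  set y := ι Q (F.e b)
  set y' := ι Q (F.e (F.n b))
  have d1 : ∀ r, y * (x * r) = -(x * (y * r)) := fun r => by rw [← mul_assoc, c1]; simp [mul_assoc]
  have d2 : ∀ r, y * (x' * r) = -(x' * (y * r)) := fun r => by rw [← mul_assoc, c2]; simp [mul_assoc]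
  have d3 : ∀ r, y' * (x * r) = -(x * (y' * r)) := fun r => by rw [← mul_assoc, c3]; simp [mul_assoc]
  have d4 : ∀ r, y' * (x' * r) = -(x' * (y' * r)) := fun r => by
    rw [← mul_assoc, c4]; simp [mul_assoc]
  have s1' : ∀ r, x * (x * r) = 0 := fun r => by rw [← mul_assoc, s1, zero_mul]
  have := w_sq_ring (A := (F.ε b)⁻¹ • (y' * x)) (B := (F.ε a)⁻¹ • (x' * y))
    (by simp only [smul_mul_smul_comm, c3, neg_mul, mul_assoc, d3, mul_neg, s1']; simp)
    (by simp only [smul_mul_smul_comm, mul_assoc, d2, mul_neg, s2]; simp)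
    (by
      have : y' * x * (x' * y) * (y' * x) = (x * x' * x) * (y' * y * y') * (-1) := by
        simp only [mul_assoc, d1, d2, d3, d4, c1, c3, mul_neg, neg_neg, mul_one, neg_mul]
      simp only [smul_mul_smul_comm]
      rw [this, e1, e4, c3]
      simp only [smul_mul_assoc, mul_smul_comm, smul_smul, mul_neg, mul_one, smul_neg]
      congr 2; field_simp)
    (by
      have : x' * y * (y' * x) * (x' * y) = (x' * x * x') * (y * y' * y) := by
        simp only [mul_assoc, d1, d2, d3, d4, c1, c3, mul_neg, neg_neg, neg_mul]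
      simp only [smul_mul_smul_comm]
      rw [this, e2, e3]
      simp only [smul_mul_assoc, mul_smul_comm, smul_smul]
      congr 1; field_simp)
  simp only [CSt.h, stH, stW, clSt_x h, clSt_x h.symm, clT, xv, ofQ_σ, inv_neg, inv_one, neg_neg,
    MulMemClass.mk_mul_mk, Prod.mk_mul_mk, Units.val_mul, map_smul, neg_div, one_div, neg_smul,
    map_neg, neg_mul, smul_mul_assoc, ← sub_eq_add_neg]
  rw [this]
  simp only [smul_mul_smul_comm, mul_assoc, d1, d2, d3, d4, c1, c3, mul_neg, neg_neg, two_mul,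
    neg_mul, mul_inv]
  module

theorem clSt_k {a b : I} (h : F.D a b) : ((clSt F).k a b (-1)).1.1 = -1 := by
  have : ((clSt F).h a b (-1)).1.1 = -((clSt F).h a (F.n b) (-1)).1.1 := Units.ext (by
    have ha := F.ε_ne a
    have hb := F.ε_ne b
    have e : ∀ i, ι Q (F.e (F.n i)) * ι Q (F.e i) = F.ε i • 1 - ι Q (F.e i) * ι Q (F.e (F.n i)) :=
      fun i => by rw [ι_mul_ι_comm, Algebra.algebraMap_eq_smul_one]; rfl
    rw [Units.val_neg, clSt_h h, clSt_h h.nr, F.nn, F.ε_n, e, e, ofQ_η, ofQ_σ]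
    simp only [mul_sub, sub_mul, smul_mul_assoc, mul_smul_comm, one_mul, mul_one]
    match_scalars <;> field_simp <;> ring)
  change ((clSt F).h a b (-1)).1.1 * ((clSt F).h a (F.n b) (-1)).1.1⁻¹ = -1
  rw [this]; simp

theorem clSt_k_ne (h2 : (2 : K) ≠ 0) {a b : I} (h : F.D a b) : (clSt F).k a b (-1) ≠ 1 := fun e => by
  have := invertibleOfNonzero h2
  have h1 := congrArg Units.val ((clSt_k h).symm.trans (congrArg (fun g => g.1.1) e))
  have h3 : algebraMap K (CliffordAlgebra Q) 2 = 0 := by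
    simpa [map_ofNat, ← one_add_one_eq_two] using neg_eq_iff_add_eq_zero.mp h1
  exact h2 ((map_eq_zero _).mp h3)

variable (F) in
/-- The spin group. -/
abbrev Spin : Type _ := (clSt F).L Set.univ

theorem clSt_le (k : I) : (clSt F).R k ≤ ((clSt F).L Set.univ).subtype.range := fun _ hg => by
  rw [Subgroup.range_subtype]; exact CSt.mem_Lu hg

variable (F) in
/-- The Steinberg system in the spin group. -/
noncomputable def spinSt : CSt F ((clπ Q).comp ((clSt F).L Set.univ).subtype) :=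
  (clSt F).comap ((clSt F).L Set.univ).subtype (Subgroup.subtype_injective _) clSt_le

theorem spinSt_hom : (spinSt F).Hom (clSt F) ((clSt F).L Set.univ).subtype :=
  CSt.hom_comap _ _ (Subgroup.subtype_injective _) clSt_le

theorem spinSt_top : (spinSt F).L Set.univ = ⊤ := by
  apply map_injective ((clSt F).L Set.univ).subtype_injective
  rw [spinSt_hom.map_L, ← MonoidHom.range_eq_map, Subgroup.range_subtype]

theorem spinSt_k_ne (h2 : (2 : K) ≠ 0) {a b : I} (h : F.D a b) : (spinSt F).k a b (-1) ≠ 1 :=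
  fun e => clSt_k_ne h2 h (by rw [← spinSt_hom.k h, e, map_one])

end Spin

end Cfsg.Agent.H6
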