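import Cfsg.Agent.H6.CGen
import Mathlib.GroupTheory.IsPerfect
import Mathlib.GroupTheory.SpecificGroups.KleinFour

/-! Schur multipliers from Steinberg systems. -/

set_option autoImplicit false

open scoped commutatorElement

namespace Cfsg.Agent.H6

open Subgroup

section Center

variable {E G : Type*} [Group E] [Group G] {p : G →* E}

theorem grun (hc : p.ker ≤ center G) (hG : commutator G = ⊤) {c : G}
    (h : ∀ g, Commute (p c) (p g)) : c ∈ center G := by
  have : Group.IsPerfect G := ⟨hG⟩
  rw [← QuotientGroup.eq_one_iff, ← mem_bot, ← Group.IsPerfect.center_quotient_center_eq_bot,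
    mem_center_iff]
  rintro ⟨g⟩
  change ((g * c : G) : G ⧸ center G) = (c * g : G)
  rw [QuotientGroup.eq]
  refine hc ?_
  rw [MonoidHom.mem_ker, map_mul, map_inv, map_mul, map_mul, (h g).eq, inv_mul_cancel]

theorem ker_le_center {z : G} (hk : ∀ g, p g = 1 → g = 1 ∨ g = z) : p.ker ≤ center G :=
  fun g hg => mem_center_iff.mpr fun x => by
    by_cases h : g = 1
    · simp [h]
    have h1 := (hk (x * g * x⁻¹) (by simp [show p g = 1 from hg])).resolve_left (by simpa using h)
    rw [← (hk g hg).resolve_left h] at h1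
    exact mul_inv_eq_iff_eq_mul.mp h1

theorem finite_of_ker [Finite E] {z : G} (hk : ∀ g, p g = 1 → g = 1 ∨ g = z) : Finite G :=
  p.finite_iff_finite_ker_range.mpr
    ⟨((Set.toFinite {1, z}).subset fun g hg => hk g hg).to_subtype, inferInstance⟩

theorem equiv_of_zpowers {H : Subgroup G} {c : G} {n : ℕ} (h : H = zpowers c) (hn : orderOf c = n) :
    Nonempty (H ≃* Multiplicative (ZMod n)) := by
  subst h hn
  exact ⟨Nat.card_zpowers c ▸ (zmodCyclicMulEquiv inferInstance).symm⟩

theorem comap_equiv_one (hk : ∀ g, p g = 1 → g = 1) (hE : ∀ x ∈ center E, x = 1) (A : Type*)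
    [Group A] [Subsingleton A] : Nonempty ((center E).comap p ≃* A) := by
  have : Subsingleton ((center E).comap p) :=
    ⟨fun g h => Subtype.ext ((hk _ (hE _ g.2)).trans (hk _ (hE _ h.2)).symm)⟩
  have := uniqueOfSubsingleton (1 : (center E).comap p)
  have := uniqueOfSubsingleton (1 : A)
  exact ⟨MulEquiv.ofUnique⟩

variable {z : G} (hk : ∀ g, p g = 1 → g = 1 ∨ g = z) (hz : z ≠ 1) (hz' : p z = 1)
include hk hz hz'

theorem z_mul_z : z * z = 1 := (hk _ (by simp [hz'])).resolve_right (by simpa using hz)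

theorem comap_equiv_two (hE : ∀ x ∈ center E, x = 1) :
    Nonempty ((center E).comap p ≃* Multiplicative (ZMod 2)) := by
  refine equiv_of_zpowers (c := z) (le_antisymm (fun g hg => ?_) ?_)
    (orderOf_eq_prime (by rw [sq, z_mul_z hk hz hz']) hz)
  · rcases hk g (hE _ hg) with rfl | rfl <;> simp
  · simp [hz']

variable {c : G} (hc : p c ∈ center E) (hc' : p c ≠ 1) (hE : ∀ x ∈ center E, x = 1 ∨ x = p c)
include hc hE

omit hz hz' hc in
theorem comap_cases {g : G} (hg : g ∈ (center E).comap p) :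
    g = 1 ∨ g = z ∨ g = c ∨ g = c * z := by
  rcases hE _ hg with h | h
  · rcases hk g h with h | h <;> simp [h]
  · rcases hk (c⁻¹ * g) (by simp [h]) with h | h
    · exact Or.inr (Or.inr (Or.inl (inv_mul_eq_one.mp h).symm))
    · exact Or.inr (Or.inr (Or.inr (inv_mul_eq_iff_eq_mul.mp h)))

theorem comap_equiv_four (h : c * c = z) :
    Nonempty ((center E).comap p ≃* Multiplicative (ZMod 4)) := by
  have h2 := z_mul_z hk hz hz'
  refine equiv_of_zpowers (c := c) (le_antisymm (fun g hg => ?_) (by simpa))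
    (orderOf_eq_prime_pow (p := 2) (n := 1) (by simpa [sq, h]) ?_)
  · rcases comap_cases hk hE hg with rfl | rfl | rfl | rfl <;>
      simp [← h, mul_mem]
  · rw [show 2 ^ (1 + 1) = 2 * 2 from rfl, pow_mul, sq c, h, sq, h2]

include hc' in
theorem comap_equiv_klein (h : c * c = 1) :
    Nonempty ((center E).comap p ≃* Multiplicative (ZMod 2 × ZMod 2)) := by
  classical
  have h2 := z_mul_z hk hz hz'
  have h3 : c * z = z * c := mem_center_iff.mp (ker_le_center hk hz') c
  have h4 : c ≠ 1 := by rintro rfl; simp at hc'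
  have h5 : c ≠ z := by rintro rfl; exact hc' hz'
  have h6 : c * z ≠ 1 := fun e => hc' (by simpa [hz'] using congrArg p e)
  have : IsKleinFour ((center E).comap p) := ⟨?_, ?_⟩
  · exact IsKleinFour.nonempty_mulEquiv
  · have : ((center E).comap p : Set G) = ↑({1, z, c, c * z} : Finset G) := by
      ext g
      simp only [Finset.coe_insert, Finset.coe_singleton, Set.mem_insert_iff, Set.mem_singleton_iff]
      refine ⟨comap_cases hk hE, ?_⟩
      rintro (rfl | rfl | rfl | rfl) <;> simp [hz', hc]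
    rw [← SetLike.coe_sort_coe, this, Nat.card_coe_set_eq, Set.ncard_coe_finset]
    simp [Finset.card_insert_of_notMem, hz, h4, hz.symm, h4.symm, h5.symm, h6.symm]
  · have : Nontrivial ((center E).comap p) := ⟨⟨⟨c, hc⟩, 1, fun e => h4 (congrArg Subtype.val e)⟩⟩
    refine (Monoid.exponent_eq_prime_iff Nat.prime_two).mpr fun g hg => orderOf_eq_prime ?_ hg
    refine Subtype.ext ?_
    rcases comap_cases hk hE g.2 with e | e | e | e <;> simp [e, sq, h, h2]
    rw [mul_assoc, ← mul_assoc z, ← h3, mul_assoc, h2, mul_one, h]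

end Center

universe u

variable {K V I : Type*} [Field K] [AddCommGroup V] [Module K V] {O : OF K V} {F : Frame O I}

theorem exists_factor {E G : Type*} [Group E] [Group G] (j : E →* O.U) (hj : Function.Injective j)
    (hr : j.range = F.E) {π : G →* O.U} (S : CSt F π) (hS : S.L Set.univ = ⊤) :
    ∃ p : G →* E, Function.Surjective p ∧ j.comp p = π := by
  have h : π.range = j.range := by
    rw [hr, MonoidHom.range_eq_map, ← hS, (CSt.hom_std S).map_L]; rfl
  refine ⟨(MonoidHom.ofInjective hj).symm.toMonoidHom.comp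
    ((MulEquiv.subgroupCongr h).toMonoidHom.comp π.rangeRestrict), ?_, MonoidHom.ext fun g => ?_⟩
  · exact (MonoidHom.ofInjective hj).symm.surjective.comp
      ((MulEquiv.subgroupCongr h).surjective.comp π.rangeRestrict_surjective)
  · exact MonoidHom.apply_ofInjective_symm hj _

theorem schur_of_cst {A : Type*} [CommGroup A] {E G : Type u} [Group E] [Group G] [Finite G]
    {j : E →* O.U} (hj : Function.Injective j) (hr : j.range = F.E) {p : G →* E}
    (hp : Function.Surjective p) (hc : p.ker ≤ center G) (hG : commutator G = ⊤)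
    (S : CSt F (j.comp p)) (hS : S.L Set.univ = ⊤)
    (hker : ∀ (G' : Type u) [Group G'] (π' : G' →* O.U) (S' : CSt F π') (φ : G' →* G),
      S'.Hom S φ → ∀ g ∈ S'.L Set.univ, φ g = 1 → g = 1)
    (hlift : ∀ (Γ : Type u) [Group Γ] (π' : Γ →* O.U), PSt F π' → Nonempty (CSt F π'))
    (e : (center E).comap p ≃* A) : HasSchurMultiplier (E ⧸ center E) A := by
  refine hasSchur_of p hp hc hG e fun Γ _ σ h1 h2 => ?_
  obtain ⟨S'⟩ := hlift Γ (j.comp σ) ⟨fun z hz g =>
    (mem_center_iff.mp (h2 (hj (hz.trans j.map_one.symm))) g).symm, by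
    rw [← hr]; rintro _ ⟨x, rfl⟩; obtain ⟨x, rfl⟩ := h1 x; exact ⟨x, rfl⟩⟩
  obtain ⟨ψ, hψ⟩ := CSt.exists_hom (S := S) (S' := S') hS (hker _ _ _ _ CSt.hom_fst)
  exact ⟨ψ, MonoidHom.ext fun g => hj (hψ.1 g)⟩

end Cfsg.Agent.H6
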