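import Cfsg.Agent.H6.COrth
import Cfsg.Agent.H6.CSchur
import Cfsg.Agent.H6.OrthRank

/-! Schur multipliers of the orthogonal groups: the general reduction. -/

set_option autoImplicit false

open scoped commutatorElement

namespace Cfsg.Agent.H6

open OF Subgroup Frame

theorem CSt.π_k {K V I G : Type*} [Field K] [AddCommGroup V] [Module K V] [Group G] [Finite I]
    {O : OF K V} {F : Frame O I} {π : G →* O.U} {S : CSt F π} {a b : I} (h : F.D a b) {t : K}
    (ht : t * O.σ t = 1) : π (S.k a b t) = 1 := by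
  have h0 := left_ne_zero_of_mul_eq_one ht
  refine Frame.ext (F := F) (fun i => ?_) fun u hu => by rw [CSt.k_V0 h t hu, one_smul]
  rcases cases3 (F := F) b i with rfl | rfl | e
  · simp [CSt.k_b h h0, ht]
  · simp [CSt.k_nb h h0, ht]
  · simp [CSt.k_fix h h0 e]

universe u

variable {K V : Type u} {I : Type*} [Field K] [AddCommGroup V] [Module K V]
  {Q : QuadraticForm K V} {F : Frame (ofQ Q) I}

/-- The hypotheses of the reduction. -/
structure OrthHyp (F : Frame (ofQ Q) I) (a b : I) {E : Type u} [Group E] (j : E →* (ofQ Q).U) :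
    Prop where
  nd : (pb Q).Nondegenerate
  h3 : ∀ a b, ∃ c, F.D a c ∧ F.D b c
  hab : F.D a b
  inj : Function.Injective j
  range : j.range = F.E
  ker : ∀ (G : Type u) [Group G] (π : G →* (ofQ Q).U) (S : CSt F π), ∀ g ∈ S.L Set.univ,
    π g = 1 → g = 1 ∨ g = S.k a b (-1)
  lift : ∀ (Γ : Type u) [Group Γ] (π : Γ →* (ofQ Q).U), PSt F π → Nonempty (CSt F π)

namespace OrthHyp

variable {a b : I} {E : Type u} [Group E] {j : E →* (ofQ Q).U} (H : OrthHyp F a b j)
include H

theorem center_cases {x : E} (hx : x ∈ center E) : x = 1 ∨ ∀ v : V, j x • v = -v := by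
  obtain ⟨c, hc⟩ := exists_scalar (F := F) H.nd.1 (fun a => (H.h3 a a).imp fun _ h => h.1) a
    (z := j x) fun g hg => by
      rw [← H.range] at hg
      obtain ⟨g, rfl⟩ := hg
      exact (show Commute x g from (mem_center_iff.mp hx g).symm).map j
  have h := B_U (j x) (F.e (F.n a)) (F.e a)
  simp only [hc, map_smul, LinearMap.smul_apply, map_smulₛₗ, ofQ_σ, F.B_n, smul_eq_mul] at h
  rcases mul_self_eq_one_iff.mp (mul_right_cancel₀ (F.ε_ne a) (show c * c * _ = 1 * _ by
    rw [one_mul, mul_assoc, h])) with rfl | rfl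
  · exact Or.inl (H.inj (U_ext fun v => by simp [hc]))
  · exact Or.inr fun v => by simp [hc]

variable [Finite K] [Finite V] [Finite I]

theorem main : ∃ (G : Type u) (_ : Group G) (p : G →* E) (S : CSt F (j.comp p)),
    S.L Set.univ = ⊤ ∧ commutator G = ⊤ ∧ (∀ g, p g = 1 → g = 1 ∨ g = S.k a b (-1)) ∧
      ((2 : K) ≠ 0 → S.k a b (-1) ≠ 1 ∧ p (S.k a b (-1)) = 1) ∧
      ((2 : K) = 0 → S.k a b (-1) = 1) ∧ ∀ (A : Type) [CommGroup A],
        Nonempty ((center E).comap p ≃* A) → HasSchurMultiplier (E ⧸ center E) A := by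
  have hN := nd_of_three H.h3
  have e2 : ∀ {G : Type u} [Group G] {π : G →* (ofQ Q).U} (S : CSt F π), (2 : K) = 0 →
      S.k a b (-1) = 1 := fun S h => by
    rw [show (-1 : K) = 1 by linear_combination -h, CSt.k_one hN H.hab]
  obtain ⟨G, _, π, S, hS, hk⟩ : ∃ (G : Type u) (_ : Group G) (π : G →* (ofQ Q).U) (S : CSt F π),
      S.L Set.univ = ⊤ ∧ ((2 : K) ≠ 0 → S.k a b (-1) ≠ 1 ∧ π (S.k a b (-1)) = 1) :=
    ⟨_, _, _, spinSt F, spinSt_top, fun h => ⟨spinSt_k_ne h H.hab,
      CSt.π_k H.hab (by simp [ofQ_σ])⟩⟩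
  obtain ⟨p, hp, rfl⟩ := exists_factor j H.inj H.range S hS
  have h1 : ∀ g, p g = 1 → g = 1 ∨ g = S.k a b (-1) := fun g hg =>
    H.ker G _ S g (hS ▸ mem_top g) (by simp [hg])
  have h2 : commutator G = ⊤ := by
    have := CSt.L_le_commutator (S := S) H.h3
    rwa [hS, top_le_iff] at this
  have : Finite (ofQ Q).U := Finite.of_injective (fun (g : (ofQ Q).U) (x : V) => g • x)
    fun _ _ e => U_ext (congrFun e)
  have : Finite E := Finite.of_injective j H.inj
  have : Finite G := finite_of_ker h1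
  refine ⟨G, _, p, S, hS, h2, h1, fun h => ⟨(hk h).1, H.inj ((hk h).2.trans j.map_one.symm)⟩, e2 S,
    fun A _ ⟨e⟩ => schur_of_cst H.inj H.range hp (ker_le_center h1) h2 S hS
      (fun G' _ π' S' φ hφ g hg h => ?_) H.lift e⟩
  rcases H.ker G' π' S' g hg (by rw [← hφ.comp, h, map_one]) with h3 | rfl
  · exact h3
  by_cases h4 : (2 : K) = 0
  · exact e2 S' h4
  · exact absurd ((hφ.k H.hab _).symm.trans h) (hk h4).1

theorem schur_one (h2 : (2 : K) = 0) (A : Type) [CommGroup A] [Subsingleton A] :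
    HasSchurMultiplier (E ⧸ center E) A := by
  obtain ⟨G, _, p, S, -, -, h1, -, h3, h⟩ := H.main
  refine h A (comap_equiv_one (fun g hg => by simpa [h3 h2] using h1 g hg) (fun x hx => ?_) A)
  refine (H.center_cases hx).elim id fun h => H.inj (U_ext fun v => ?_)
  rw [h, map_one, one_smul, ← neg_one_smul K, show (-1 : K) = 1 by linear_combination -h2, one_smul]

variable (h2 : (2 : K) ≠ 0)
include h2

theorem schur_two (hE : ∀ x : E, ¬ ∀ v : V, j x • v = -v) :
    HasSchurMultiplier (E ⧸ center E) (Multiplicative (ZMod 2)) := by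
  obtain ⟨G, _, p, S, -, -, h1, h3, -, h⟩ := H.main
  exact h _ (comap_equiv_two h1 (h3 h2).1 (h3 h2).2 fun x hx =>
    (H.center_cases hx).resolve_right (hE x))

omit [Finite K] [Finite V] [Finite I] in
theorem neg_props {x : E} (hx : ∀ v : V, j x • v = -v) :
    x ∈ center E ∧ x ≠ 1 ∧ ∀ y ∈ center E, y = 1 ∨ y = x := by
  refine ⟨mem_center_iff.mpr fun g => H.inj (U_ext fun v => by simp [mul_smul, hx]), ?_,
    fun y hy => (H.center_cases hy).imp_right fun h => H.inj (U_ext fun v => by rw [h, hx])⟩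
  rintro rfl
  have := hx (F.e a)
  rw [map_one, one_smul, eq_neg_iff_add_eq_zero, ← two_smul K, smul_eq_zero] at this
  exact this.elim h2 (F.e_ne a)

theorem schur_klein (hc : ∀ (G : Type u) [Group G] (π : G →* (ofQ Q).U) (_ : CSt F π),
    ∃ c, c * c = 1 ∧ ∀ v : V, π c • v = -v) :
    HasSchurMultiplier (E ⧸ center E) (Multiplicative (ZMod 2 × ZMod 2)) := by
  obtain ⟨G, _, p, S, -, -, h1, h3, -, h⟩ := H.main
  obtain ⟨c, h4, h5⟩ := hc G _ S
  obtain ⟨h6, h7, h8⟩ := H.neg_props h2 h5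
  exact h _ (comap_equiv_klein h1 (h3 h2).1 (h3 h2).2 h6 h7 h8 h4)

theorem schur_four (hc : ∀ (G : Type u) [Group G] (π : G →* (ofQ Q).U) (S : CSt F π),
    ∃ c d, c * c = 1 ∧ d * d = S.k a b (-1) ∧ ∀ v : V, π (c * d) • v = -v) :
    HasSchurMultiplier (E ⧸ center E) (Multiplicative (ZMod 4)) := by
  obtain ⟨G, _, p, S, -, hG, h1, h3, -, h⟩ := H.main
  obtain ⟨c, d, h4, h4', h5⟩ := hc G _ S
  obtain ⟨h6, -, h8⟩ := H.neg_props h2 h5
  refine h _ (comap_equiv_four h1 (h3 h2).1 (h3 h2).2 h6 h8 ?_)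
  have := mem_center_iff.mp (grun (ker_le_center h1) hG (c := c * d)
    fun g => (mem_center_iff.mp h6 _).symm) d
  rw [mul_assoc, this, ← mul_assoc, ← mul_assoc, h4, one_mul, h4']

end OrthHyp

end Cfsg.Agent.H6
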