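import Cfsg.Agent.H6.COrth2
import Cfsg.Agent.H6.OrthChar2

/-! Frames of the standard quadratic forms; the plus type and the odd-dimensional groups. -/

set_option autoImplicit false

open scoped commutatorElement

namespace Cfsg.Agent.H6

open OF Subgroup Frame Module

theorem Frame.exists_D {K V : Type*} [Field K] [AddCommGroup V] [Module K V] {O : OF K V} {m : ℕ}
    (F : Frame O (Fin m ⊕ Fin m)) (hn : F.n = Sum.swap) (l : List (Fin m ⊕ Fin m))
    (h : l.length < m) : ∃ c, ∀ a ∈ l, F.D a c := by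
  obtain ⟨k, hk⟩ := exists_notMem_list (l.map (Sum.elim id id)) (by simpa)
  refine ⟨.inl k, fun a ha => ?_⟩
  have : Sum.elim id id a ≠ k := fun e => hk (List.mem_map.mpr ⟨a, ha, e⟩)
  rcases a with a | a <;> simp [D, hn] <;> exact fun e => this e.symm

universe u

section Omega

variable {K : Type u} [Field K] {ι : Type} [Fintype ι] [DecidableEq ι] (Q : QuadraticForm K (ι → K))

/-- The natural representation of `Ω(Q)`. -/
noncomputable def jOmega : Omega K Q →* (ofQ Q).U :=
  ((ogEquiv Q).trans (uEquiv Q)).toMonoidHom.comp (Omega K Q).subtype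

theorem jOmega_inj : Function.Injective (jOmega Q) :=
  ((ogEquiv Q).trans (uEquiv Q)).injective.comp Subtype.val_injective

theorem jOmega_range : (jOmega Q).range = commutator (ofQ Q).U := by
  ext g
  obtain ⟨g, rfl⟩ := ((ogEquiv Q).trans (uEquiv Q)).surjective g
  rw [mem_commutator_equiv]
  exact ⟨fun ⟨x, hx⟩ => ((ogEquiv Q).trans (uEquiv Q)).injective hx ▸ x.2, fun h => ⟨⟨g, h⟩, rfl⟩⟩

variable {Q}

theorem jOmega_neg [Fintype K] [DecidableEq K] (hB : (pb Q).Nondegenerate)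
    (hN : BigEnough K (ι → K)) {x : Omega K Q} (hx : ∀ v : ι → K, jOmega Q x • v = -v) :
    Even (finrank K (mvS (negOG Q))) ∧ theta (negOG Q) = 1 := by
  rw [← mem_commutator_OG hB hN, ← show ogEquiv Q x = negOG Q from OG_ext hx, ← mem_Omega_iff]
  exact x.2

end Omega

variable (m : ℕ) (K : Type u) [Field K]

/-- The standard frame of the plus type form. -/
def fPlus : Frame (ofQ (qPlus m K)) (Fin m ⊕ Fin m) where
  n := Sum.swap
  e i := Pi.single i 1
  nn := Sum.swap_swap
  n_ne := by rintro (i | i) <;> simp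
  sing := by rintro (i | i) <;> simp [ofQ_Λ, qPlus_apply]
  orth := by rintro (i | i) (j | j) h <;> simp_all [ofQ_B, pb_qPlus, Pi.single_apply, eq_comm]
  pair := by rintro (i | i) <;> simp [ofQ_B, pb_qPlus, Pi.single_apply]
  aniso u h _ := funext fun i => by
    rcases i with i | i
    · simpa [ofQ_B, pb_qPlus, Pi.single_apply] using h (.inr i)
    · simpa [ofQ_B, pb_qPlus, Pi.single_apply] using h (.inl i)

theorem fPlus_V0 {u : Fin m ⊕ Fin m → K} (h : (fPlus m K).V0 u) : u = 0 := funext fun i => by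
  rcases i with i | i
  · simpa [fPlus, ofQ_B, pb_qPlus, Pi.single_apply] using h (.inr i)
  · simpa [fPlus, ofQ_B, pb_qPlus, Pi.single_apply] using h (.inl i)

theorem fOdd_aux {u : Unit ⊕ (Fin m ⊕ Fin m) → K}
    (h : ∀ i, pb (qOdd m K) u (Pi.single (.inr i) 1) = 0) :
    u = u (.inl ()) • Pi.single (.inl ()) 1 := funext fun i => by
  rcases i with i | i | i
  · simp
  · simpa [pb_qOdd, Pi.single_apply] using h (.inr i)
  · simpa [pb_qOdd, Pi.single_apply] using h (.inl i)

theorem qOdd_single (c : K) : qOdd m K (c • Pi.single (.inl ()) 1) = c ^ 2 := by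
  simp [qOdd_apply]

/-- The standard frame of the odd-dimensional form. -/
def fOdd : Frame (ofQ (qOdd m K)) (Fin m ⊕ Fin m) where
  n := Sum.swap
  e i := Pi.single (.inr i) 1
  nn := Sum.swap_swap
  n_ne := by rintro (i | i) <;> simp
  sing := by rintro (i | i) <;> simp [ofQ_Λ, qOdd_apply]
  orth := by rintro (i | i) (j | j) h <;> simp_all [ofQ_B, pb_qOdd, Pi.single_apply, eq_comm]
  pair := by rintro (i | i) <;> simp [ofQ_B, pb_qOdd, Pi.single_apply]
  aniso u h h' := by
    rw [fOdd_aux m K h, ofQ_Λ, qOdd_single] at h'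
    rw [fOdd_aux m K h, show u (.inl ()) = 0 by simpa using h', zero_smul]

variable {K} [Fintype K]

theorem orthHyp_plus (hm : 4 ≤ m) (h5 : 5 ≤ m ∨ Fintype.card K ≠ 2) {a b : Fin m ⊕ Fin m}
    (hab : (fPlus m K).D a b) : OrthHyp (fPlus m K) a b (jOmega (qPlus m K)) := by
  have h3 : ∀ a b, ∃ c, (fPlus m K).D a c ∧ (fPlus m K).D b c := fun a b => by
    simpa using (fPlus m K).exists_D rfl [a, b] (by simp; omega)
  have hD : ∀ u α, (fPlus m K).V0 u → (ofQ (qPlus m K)).Λ u α → α = 0 := fun u α hu hα => by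
    simpa [fPlus_V0 m K hu, ofQ_Λ] using hα
  refine ⟨qPlus_nondeg m K, h3, hab, jOmega_inj _, (jOmega_range _).trans
    (ofQ_E_eq (qPlus_nondeg m K) (bigEnough_of_card (by simp; omega)) h3 a).symm,
    fun G _ π S g hg h => ?_, fun Γ _ π P => P.exists_cst_D ofQ_σ ofQ_η h3 (nd_of_three h3) hD
      (fun a b c => by simpa using (fPlus m K).exists_D rfl [a, b, c] (by simp; omega)) ?_⟩
  · obtain ⟨t, ht, rfl⟩ := CSt.ker_D (nd_of_three h3) hab hD hg fun i => by simp [h]
    rcases mul_self_eq_one_iff.mp ht with rfl | rfl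
    · exact Or.inl (CSt.k_one (nd_of_three h3) hab)
    · exact Or.inr rfl
  · refine h5.imp (fun h a b c d => ?_) fun h => ?_
    · simpa using (fPlus m K).exists_D rfl [a, b, c, d] (by simp; omega)
    · classical
      obtain ⟨x, -, hx⟩ := Finset.exists_mem_notMem_of_card_lt_card (s := ({0, 1} : Finset K))
        (t := Finset.univ) (by
          have := Fintype.one_lt_card (α := K)
          rw [Finset.card_pair zero_ne_one, Finset.card_univ]; omega)
      exact ⟨x, by simpa using hx⟩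

theorem orthHyp_odd (h2 : (2 : K) ≠ 0) (hm : 3 ≤ m) (h4 : 4 ≤ m ∨ Fintype.card K ≠ 3)
    {a b : Fin m ⊕ Fin m} (hab : (fOdd m K).D a b) :
    OrthHyp (fOdd m K) a b (jOmega (qOdd m K)) := by
  have h3 : ∀ a b, ∃ c, (fOdd m K).D a c ∧ (fOdd m K).D b c := fun a b => by
    simpa using (fOdd m K).exists_D rfl [a, b] (by simp; omega)
  have hu : (fOdd m K).V0 (Pi.single (.inl ()) 1) := by
    rintro (i | i) <;> simp [fOdd, ofQ_B, pb_qOdd]
  have hα : (ofQ (qOdd m K)).Λ (Pi.single (.inl ()) 1) (-1) := by simp [ofQ_Λ, qOdd_apply]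
  refine ⟨qOdd_nondeg m K h2, h3, hab, jOmega_inj _, (jOmega_range _).trans
    (ofQ_E_eq (qOdd_nondeg m K h2) (bigEnough_of_card (by simp; omega)) h3 a).symm,
    fun G _ π S g hg h => ?_, fun Γ _ π P => P.exists_cst_sym ofQ_σ ofQ_η h3 (nd_of_three h3) hu hα
      (by simp) ?_⟩
  · obtain ⟨t, ht, rfl⟩ := CSt.ker_orbit (nd_of_three h3) hab hu (by simp) hα
      (fun u α hu hα _ => ⟨u (.inl ()), fOdd_aux m K hu, by
        rw [fOdd_aux m K hu, ofQ_Λ, qOdd_single] at hα
        rw [hα, ofQ_σ]; ring⟩) hg fun i => by simp [h]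
    rcases mul_self_eq_one_iff.mp ht with rfl | rfl
    · exact Or.inl (CSt.k_one (nd_of_three h3) hab)
    · exact Or.inr rfl
  · refine h4.imp (fun h a b c => ?_) fun h => ⟨⟨_, _, hu, hu, by simpa [ofQ_B, pb_qOdd]⟩, ?_⟩
    · simpa using (fOdd m K).exists_D rfl [a, b, c] (by simp; omega)
    · classical
      left
      by_contra hc
      push Not at hc
      have h5 := Nat.le_of_dvd two_pos ((FiniteField.forall_pow_eq_one_iff K 2).mp fun a =>
        Units.ext (by simpa using hc a a.ne_zero))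
      have h6 := Fintype.one_lt_card (α := K)
      have h7 : Fintype.card K = 2 := by omega
      exact h2 (by simpa [h7] using FiniteField.cast_card_eq_zero K)

theorem schur_odd (h2 : (2 : K) ≠ 0) (hm : 3 ≤ m) (h4 : 4 ≤ m ∨ Fintype.card K ≠ 3) :
    HasCyclicSchurMultiplier (POmega K (qOdd m K)) 2 := by
  classical
  obtain ⟨b, hb⟩ := (fOdd m K).exists_D rfl [.inl ⟨0, by omega⟩] (by simp; omega)
  refine (orthHyp_odd m h2 hm h4 (hb _ (List.mem_singleton_self _))).schur_two h2 fun x hx => ?_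
  have h := (jOmega_neg (qOdd_nondeg m K h2) (bigEnough_of_card (by simp; omega)) hx).1
  have h1 : mvS (negOG (qOdd m K)) = ⊤ := eq_top_iff.mpr fun v _ => mem_mvS.mpr ⟨(2 : K)⁻¹ • v, by
    rw [negOG_apply, sub_neg_eq_add, ← two_smul K, smul_inv_smul₀ h2]⟩
  rw [h1, finrank_top] at h
  simp [parity_simps] at h

theorem fPlus_span {P : (Fin m ⊕ Fin m → K) → Prop} (h1 : ∀ i, P ((fPlus m K).e i))
    (h0 : P 0) (h3 : ∀ x y, P x → P y → P (x + y)) (h4 : ∀ (c : K) x, P x → P (c • x))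
    (x : Fin m ⊕ Fin m → K) : P x :=
  V_induction (F := fPlus m K) h1 (fun _ hu => fPlus_V0 m K hu ▸ h0) h3 h4 x

theorem schur_plus_even (hm : 4 ≤ m) (he : Even m) (h5 : 5 ≤ m ∨ Fintype.card K ≠ 2) :
    HasSchurMultiplier (POmega K (qPlus m K)) (Multiplicative
      (ZMod (Nat.gcd 2 (Fintype.card K ^ m - 1)) × ZMod (Nat.gcd 2 (Fintype.card K ^ m - 1)))) := by
  classical
  obtain ⟨b, hb⟩ := (fPlus m K).exists_D rfl [.inl ⟨0, by omega⟩] (by simp; omega)
  have H := orthHyp_plus m hm h5 (hb _ (List.mem_singleton_self _))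
  have h0 : 0 < Fintype.card K ^ m := pow_pos Fintype.card_pos m
  by_cases h2 : (2 : K) = 0
  · have : CharP K 2 := CharTwo.of_one_ne_zero_of_two_eq_zero one_ne_zero h2
    have h1 : Even (Fintype.card K ^ m) := Nat.even_pow.mpr
      ⟨Nat.even_iff.mpr (FiniteField.even_card_of_char_two (ringChar.eq K 2)), by omega⟩
    rw [Nat.gcd_rec, show (Fintype.card K ^ m - 1) % 2 = 1 by rw [Nat.even_iff] at h1; omega]
    exact H.schur_one h2 (Multiplicative (ZMod 1 × ZMod 1))
  have h1 : Odd (Fintype.card K ^ m) := Odd.pow (Nat.odd_iff.mpr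
    (FiniteField.odd_card_of_char_ne_two fun h => h2 (by
      simpa [h] using ringChar.Nat.cast_ringChar (R := K))))
  rw [Nat.gcd_rec, show (Fintype.card K ^ m - 1) % 2 = 0 by rw [Nat.odd_iff] at h1; omega]
  refine H.schur_klein h2 fun G _ π S => ?_
  obtain ⟨r, rfl⟩ := he
  obtain ⟨c, -, -, c1, c2, -⟩ := S.exists_neg (nd_of_three H.h3) r Finset.univ (by simp)
    (by simp; ring)
  exact ⟨c, c1, fPlus_span _ (fun i => c2 i (by simp)) (by simp) (fun x y hx hy => by
    simp [hx, hy, add_comm]) fun c x hx => by simp [hx]⟩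

omit [Fintype K] in
theorem ringChar_ne_two (h2 : (2 : K) ≠ 0) : ringChar K ≠ 2 := fun h => h2 (by
  simpa [h] using ringChar.Nat.cast_ringChar (R := K))

theorem pow_mod_four {q n : ℕ} (hn : Odd n) (h : q % 2 = 1) : q ^ n % 4 = q % 4 := by
  obtain ⟨r, rfl⟩ := hn
  have : q ^ 2 % 4 = 1 := by
    rcases (by omega : q % 4 = 1 ∨ q % 4 = 3) with h | h <;> simp [Nat.pow_mod, h]
  rw [pow_succ, pow_mul, Nat.mul_mod, Nat.pow_mod, this]; simp

theorem schur_plus_odd (hm : 5 ≤ m) (ho : Odd m) :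
    HasCyclicSchurMultiplier (POmega K (qPlus m K)) (Nat.gcd 4 (Fintype.card K ^ m - 1)) := by
  classical
  obtain ⟨b, hb⟩ := (fPlus m K).exists_D rfl [.inl ⟨0, by omega⟩] (by simp; omega)
  replace hb := hb _ (List.mem_singleton_self _)
  have H := orthHyp_plus m (by omega) (Or.inl hm) hb
  have hN := nd_of_three H.h3
  have h0 : 0 < Fintype.card K ^ m := pow_pos Fintype.card_pos m
  by_cases h2 : (2 : K) = 0
  · have : CharP K 2 := CharTwo.of_one_ne_zero_of_two_eq_zero one_ne_zero h2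
    have h1 : 2 ^ 2 ∣ Fintype.card K ^ m := (pow_dvd_pow_of_dvd (Nat.dvd_of_mod_eq_zero
      (FiniteField.even_card_of_char_two (ringChar.eq K 2))) 2).trans (pow_dvd_pow _ (by omega))
    rw [Nat.gcd_rec, show (Fintype.card K ^ m - 1) % 4 = 3 by omega]
    exact H.schur_one h2 (Multiplicative (ZMod 1))
  have h1 := FiniteField.odd_card_of_char_ne_two (ringChar_ne_two h2)
  have h3 := pow_mod_four ho h1
  by_cases h4 : Fintype.card K % 4 = 3
  · rw [Nat.gcd_rec, show (Fintype.card K ^ m - 1) % 4 = 2 by omega]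
    refine H.schur_two h2 fun x hx => ?_
    have h := (jOmega_neg (qPlus_nondeg m K) (bigEnough_of_card (by simp; omega)) hx).2
    rw [theta_neg_qPlus h2 m (by omega), quadraticChar_neg_one_iff_not_isSquare.mpr
      (by simpa [FiniteField.isSquare_neg_one_iff]), ho.neg_one_pow] at h
    omega
  rw [Nat.gcd_rec, show (Fintype.card K ^ m - 1) % 4 = 0 by omega]
  refine H.schur_four h2 fun G _ π S => ?_
  obtain ⟨i, hi⟩ := FiniteField.isSquare_neg_one_iff.mpr h4
  have hi0 : i ≠ 0 := by rintro rfl; simp at hi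
  obtain ⟨r, rfl⟩ := ho
  have h5 : ∀ j, j ∈ Finset.univ \ {b, (fPlus _ K).n b} ↔ (fPlus _ K).D b j := fun j => by simp [D]
  obtain ⟨c, -, -, c1, c2, c3, -⟩ := S.exists_neg hN r (Finset.univ \ {b, (fPlus _ K).n b})
    (fun j hj => (h5 _).mpr ((h5 _).mp hj).nr)
    (by rw [Finset.card_univ_diff, Finset.card_pair ((fPlus _ K).n_ne b).symm]; simp; omega)
  refine ⟨c, S.k _ b i, c1, by rw [← CSt.k_mul hN hb hi0 hi0, ← hi], fPlus_span _ (fun j => ?_)
    (by simp) (fun x y hx hy => by rw [U_add, hx, hy, neg_add]) fun c x hx => by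
      rw [U_smul, hx, smul_neg]⟩
  rw [map_mul, mul_smul]
  rcases cases3 (F := fPlus _ K) b j with rfl | rfl | e
  · rw [CSt.k_b hb hi0]; simp [ofQ_σ, ← hi, c3 j (by simp)]
  · rw [CSt.k_nb hb hi0]; simp [ofQ_σ, ← hi, c3 _ (show (fPlus _ K).n b ∉ _ by simp)]
  · rw [CSt.k_fix hb hi0 e, c2 j ((h5 j).mpr e)]

end Cfsg.Agent.H6
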