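import Cfsg.Agent.H6.CStd

/-! Constructing Steinberg systems from root subgroups; commutator formulas. -/

set_option autoImplicit false

open scoped commutatorElement

namespace Cfsg.Agent.H6

open OF Subgroup

variable {K V I G : Type*} [Field K] [AddCommGroup V] [Module K V] [Group G]

namespace Frame

variable {O : OF K V} {F : Frame O I}

theorem D.T_line {i j : I} (h : F.D i j) (c : K) :
    O.T (F.e (F.n j)) (c • F.e i) 0 = F.xT i j (O.η * c * O.σ (F.ε j)) := by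
  rw [T_swap (F.sing _) (F.sing _) h.nr.B, xT, xv]
  congr 2
  have := F.ε_ne j
  simp only [map_mul, O.σσ, O.ση]
  field_simp

theorem D.xT_eq {i j : I} (h : F.D i j) (s : K) :
    F.xT i j s = O.T (F.e (F.n j)) ((O.η * s / O.σ (F.ε j)) • F.e i) 0 := by
  rw [h.T_line]
  congr 1
  have := O.σ_ne (F.ε_ne j)
  field_simp
  linear_combination -s * O.ηη

theorem D.xT_mem_Q {i j : I} (h : F.D i j) (s : K) : F.xT i j s ∈ F.Q i := ⟨_, _, h.ok_xv s, rfl⟩

theorem D.xT_mem_Q' {i j : I} (h : F.D i j) (s : K) : F.xT i j s ∈ F.Q (F.n j) :=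
  ⟨_, _, h.symm.nl.ok_line _, h.xT_eq s⟩

theorem D.xT_zero {i j : I} (h : F.D i j) : F.xT i j 0 = 1 := add_fam_zero h.xT_add

theorem D.xT_neg {i j : I} (h : F.D i j) (s : K) : F.xT i j (-s) = (F.xT i j s)⁻¹ :=
  add_fam_neg h.xT_add s

theorem D.comm_xT {i j l : I} (hij : F.D i j) (hjl : F.D j l) (hil : F.D i l) (s t : K) :
    ⁅F.xT i j s, F.xT j l t⁆ = F.xT i l (s * t) := by
  rw [← std_x hij, ← std_x hjl, ← std_x hil, CSt.comm_x hij hjl hil]

theorem Ok.commute {k : I} {v : V} {α : K} (h : F.Ok k v α) {g : O.U} (h1 : g • F.e k = F.e k)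
    (h2 : g • v = v) : Commute g (O.T (F.e k) v α) :=
  mul_inv_eq_iff_eq_mul.mp (by rw [h.conj_T, h1, h2])

theorem D.commute_xT {i j : I} (h : F.D i j) (s : K) {g : O.U} (h1 : g • F.e i = F.e i)
    (h2 : g • F.e (F.n j) = F.e (F.n j)) : Commute g (F.xT i j s) :=
  (h.ok_xv s).commute h1 (by rw [xv, U_smul, h2])

theorem D.xT_fix {i j : I} (h : F.D i j) (s : K) {v : V} (h1 : O.B v (F.e i) = 0)
    (h2 : O.B v (F.e (F.n j)) = 0) : F.xT i j s • v = v := by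
  rw [Frame.xT, (h.ok_xv s).T_smul, h1, xv, map_smulₛₗ, h2]; simp

theorem D.conj_xT_T {a b : I} (h : F.D a b) {u : V} {α : K} (ha : F.Ok a u α) (hb : F.Ok b u α)
    (s : K) : O.T (F.e b) u α * F.xT a b s * (O.T (F.e b) u α)⁻¹ = F.xT a b s *
      O.T (F.e a) ((-O.σ s * α) • F.e b) 0 * O.T (F.e a) ((-O.σ s) • u) (s * O.σ s * α) := by
  have e1 := h.ok_xv s
  have e2 := h.ok_line (-O.σ s * α)
  have e3 : F.Ok a ((-O.σ s) • u) (s * O.σ s * α) := ⟨⟨F.sing a, by simp [ha.perp],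
    Λ_congr (O.smul (-O.σ s) ha.mem) rfl (by rw [map_neg, O.σσ]; ring)⟩, by simp [ha.perp']⟩
  rw [xT, e1.conj_T, e1.T_mul e2.toOk, (e1.add e2).T_mul e3.toOk,
    (hb.fix_iff h.symm.2).mpr ha.perp]
  have := F.ε_ne b
  have := O.σ_ne (F.ε_ne b)
  congr 1
  · simp only [xv, U_smul, hb.T_en]
    match_scalars <;> field_simp
  · simp only [xv, map_neg, O.σσ, map_smulₛₗ, LinearMap.smul_apply, smul_eq_mul,
      B_n', map_add, hb.perp, hb.perp', F.ε_n, map_div₀, RingHom.id_apply]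
    field_simp
    linear_combination (α * s * O.σ s * O.σ (F.ε b)) * O.ηη

theorem D.comm_TT {l k : I} (h : F.D l k) {u u' : V} {α α' : K} (h1 : F.Ok l u α)
    (h2 : F.Ok k u' α') (h3 : O.B u (F.e k) = 0) (h4 : O.B u' (F.e l) = 0) :
    ⁅O.T (F.e l) u α, O.T (F.e k) u' α'⁆ = O.T (F.e k) ((-(O.η * O.B u' u)) • F.e l) 0 := by
  have h5 := (h1.fix_iff h.2).mpr h3
  have h6 := h2.toOk.map (O.T (F.e l) u α)
  rw [h5] at h6
  rw [commutatorElement_def, h2.conj_T, h5, h2.T_inv, h6.T_mul h2.inv.toOk, h1.T_smul, h4]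
  congr 1
  · module
  · simp only [zero_smul, add_zero, map_neg, map_add, map_smulₛₗ, LinearMap.neg_apply, h4]
    linear_combination O.η * O.max h2.mem - α' * O.ηη

end Frame

open Frame

theorem CSt.RR_induction [Finite I] {O : OF K V} {F : Frame O I} {π : G →* O.U} {S : CSt F π}
    {k : I} {T : Set I} {H : Subgroup G} (hx : ∀ j ∈ T, F.D k j → ∀ s, S.x k j s ∈ H)
    (hy : S.RR k ∅ ≤ H) : S.RR k T ≤ H := by
  induction T, T.toFinite using Set.Finite.induction_on with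
  | empty => exact hy
  | @insert j T _ _ ih =>
    have ih := ih fun i hi => hx i (Set.mem_insert_of_mem _ hi)
    intro g hg
    by_cases h : F.D k j
    · obtain ⟨s, h1, -⟩ := CSt.split h hg
      simpa using mul_mem (ih (CSt.RR_mono h1 fun i hi _ => hi.1.resolve_left hi.2))
        (hx j (Set.mem_insert _ _) h s)
    · exact ih (CSt.RR_mono hg fun i hi hd => hi.resolve_left fun e => h (e ▸ hd))

/-- Root subgroups lifting the radical at `k`. -/
structure Roots {O : OF K V} (F : Frame O I) (π : G →* O.U) (k : I) (X : I → Subgroup G)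
    (Y : Subgroup G) : Prop where
  imgX : ∀ {j g}, F.D k j → g ∈ X j → ∃ s, π g = F.xT k j s ∧ (s = 0 → g = 1)
  surjX : ∀ {j}, F.D k j → ∀ s, ∃ g ∈ X j, π g = F.xT k j s
  imgY : ∀ {g}, g ∈ Y → π g ∈ F.std.RR k ∅
  injY : ∀ {g}, g ∈ Y → π g = 1 → g = 1
  surjY : ∀ {u α}, F.V0 u → O.Λ u α → ∃ g ∈ Y, π g = O.T (F.e k) u α
  commX : ∀ {j l g g'}, F.D k j → F.D k l → g ∈ X j → g' ∈ X l → ⁅g, g'⁆ ∈ Y
  normY : ∀ {j g y}, F.D k j → g ∈ X j → y ∈ Y → g * y * g⁻¹ ∈ Y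

/-- The subgroup generated by root subgroups. -/
def RS (X : I → Subgroup G) (Y : Subgroup G) (T : Set I) : Subgroup G :=
  closure (Y ∪ {g | ∃ j ∈ T, g ∈ X j})

theorem RS_le {X : I → Subgroup G} {Y H : Subgroup G} {T : Set I} (hY : Y ≤ H)
    (hX : ∀ j ∈ T, X j ≤ H) : RS X Y T ≤ H :=
  (closure_le _).mpr (by
    rintro g (hg | ⟨j, hj, hg⟩)
    exacts [hY hg, hX j hj hg])

theorem Y_RS {X : I → Subgroup G} {Y : Subgroup G} {T : Set I} {g : G} (h : g ∈ Y) :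
    g ∈ RS X Y T := subset_closure (Or.inl h)

theorem X_RS {X : I → Subgroup G} {Y : Subgroup G} {T : Set I} {g : G} {j : I} (hj : j ∈ T)
    (h : g ∈ X j) : g ∈ RS X Y T := subset_closure (Or.inr ⟨j, hj, h⟩)

namespace Roots

variable {O : OF K V} {F : Frame O I} {π : G →* O.U} {k : I} {X : I → Subgroup G} {Y : Subgroup G}
  (H : Roots F π k X Y)
include H

theorem img {T : Set I} (hT : ∀ j ∈ T, F.D k j) {g : G} (hg : g ∈ RS X Y T) :
    π g ∈ F.std.RR k T := by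
  refine RS_le (H := (F.std.RR k T).comap π) (fun y hy => ?_) (fun j hj y hy => ?_) hg
  · exact CSt.RR_mono (H.imgY hy) fun _ h => h.elim
  · obtain ⟨s, h1, -⟩ := H.imgX (hT j hj) hy
    rw [mem_comap, h1, ← std_x (hT j hj)]
    exact CSt.x_mem_RR (hT j hj) s hj

variable [Finite I]

theorem descent {T T' : Set I} (hT : ∀ j ∈ T, F.D k j) {g : G} (hg : g ∈ RS X Y T)
    (h : ∀ i ∉ T', F.D k i → π g • F.e i = F.e i) : g ∈ RS X Y (T ∩ T') := by
  suffices ∀ m, ∀ T : Set I, (∀ j ∈ T, F.D k j) → (T \ T').ncard = m → g ∈ RS X Y T →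
      g ∈ RS X Y (T ∩ T') from this _ _ hT rfl hg
  intro m
  induction m using Nat.strong_induction_on with
  | _ m ih =>
  intro T hT hm hg
  by_cases h0 : T ⊆ T'
  · rwa [Set.inter_eq_left.mpr h0]
  obtain ⟨a, ha, ha'⟩ : ∃ a ∈ T, a ∉ T' := Set.not_subset.mp h0
  have hlt : ((T \ {a}) \ T').ncard < (T \ T').ncard :=
    Set.ncard_lt_ncard ⟨fun i hi => ⟨hi.1.1, hi.2⟩, fun h => (@h a ⟨ha, ha'⟩).1.2 rfl⟩
  have h1 : ∀ j ∈ T \ {a}, F.D k j := fun j hj => hT j hj.1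
  have h2 : ∀ x ∈ X a, ∀ y ∈ RS X Y (T \ {a}), x * y * x⁻¹ ∈ RS X Y (T \ {a}) := fun x hx y hy =>
    RS_le (H := (RS X Y (T \ {a})).comap (MulAut.conj x).toMonoidHom)
      (fun y hy => Y_RS (H.normY (hT a ha) hx hy)) (fun j hj y hy => by
        simpa [commutatorElement_def] using mul_mem
          (Y_RS (T := T \ {a}) (H.commX (hT a ha) (h1 j hj) hx hy)) (X_RS hj hy)) hy
  obtain ⟨r, hr, x, hx, rfl⟩ := exists_mul_of_mem_sup (H := RS X Y (T \ {a})) (D := X a)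
    (fun x hx => mem_normalizer_iff.mpr fun y => ⟨h2 x hx y, fun hy => by
      simpa [mul_assoc] using h2 _ (inv_mem hx) _ hy⟩)
    (RS_le (fun y hy => mem_sup_left (Y_RS hy)) (fun j hj y hy => by
      by_cases e : j = a
      · exact mem_sup_right (e ▸ hy)
      · exact mem_sup_left (X_RS ⟨hj, e⟩ hy)) hg)
  obtain ⟨s, h3, h4⟩ := H.imgX (hT a ha) hx
  have h5 := h a ha' (hT a ha)
  have h6 := H.img h1 hr
  have h7 : π r • F.e a = F.e a := h6.2 a (by simp) (hT a ha).2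
  have h8 : π r • F.e k = F.e k := F.std.fix_self h6.1
  rw [map_mul, mul_smul, h3, (hT a ha).xT_self, U_add, U_smul, h7, h8] at h5
  obtain rfl := h4 (by simpa [F.e_ne k] using h5)
  exact RS_le (fun y hy => Y_RS hy) (fun j hj y hy => X_RS (T := T ∩ T') ⟨hj.1.1, hj.2⟩ hy)
    (ih _ (hm ▸ hlt) _ h1 rfl (by rwa [mul_one]))

theorem inj {g : G} (hg : g ∈ RS X Y {j | F.D k j}) (h : π g = 1) : g = 1 :=
  H.injY (RS_le (H := Y) le_rfl (fun _ h => h.2.elim)
    (H.descent (T' := ∅) (fun _ h => h) hg fun i _ _ => by rw [h, one_smul])) h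

theorem surj {v : V} {α : K} (h : F.Ok k v α) :
    ∃ g ∈ RS X Y {j | F.D k j}, π g = O.T (F.e k) v α := by
  refine CSt.RR_induction (S := F.std) (H := (RS X Y {j | F.D k j}).map π) (fun j _ hj s => ?_)
    (fun y hy => ?_) (CSt.mem_RR_univ (S := F.std) ⟨v, α, h, rfl⟩)
  · obtain ⟨g, h1, h2⟩ := H.surjX hj s
    exact ⟨g, X_RS hj h1, h2.trans (std_x hj s).symm⟩
  · obtain ⟨u, α, h1, h2, h3⟩ := CSt.Y_img hy
    obtain ⟨g, h4, h5⟩ := H.surjY h1 h2
    exact ⟨g, Y_RS h4, h5.trans h3.symm⟩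

end Roots

/-- A Steinberg system from root subgroups satisfying the commutator relations. -/
def CSt.ofRoots [Finite I] {O : OF K V} {F : Frame O I} {π : G →* O.U} (X : I → I → Subgroup G)
    (Y : I → Subgroup G) (H : ∀ k, Roots F π k (X k) (Y k))
    (swap : ∀ {i j}, F.D i j → X i j ≤ X (F.n j) (F.n i))
    (conj : ∀ {k j}, F.D k j → ∀ g, (g ∈ Y k ∨ ∃ l, F.D k l ∧ F.D j l ∧ g ∈ X k l) → ∀ y,
      (y ∈ Y j ∨ ∃ r, F.D j r ∧ y ∈ X j r) → g * y * g⁻¹ ∈ RS (X j) (Y j) {r | F.D j r}) :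
    CSt F π where
  R k := RS (X k) (Y k) {j | F.D k j}
  img h := ((H _).img (fun _ h => h) h).1
  surj := (H _).surj
  inj := (H _).inj
  swap {i j g} c h hg e := by
    have h1 := h.symm.nr.T_line c
    rw [F.nn] at h1
    obtain ⟨g', h2, h3⟩ := (H j).surjX h.symm.nr (O.η * c * O.σ (F.ε (F.n i)))
    have h4 := swap h.symm.nr h2
    rw [F.nn] at h4
    rw [mul_inv_eq_one.mp ((H i).inj (mul_mem hg (inv_mem (X_RS h.nr h4)))
      (by rw [map_mul, map_inv, e, h1, h3, mul_inv_cancel]))]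
    exact X_RS h.symm.nr h2
  conj {k j g y} h hg h1 h2 hy := by
    have key : ∀ g, (g ∈ Y k ∨ ∃ l, F.D k l ∧ F.D j l ∧ g ∈ X k l) → ∀ y ∈ RS (X j) (Y j)
        {r | F.D j r}, g * y * g⁻¹ ∈ RS (X j) (Y j) {r | F.D j r} := fun g hg y hy =>
      RS_le (H := (RS (X j) (Y j) {r | F.D j r}).comap (MulAut.conj g).toMonoidHom)
        (fun y hy => conj h g hg y (Or.inl hy)) (fun r hr y hy => conj h g hg y
          (Or.inr ⟨r, hr, hy⟩)) hy
    have h3 := (H k).descent (T' := {l | F.D j l}) (fun _ h => h) hg fun i hi _ => by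
      rcases cases3 (F := F) j i with rfl | rfl | h
      exacts [h1, h2, absurd h hi]
    refine (mem_normalizer_iff.mp (le_normalizer_of_closure ?_ h3) y).mp hy
    rintro g (hg | ⟨l, hl, hg⟩) y hy
    · exact ⟨key g (Or.inl hg) y hy, by simpa using key _ (Or.inl (inv_mem hg)) y hy⟩
    · exact ⟨key g (Or.inr ⟨l, hl.1, hl.2, hg⟩) y hy,
        by simpa using key _ (Or.inr ⟨l, hl.1, hl.2, inv_mem hg⟩) y hy⟩

end Cfsg.Agent.H6
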