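import Cfsg.Agent.H6.CSp
import Cfsg.Agent.H1.SUGen

/-! Unitary groups as odd form groups; the rank one kernel theorem. -/

set_option autoImplicit false

open scoped commutatorElement

namespace Cfsg.Agent.H6

open OF Subgroup Frame H5

section General

variable {K V I G G' : Type*} [Field K] [AddCommGroup V] [Module K V] [Group G] [Group G']
  {O : OF K V} {F : Frame O I}

theorem CSt.IsN.map {π : G →* O.U} {π' : G' →* O.U} {S : CSt F π} {S' : CSt F π'} {φ : G →* G'}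
    (hφ : S.Hom S' φ) {b : I} {y n : G} (h : S.IsN b y n) : S'.IsN b (φ y) (φ n) := by
  have e : ∀ {k T g}, g ∈ S.RR k T → φ g ∈ S'.RR k T := fun h =>
    ⟨hφ.mem h.1, fun i h1 h2 => by rw [hφ.comp]; exact h.2 i h1 h2⟩
  obtain ⟨y1, h1, y2, h2, h3⟩ := h.eq
  exact ⟨e h.mem, ⟨_, e h1, _, e h2, by rw [h3, map_mul, map_mul]⟩, by simpa [hφ.comp] using h.lin,
    by simpa [hφ.comp] using h.lin'⟩

theorem T_mem_Y {u : V} (hu : F.V0 u) {α : K} (hα : O.Λ u α) (b : I) :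
    O.T (F.e b) u α ∈ F.std.RR b ∅ :=
  ⟨⟨_, _, hu.ok hα b, rfl⟩, fun i _ hi => ((hu.ok hα b).fix_iff hi).mpr (hu i)⟩

theorem isN_wT {u : V} (hu : F.V0 u) {α : K} (hα : O.Λ u α) (h0 : α ≠ 0) (b : I) :
    F.std.IsN b (O.T (F.e b) u α) (F.wT b u α) := by
  have h := hu.ok hα b
  obtain ⟨e1, e2, e3⟩ := h.wT_act h0
  have h1 : ∀ c : K, F.V0 (c • u) := fun c i => by simp [hu i]
  have h2 := h.ok_last h0
  have hc : O.η / (F.ε b * O.σ α) ≠ 0 := by simp [O.η_ne, F.ε_ne, h0]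
  refine ⟨T_mem_Y hu hα b, ⟨F.wT b u α * O.T (F.e b) ((O.η * α / O.σ α) • u) α * (F.wT b u α)⁻¹, ?_,
    _, T_mem_Y (h1 _) (h.ok_mid h0).mem _, ?_⟩, ⟨_, e1⟩, _, e2⟩
  · rw [h2.conj_T' hc e1]
    refine T_mem_Y (fun i => ?_) (Ok.of_smul hc (e1 ▸ h2.toOk.map _)).mem _
    simp [e3 u h.W, hu i]
  · exact (by intros; group : ∀ a b c : O.U, a * b * c = a * b * c * c * (a * b * c)⁻¹ * a * b) _ _ _

theorem W_ext {b : I} {w w' : V} (hw : F.W b w) (hw' : F.W b w') {a a' c c' : K}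
    (h : a • F.e (F.n b) + w + c • F.e b = a' • F.e (F.n b) + w' + c' • F.e b) :
    a = a' ∧ w = w' ∧ c = c' := by
  have h1 := congrArg (fun x => O.B x (F.e b)) h
  have h2 := congrArg (fun x => O.B x (F.e (F.n b))) h
  simp only [map_add, map_smul, LinearMap.add_apply, LinearMap.smul_apply, hw.1, hw.2, hw'.1, hw'.2,
    F.B_ee, B_n, B_n', smul_eq_mul, mul_zero, add_zero, zero_add, mul_left_inj' (F.ε_ne _)] at h1 h2
  rw [h1, h2] at h
  exact ⟨h1, by simpa using h, h2⟩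

end General

variable {K V I G : Type*} [Field K] [Fintype K] [AddCommGroup V] [Module K V] [Group G]
  {σ : K →+* K} {q : ℕ}

/-- The odd form space of a hermitian form. -/
def ofSU {B : Sesq σ V} (hU : UF σ q) (hB : IsEps B 1) : OF K V where
  σ := σ
  B := B
  η := 1
  Λ v α := B v v + α + σ α = 0
  σσ := hU.invol
  ηη := one_mul 1
  ση := map_one σ
  herm := hB.symm
  max h := by rwa [one_mul]
  add {v α w β} h h' := by
    simp only [map_add, LinearMap.add_apply, map_sub, one_mul, ← hB.herm]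
    linear_combination h + h'
  smul {v α} c h := by
    simp only [map_smulₛₗ, LinearMap.smul_apply, smul_eq_mul, RingHom.id_apply, map_mul, hU.invol]
    linear_combination c * σ c * h
  min d := by simp [hU.invol]
  ex v := by
    obtain ⟨a, ha⟩ := hU.trace_surj (c := -B v v) (by rw [map_neg, hB.herm_self])
    exact ⟨a, by linear_combination -ha⟩

variable {B : Sesq σ V} {hU : UF σ q} {hB : IsEps B 1}

theorem ofSU_σ (x : K) : (ofSU hU hB).σ x = σ x := rfl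

theorem ofSU_η : (ofSU hU hB).η = 1 := rfl

theorem ofSU_B (x y : V) : (ofSU hU hB).B x y = B x y := rfl

theorem ofSU_Λ (x : V) (α : K) : (ofSU hU hB).Λ x α ↔ B x x + α + σ α = 0 := Iff.rfl

theorem ofSU_Λ0 (α : K) : (ofSU hU hB).Λ 0 α ↔ σ α = -α := by
  rw [ofSU_Λ, eq_neg_iff_add_eq_zero, add_comm]; simp

variable {F : Frame (ofSU hU hB) I} {π : G →* (ofSU hU hB).U}

/-- The anisotropic part is a line. -/
structure Line (F : Frame (ofSU hU hB) I) (u₀ : V) : Prop where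
  v0 : F.V0 u₀
  one : B u₀ u₀ = 1
  span : ∀ u, F.V0 u → ∃ c : K, u = c • u₀

theorem V0_smul' {u : V} (h : F.V0 u) (c : K) : F.V0 (c • u) := fun i => by simp [h i]

theorem V0_zero' : F.V0 0 := fun i => by simp

theorem Line.ex {u₀ : V} (H : Line F u₀) (α : K) : ∃ u, F.V0 u ∧ (ofSU hU hB).Λ u α := by
  obtain ⟨c, hc⟩ := hU.norm_surj (c := -(α + σ α)) (by simp [hU.invol, add_comm])
  exact ⟨c • u₀, V0_smul' H.v0 c, by
    simp only [ofSU_Λ, map_smulₛₗ, LinearMap.smul_apply, smul_eq_mul, RingHom.id_apply, H.one]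
    linear_combination hc⟩

theorem Line.wT {u₀ : V} (H : Line F u₀) (b : I) {u : V} (hu : F.V0 u) {α : K}
    (hα : (ofSU hU hB).Λ u α) (h0 : α ≠ 0) {v : V} (hv : F.V0 v) :
    F.wT b u α • v = (-(σ α / α)) • v := by
  rw [((hu.ok hα b).wT_act h0).2.2 v (hv.W b)]
  obtain ⟨c, rfl⟩ := H.span u hu
  obtain ⟨d, rfl⟩ := H.span v hv
  simp only [ofSU_Λ, ofSU_B, ofSU_η, ofSU_σ, map_smulₛₗ, LinearMap.smul_apply, smul_eq_mul,
    RingHom.id_apply, H.one] at hα ⊢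
  match_scalars; field_simp; linear_combination d * hα

/-- The Weyl element with given parameters. -/
def NN (S : CSt F π) (b : I) (u : V) (α : K) (n : G) : Prop :=
  F.V0 u ∧ (ofSU hU hB).Λ u α ∧ α ≠ 0 ∧ ∃ y, S.IsN b y n ∧ π y = (ofSU hU hB).T (F.e b) u α

/-- Torus elements of the rank one subgroup. -/
def Tor (S : CSt F π) (b : I) (g : G) (t : K) : Prop :=
  g ∈ S.L {b, F.n b} ∧ S.Mon g 1 ∧ t ≠ 0 ∧ π g • F.e b = t • F.e b ∧
    π g • F.e (F.n b) = (σ t)⁻¹ • F.e (F.n b) ∧ ∀ u, F.V0 u → π g • u = (σ t / t) • u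

variable {S : CSt F π} {b : I}

theorem exists_NN (S : CSt F π) (b : I) {u : V} (hu : F.V0 u) {α : K} (hα : (ofSU hU hB).Λ u α)
    (h0 : α ≠ 0) : ∃ n, NN S b u α n := by
  obtain ⟨y, h1, h2⟩ := S.Y_surj b hu hα
  obtain ⟨n, hn⟩ := CSt.exists_isN h1 fun h => h0 ((hu.ok hα b).eq_of_line (c := 1)
    (by rw [← h2, h]; simp)).2
  exact ⟨n, hu, hα, h0, y, hn, h2⟩

theorem NN.of_isN {y n : G} (h : S.IsN b y n) : ∃ u α, NN S b u α n := by
  obtain ⟨u, α, h1, h2, h3, h4⟩ := CSt.Y_img' h.mem h.ne_one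
  exact ⟨u, α, h2, h3, h1, y, h, h4⟩

namespace NN

variable {u u' : V} {α α' : K} {n n' : G}

theorem unique (h : NN S b u α n) (h' : NN S b u α n') : n = n' := by
  obtain ⟨-, -, -, y, h1, h2⟩ := h
  obtain ⟨-, -, -, y', h3, h4⟩ := h'
  obtain rfl := S.ext h1.mem.1 h3.mem.1 (h2.trans h4.symm)
  exact h1.unique h3

theorem π_eq (h : NN S b u α n) : π n = F.wT b u α := by
  obtain ⟨h1, h2, h3, y, h4, h5⟩ := h
  exact (h5 ▸ h4.map (CSt.hom_std S)).unique (isN_wT h1 h2 h3 b)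

theorem e (h : NN S b u α n) : π n • F.e b = (F.ε b * σ α)⁻¹ • F.e (F.n b) := by
  rw [h.π_eq, ((h.1.ok h.2.1 b).wT_act h.2.2.1).1, ofSU_η, one_div]; rfl

theorem f (h : NN S b u α n) : π n • F.e (F.n b) = (α * F.ε b) • F.e b := by
  rw [h.π_eq, ((h.1.ok h.2.1 b).wT_act h.2.2.1).2.1]

theorem inv (h : NN S b u α n) : NN S b (-u) (σ α) n⁻¹ := by
  obtain ⟨h1, h2, h3, y, h4, h5⟩ := h
  exact ⟨fun i => by simp [h1 i], by simpa [ofSU_η, ofSU_σ] using OF.inv h2, by simpa, _, h4.inv, by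
    rw [map_inv, h5, (h1.ok h2 b).T_inv]; simp [ofSU_η, ofSU_σ]⟩

theorem conj (h : NN S b u α n) {g : G} {t : K} (hg : Tor S b g t) :
    NN S b ((σ t * (σ t / t)) • u) (t * σ t * α) (g * n * g⁻¹) := by
  obtain ⟨h1, h2, h3, y, h4, h5⟩ := h
  obtain ⟨-, e1, e2, e3, -, e4⟩ := hg
  have e5 := (Ok.of_smul e2 (e3 ▸ (h1.ok h2 b).toOk.map _)).mem
  rw [e4 u h1, smul_smul] at e5
  exact ⟨V0_smul' h1 _, e5, by simp [*], _, h4.conj e1, by
    rw [map_mul, map_mul, map_inv, h5, (h1.ok h2 b).conj_T' e2 e3, e4 u h1, smul_smul]; rfl⟩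

variable {u₀ : V} (H : Line F u₀) (hM : ∀ y n, S.IsN b y n → S.Mon n (F.flip b))
include hM

theorem mon (h : NN S b u α n) : S.Mon n (F.flip b) := h.2.2.2.elim fun y h => hM y n h.1

include H in
theorem tor (h : NN S b u α n) (h' : NN S b u' α' n') : Tor S b (n * n') (α / σ α') := by
  have n1 := F.ε_ne b
  have n2 := h.2.2.1
  have n3 := h'.2.2.1
  have n4 := (map_ne_zero σ).mpr n2
  have n5 := (map_ne_zero σ).mpr n3
  refine ⟨mul_mem (h.2.2.2.elim fun _ h => h.1.mem_L) (h'.2.2.2.elim fun _ h => h.1.mem_L),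
    F.flip_flip b ▸ (h.mon hM).mul (h'.mon hM), div_ne_zero n2 n5, ?_, ?_, fun v hv => ?_⟩
  · rw [map_mul, mul_smul, h'.e, U_smul, h.f, smul_smul]; congr 1; field_simp
  · rw [map_mul, mul_smul, h'.f, U_smul, h.e, smul_smul, map_div₀, hU.invol]; congr 1; field_simp
  · rw [map_mul, mul_smul, h.π_eq, h'.π_eq, H.wT b h'.1 h'.2.1 n3 hv, U_smul,
      H.wT b h.1 h.2.1 n2 hv, smul_smul, map_div₀, hU.invol]
    congr 1; field_simp

theorem hua {γ : K} {n₁ n₂ : G} (h1 : NN S b u α n₁) (h2 : NN S b 0 γ n₂) (h : NN S b u (α + γ) n) :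
    ∃ n₃, NN S b ((-(σ α / α)) • u) (σ α * (α + γ) / γ) n₃ ∧ n = n₃ * n₁ * n₂ := by
  have f1 := h1.f
  have f2 := h2.f
  have g1 := h1.e
  have M1 := h1.mon hM
  have M12 := F.flip_flip b ▸ M1.mul (h2.mon hM)
  obtain ⟨hu, hα, n1, y1, e1, e2⟩ := h1
  obtain ⟨-, hγ, n2, y2, e3, e4⟩ := h2
  obtain ⟨-, hβ, n3, y, e5, e6⟩ := h
  have n4 := F.ε_ne b
  have n5 := (map_ne_zero σ).mpr n1
  obtain rfl : y = y1 * y2 := S.ext e5.mem.1 (mul_mem e1.mem.1 e3.mem.1) (by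
    rw [e6, map_mul, e2, e4, (hu.ok hα b).T_mul (okZ b hγ).toOk]; simp)
  obtain ⟨a1, a2, b1, b2, e7⟩ := e1.eq
  obtain ⟨a3, a4, b3, b4, e8⟩ := e3.eq
  have e9 := M1.RR (mul_mem (inv_mem b2) (inv_mem a4)) (T' := ∅) fun _ h _ => h
  rw [F.flip_n] at e9
  have e10 : n₁ * (b1⁻¹ * a3⁻¹) * n₁⁻¹ * (n₁ * n₂) = a1 * (y1 * y2) * b3 := by
    rw [e7, e8]; group
  generalize n₁ * (b1⁻¹ * a3⁻¹) * n₁⁻¹ = y3 at e9 e10
  obtain ⟨v, α', c1, c2, c3⟩ := CSt.Y_img a2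
  obtain ⟨w, δ, d1, d2, d3⟩ := CSt.Y_img e9
  have c4 := (c1.ok c2 (F.n b)).T_en
  rw [F.nn, ← c3] at c4
  have c5 : π a1 • (F.e (F.n b) + F.ε b • u + (α * F.ε b) • F.e b) = (α * F.ε b) • F.e b := by
    rw [← (hu.ok hα b).T_en, ← e2, ← f1, e7, map_mul, map_mul, mul_smul, mul_smul, S.fix_self b2.1]
  have c6 := c5
  rw [U_add, U_add, U_smul, U_smul, c4, S.fix_self a2.1, c3, (c1.ok c2 _).T_smul, hu] at c6
  have c7 := (W_ext (a := 1 - F.ε b * B u v + α * F.ε b * (α' * F.ε (F.n b))) (a' := 0)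
    (((hu.W b).smul (F.ε b)).add ((c1.W b).smul (α * F.ε b * F.ε (F.n b)))) (W_zero b)
    (c := α * F.ε b) (c' := α * F.ε b) (by
      refine Eq.trans ?_ (c6.trans (by simp))
      rw [ofSU_η, ofSU_B]; module)).2.1
  have d4 := congrArg (fun g => π g • F.e (F.n b)) e10
  simp only [map_mul, mul_smul, f2, g1, U_smul, S.fix_self b4.1, d3, (d1.ok d2 b).T_en] at d4
  rw [← mul_smul (π y1), ← map_mul, e6, (hu.ok hβ b).T_en, add_mul, add_smul, ← add_assoc, U_add, c5,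
    U_smul, c4] at d4
  obtain ⟨d5, d6, d7⟩ := W_ext (a := γ / σ α) (a' := γ * F.ε b * (α' * F.ε (F.n b)))
    ((d1.W b).smul (γ / σ α * F.ε b)) ((c1.W b).smul (γ * F.ε b * F.ε (F.n b)))
    (c := γ / σ α * δ * F.ε b) (c' := (α + γ) * F.ε b) (by
      refine Eq.trans ?_ (d4.trans ?_)
      · match_scalars <;> field_simp
      · module)
  obtain rfl : δ = σ α * (α + γ) / γ := by
    rw [← mul_right_cancel₀ n4 d7]; field_simp
  obtain rfl : w = (-(σ α / α)) • u := by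
    rw [← inv_smul_smul₀ (mul_ne_zero (div_ne_zero n2 n5) n4) w, d6,
      show u = -(α * F.ε (F.n b)) • v from smul_right_injective V n4 (by
        refine (eq_neg_of_add_eq_zero_left c7).trans ?_
        simp only; module)]
    match_scalars; field_simp
  obtain ⟨n₃, h3⟩ := exists_NN S b d1 d2 (div_ne_zero (mul_ne_zero n5 n3) n2)
  refine ⟨n₃, h3, ?_⟩
  have f3 := h3.f
  have g3 := h3.e
  obtain ⟨-, -, -, y3', e11, e12⟩ := h3
  obtain rfl := S.ext e11.mem.1 e9.1 (e12.trans d3.symm)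
  obtain ⟨a5, a6, b5, b6, e13⟩ := e11.eq
  obtain ⟨s, hs⟩ := M12.lin b
  obtain ⟨s', hs'⟩ := M12.lin (F.n b)
  refine e5.unique ⟨e5.mem, ⟨_, mul_mem a6 a2, _, mul_mem b4
    (M12.inv.RR b6 (T' := ∅) fun _ h _ => h), ?_⟩, ?_, ?_⟩
  · calc _ = a5 * (y3' * (n₁ * n₂)) * ((n₁ * n₂)⁻¹ * b5 * (n₁ * n₂)⁻¹⁻¹) := by rw [e13]; group
      _ = _ := by rw [e10]; group
  · exact ⟨_, by rw [mul_assoc, map_mul, mul_smul, hs, U_smul, Equiv.Perm.one_apply, g3, smul_smul]⟩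
  · exact ⟨_, by rw [mul_assoc, map_mul, mul_smul, hs', U_smul, Equiv.Perm.one_apply, f3, smul_smul]⟩

end NN

end Cfsg.Agent.H6
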