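import Cfsg.Agent.H6.CSU

/-! The kernel theorem for the unitary Steinberg systems. -/

set_option autoImplicit false

namespace Cfsg.Agent.H6

open OF Subgroup Frame H5

variable {K V I G : Type*} [Field K] [Fintype K] [AddCommGroup V] [Module K V] [Group G]
  {σ : K →+* K} {q : ℕ} {B : Sesq σ V} {hU : UF σ q} {hB : IsEps B 1}
  {F : Frame (ofSU hU hB) I} {π : G →* (ofSU hU hB).U} {S : CSt F π} {b : I}

namespace Tor

variable {g g' : G} {t t' : K}

theorem one : Tor S b 1 1 := ⟨one_mem _, CSt.Mon.one, one_ne_zero, by simp, by simp, by simp⟩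

theorem mul (h : Tor S b g t) (h' : Tor S b g' t') : Tor S b (g * g') (t * t') := by
  obtain ⟨a1, a2, a3, a4, a5, a6⟩ := h
  obtain ⟨b1, b2, b3, b4, b5, b6⟩ := h'
  refine ⟨mul_mem a1 b1, a2.mul b2, mul_ne_zero a3 b3, ?_, ?_, fun u hu => ?_⟩
  · rw [map_mul, mul_smul, b4, U_smul, a4, smul_smul, mul_comm]
  · rw [map_mul, mul_smul, b5, U_smul, a5, smul_smul, map_mul, mul_inv, mul_comm]
  · rw [map_mul, mul_smul, b6 u hu, U_smul, a6 u hu, smul_smul, map_mul]; congr 1; ring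

theorem inv (h : Tor S b g t) : Tor S b g⁻¹ t⁻¹ := by
  obtain ⟨a1, a2, a3, a4, a5, a6⟩ := h
  have a7 := (map_ne_zero σ).mpr a3
  refine ⟨inv_mem a1, a2.inv, inv_ne_zero a3, ?_, ?_, fun u hu => ?_⟩
  · rw [map_inv, inv_smul_of_line a3 a4]
  · rw [map_inv, inv_smul_of_line (inv_ne_zero a7) a5, map_inv₀]
  · rw [map_inv, inv_smul_of_line (div_ne_zero a7 a3) (a6 u hu), map_inv₀]; congr 1; field_simp

theorem pow (h : Tor S b g t) (n : ℕ) : Tor S b (g ^ n) (t ^ n) := by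
  induction n with
  | zero => simpa using one
  | succ n ih => simpa [pow_succ] using ih.mul h

theorem central (h : Tor S b g 1) {l : G} (hl : l ∈ S.L {b, F.n b}) : Commute g l := by
  obtain ⟨-, a2, -, a4, a5, a6⟩ := h
  simp only [map_one, inv_one, one_smul, div_one] at a4 a5 a6
  refine (closure_le (centralizer {g})).mpr ?_ hl g rfl
  rintro y ⟨k, hk, hy⟩ _ rfl
  obtain ⟨u, α, h1, h2, h3⟩ := CSt.Y_img (CSt.Y_of_pair hk hy)
  refine mul_inv_eq_iff_eq_mul.mp (S.ext (a2.conj k y hy.1) hy.1 ?_)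
  rw [map_mul, map_mul, map_inv, h3, (h1.ok h2 k).conj_T, a6 u h1]
  rcases hk with rfl | rfl
  exacts [by rw [a4], by rw [a5]]

end Tor

variable {u₀ : V} (H : Line F u₀) (hM : ∀ y n, S.IsN b y n → S.Mon n (F.flip b))
include H hM

theorem exists_tor {t : K} (ht : t ≠ 0) : ∃ g, Tor S b g t := by
  obtain ⟨u, h1, h2⟩ := H.ex t
  obtain ⟨v, h3, h4⟩ := H.ex 1
  obtain ⟨n, h5⟩ := exists_NN S b h1 h2 ht
  obtain ⟨n', h6⟩ := exists_NN S b h3 h4 one_ne_zero
  exact ⟨_, by simpa using NN.tor H hM h5 h6⟩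

theorem Tor.commute {g g' : G} {t t' : K} (h : Tor S b g t) (h' : Tor S b g' t') :
    Commute g g' := by
  obtain ⟨ζ, hζ⟩ := IsCyclic.exists_monoid_generator (α := Kˣ)
  obtain ⟨z, hz⟩ := exists_tor H hM ζ.ne_zero
  have key : ∀ {g t}, Tor S b g t → ∃ (c : G) (n : ℕ), Tor S b c 1 ∧ g = c * z ^ n := fun {g t} h => by
    obtain ⟨n, hn⟩ := hζ (Units.mk0 t h.2.2.1)
    have h1 := h.mul (hz.pow n).inv
    rw [show (ζ : K) ^ n = t by simpa using congrArg Units.val hn, mul_inv_cancel₀ h.2.2.1] at h1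
    exact ⟨_, n, h1, by simp⟩
  obtain ⟨c, n, h1, e⟩ := key h
  obtain ⟨c', n', h2, rfl⟩ := key h'
  refine ((h2.central h.1).symm.mul_right ?_)
  rw [e]
  exact (h1.central (hz.pow n').1).mul_left (Commute.pow_pow_self _ _ _)

theorem NN.rev {u u' u'' : V} {α α' α'' : K} {a c d : G} (h : NN S b u α a) (h' : NN S b u' α' c)
    (h'' : NN S b u'' α'' d) : a * c * d = d * c * a := by
  have := ((h.tor H hM h').commute H hM (h''.tor H hM h')).eq
  rw [← mul_assoc, ← mul_assoc] at this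
  exact mul_right_cancel this

theorem NN.cube {u : V} {α x : K} {n : G} (h : NN S b u α n) (hx : x * σ x = 1) :
    NN S b (x ^ 3 • u) α n := by
  obtain ⟨α₀, h0, h1⟩ := hU.exists_trace_zero
  obtain ⟨n₀, h2⟩ := exists_NN S b V0_zero' ((ofSU_Λ0 _).mpr h1) h0
  have hx0 : σ x ≠ 0 := right_ne_zero_of_mul_eq_one hx
  obtain ⟨g, hg⟩ := exists_tor H hM hx0
  have h3 := h2.conj hg
  have h4 := h.conj hg
  rw [hU.invol, mul_comm (σ x), hx, one_mul] at h3 h4
  rw [smul_zero] at h3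
  have h5 := (hg.commute H hM (h.tor H hM h2.inv)).eq
  rw [show x * (x / σ x) = x ^ 3 by field_simp; linear_combination (-x ^ 2) * hx,
    show g * n * g⁻¹ = n from calc
      _ = g * (n * n₀⁻¹) * g⁻¹ * (g * n₀ * g⁻¹) := by group
      _ = _ := by rw [h5, h3.unique h2]; group] at h4
  exact h4

theorem NN.sq_aux {u : V} {δ x : K} {n : G} (h : NN S b u δ n) (hx : x * σ x = 1) (h1 : x ≠ 1)
    (h2 : x * σ δ ≠ -δ) (hτ : δ + σ δ ≠ 0) : NN S b (σ x ^ 2 • u) δ n := by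
  have hx0 : x ≠ 0 := left_ne_zero_of_mul_eq_one hx
  have n1 : 1 - x ≠ 0 := sub_ne_zero.mpr h1.symm
  obtain ⟨α, hα⟩ : ∃ α, α = (δ + σ δ) / (1 - x) := ⟨_, rfl⟩
  have e0 : σ x = x⁻¹ := eq_inv_of_mul_eq_one_right hx
  have e1 : σ α = -(x * α) := by
    have : x - 1 ≠ 0 := sub_ne_zero.mpr h1
    rw [hα, map_div₀, map_add, map_sub, hU.invol, e0, map_one]; field_simp; ring
  have e2 : α + σ α = δ + σ δ := by rw [e1, hα]; field_simp; ring
  have n2 : α ≠ 0 := hα ▸ div_ne_zero hτ n1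
  have n3 : δ - σ α ≠ 0 := fun e => h2 (by
    have := congrArg σ e
    rw [map_sub, hU.invol, map_zero] at this
    linear_combination x * this + e1 + e)
  obtain ⟨γ, hγ⟩ : ∃ γ, γ = α * σ α / (δ - σ α) := ⟨_, rfl⟩
  have n4 : γ ≠ 0 := hγ ▸ div_ne_zero (mul_ne_zero n2 ((map_ne_zero σ).mpr n2)) n3
  have e3 : σ γ = -γ := by
    rw [hγ, map_div₀, hU.norm_fixed, show σ (δ - σ α) = -(δ - σ α) by
      rw [map_sub, hU.invol]; linear_combination -e2, div_neg]
  have e4 : σ α * (α + γ) / γ = δ := by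
    rw [div_eq_iff n4]
    rw [eq_div_iff n3] at hγ
    linear_combination -hγ
  have n5 : α + γ ≠ 0 := fun e => h.2.2.1 (by rw [← e4, e, mul_zero, zero_div])
  have l1 : ∀ c, c + σ c = δ + σ δ → (ofSU hU hB).Λ (σ x • u) c := fun c hc => by
    have := h.2.1
    simp only [ofSU_Λ, map_smulₛₗ, LinearMap.smul_apply, smul_eq_mul, RingHom.id_apply,
      hU.invol] at this ⊢
    linear_combination this + hc + B u u * hx
  obtain ⟨a, ha⟩ := exists_NN S b (V0_smul' h.1 _) (l1 α e2) n2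
  obtain ⟨c, hc⟩ := exists_NN S b V0_zero' ((ofSU_Λ0 _).mpr e3) n4
  obtain ⟨d, hd⟩ := exists_NN S b (V0_smul' h.1 _) (l1 (α + γ) (by
    rw [map_add]; linear_combination e2 + e3)) n5
  obtain ⟨m, hm, em⟩ := NN.hua hM ha hc hd
  obtain ⟨m', hm', em'⟩ := NN.hua hM ha.inv (neg_zero (G := V) ▸ hc.inv) (map_add σ α γ ▸ hd.inv)
  rw [e4, smul_smul, show -(σ α / α) * σ x = 1 by rw [e1, e0]; field_simp, one_smul] at hm
  obtain rfl := hm.unique h
  have h3 := hm'.inv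
  rw [← map_add, ← map_div₀ σ (σ α), ← map_mul, ← map_div₀, hU.invol, e4, smul_neg, neg_neg, smul_smul,
    show -σ (σ α / α) * σ x = σ x ^ 2 by rw [e1, ← map_neg]; congr 1; field_simp] at h3
  rwa [show m'⁻¹ = m by
    have := NN.rev H hM hm ha hc
    rw [← em, ← inv_inj, em'] at this
    rw [mul_inv_eq_iff_eq_mul.mp (mul_inv_eq_iff_eq_mul.mp this)]; group] at h3

theorem NN.indep {u u' : V} {α : K} {n n' : G} (h : NN S b u α n) (h' : NN S b u' α n') :
    n = n' := by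
  obtain ⟨c, hc⟩ := H.span u h.1
  obtain ⟨c', hc'⟩ := H.span u' h'.1
  have h1 := h.2.1
  have h2 := h'.2.1
  simp only [hc, hc', ofSU_Λ, map_smulₛₗ, LinearMap.smul_apply, smul_eq_mul, RingHom.id_apply,
    H.one, mul_one] at h1 h2
  by_cases h0 : c = 0
  · have : c' = 0 := by
      have : σ c' * c' = 0 := by rw [h0] at h1; linear_combination h2 - h1
      simpa using this
    rw [hc, h0] at h
    rw [hc', this] at h'
    exact h.unique h'
  have n1 := (map_ne_zero σ).mpr h0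
  obtain ⟨x, hx⟩ : ∃ x, x = c' / c := ⟨_, rfl⟩
  have e1 : x * σ x = 1 := by rw [hx, map_div₀]; field_simp; linear_combination h2 - h1
  have e0 : σ x * σ (σ x) = 1 := by rw [hU.invol, mul_comm, e1]
  have hτ : α + σ α ≠ 0 := fun e => mul_ne_zero n1 h0 (by linear_combination h1 - e)
  have h3 : NN S b (σ x ^ 2 • u) α n := by
    by_cases e2 : x ^ 2 = 1
    · rwa [← map_pow, e2, map_one, one_smul]
    have e3 : x ≠ 1 := fun e => e2 (by rw [e, one_pow])
    by_cases e4 : x * σ α = -α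
    swap
    · exact h.sq_aux H hM e1 e3 e4 hτ
    obtain ⟨m, hm⟩ := exists_NN S b (V0_smul' h.1 (σ x ^ 2)) (α := α) (by
      simp only [hc, ofSU_Λ, map_smulₛₗ, LinearMap.smul_apply, smul_eq_mul, RingHom.id_apply,
        H.one, mul_one, map_pow, hU.invol]
      linear_combination h1 + σ c * c * (x * σ x + 1) * e1) h.2.2.1
    have h4 := hm.sq_aux H hM e0 (fun e => e3 (by rw [← hU.invol x, e, map_one])) (fun e => e2 ?_) hτ
    · rw [hU.invol, smul_smul, ← mul_pow, e1, one_pow, one_smul] at h4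
      rwa [h.unique h4]
    · have := mul_right_cancel₀ ((map_ne_zero σ).mpr h.2.2.1) (e4.trans e.symm)
      rw [sq]; nth_rw 2 [this]; exact e1
  have h4 := h3.cube H hM e1
  rw [smul_smul, show x ^ 3 * σ x ^ 2 = x by linear_combination x * (x * σ x + 1) * e1, hc, smul_smul,
    hx, div_mul_cancel₀ _ h0, ← hc'] at h4
  exact h4.unique h'

theorem exists_theta : ∃ θ : K → G, (∀ t, t ≠ 0 → Tor S b (θ t) t) ∧
    (∀ s t, s ≠ 0 → t ≠ 0 → θ (s * t) = θ s * θ t) ∧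
    ∀ y n y' n', S.IsN b y n → S.IsN b y' n' → ∃ t, t ≠ 0 ∧ n * n' = θ t := by
  obtain ⟨α₀, h0, h1⟩ := hU.exists_trace_zero
  have : ∀ t : K, ∃ n, t ≠ 0 → ∀ u, F.V0 u → (ofSU hU hB).Λ u (t * α₀) → NN S b u (t * α₀) n :=
    fun t => by
      by_cases ht : t = 0
      · exact ⟨1, fun h => absurd ht h⟩
      obtain ⟨u, e1, e2⟩ := H.ex (t * α₀)
      obtain ⟨n, hn⟩ := exists_NN S b e1 e2 (mul_ne_zero ht h0)
      refine ⟨n, fun _ v e3 e4 => ?_⟩
      obtain ⟨n', hn'⟩ := exists_NN S b e3 e4 (mul_ne_zero ht h0)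
      rwa [hn.indep H hM hn']
  choose ν hν using this
  have ex : ∀ t, t ≠ 0 → ∃ u, NN S b u (t * α₀) (ν t) := fun t ht =>
    (H.ex (t * α₀)).imp fun u h => hν t ht u h.1 h.2
  have un : ∀ {u t n}, NN S b u (t * α₀) n → n = ν t := fun h =>
    h.unique (hν _ (left_ne_zero_of_mul h.2.2.1) _ h.1 h.2.1)
  have iv : ∀ t, t ≠ 0 → ν (-σ t) = (ν t)⁻¹ := fun t ht => by
    obtain ⟨u, hu⟩ := ex t ht
    exact (un (by simpa [h1] using hu.inv)).symm
  have tor : ∀ s t, s ≠ 0 → t ≠ 0 → Tor S b (ν s * (ν t)⁻¹) (s / t) := fun s t hs ht => by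
    obtain ⟨u, hu⟩ := ex s hs
    obtain ⟨v, hv⟩ := ex t ht
    simpa [hU.invol, mul_div_mul_right _ _ h0] using hu.tor H hM hv.inv
  let θ : K → G := fun t => ν t * (ν 1)⁻¹
  have tθ : ∀ t, t ≠ 0 → Tor S b (θ t) t := fun t ht => by simpa using tor t 1 ht one_ne_zero
  have cm : ∀ s t, s ≠ 0 → t ≠ 0 → θ s * θ t = θ t * θ s := fun s t hs ht =>
    (tθ s hs).commute H hM (tθ t ht)
  have m1 : ∀ r s, σ r = r → r ≠ 0 → s ≠ 0 → θ (r * s) = θ s * θ r := fun r s hr hr0 hs => by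
    obtain ⟨a, rfl⟩ := hU.norm_surj hr
    obtain ⟨g, hg⟩ := exists_tor H hM (left_ne_zero_of_mul hr0)
    have cj : ∀ t, t ≠ 0 → g * ν t * g⁻¹ = ν (a * σ a * t) := fun t ht => by
      obtain ⟨u, hu⟩ := ex t ht
      exact un (mul_assoc _ t α₀ ▸ hu.conj hg)
    have e1 := cj 1 one_ne_zero
    rw [mul_one] at e1
    simp only [θ]
    rw [← cj s hs, ← e1]
    calc _ = g * θ s * g⁻¹ * (g * ν 1 * g⁻¹ * (ν 1)⁻¹) := by simp only [θ]; group
      _ = _ := by rw [(hg.commute H hM (tθ s hs)).eq]; simp only [θ]; group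
  have m2 : ∀ s c, σ c = c → s ≠ 0 → c - σ s ≠ 0 → θ (s * (c - σ s)) = θ s * θ (c - σ s) :=
    fun s c hc hs hn => by
    have n1 := (map_ne_zero σ).mpr hs
    by_cases hc0 : c = 0
    · obtain ⟨u, hu⟩ := ex 1 one_ne_zero
      have e1 := un (t := s * σ s * 1) (mul_assoc _ 1 α₀ ▸ hu.conj (tθ s hs))
      have e2 := iv 1 one_ne_zero
      rw [map_one] at e2
      rw [hc0, zero_sub, show s * -σ s = s * σ s * 1 * -1 by ring, m1 _ _ (by simp [hU.norm_fixed])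
        (by simp [*]) (by simp)]
      simp only [θ, e2, iv s hs, ← e1]
      have := (tθ s hs).commute H hM (tθ (-1) (by simp))
      simp only [θ, e2] at this
      calc _ = (ν 1)⁻¹ * (ν 1)⁻¹ * (ν s * (ν 1)⁻¹) * ν 1 * (ν s * (ν 1)⁻¹)⁻¹ * (ν 1)⁻¹ := by group
        _ = _ := by rw [← this.eq]; group
    obtain ⟨u, hu⟩ := ex (-σ s) (neg_ne_zero.mpr n1)
    have l1 : (ofSU hU hB).Λ 0 (c * α₀) := (ofSU_Λ0 _).mpr (by simp [hc, h1])
    obtain ⟨m, hm, em⟩ := NN.hua hM hu (hν c hc0 0 V0_zero' l1) (n := ν (c - σ s)) (by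
      rw [show -σ s * α₀ + c * α₀ = (c - σ s) * α₀ by ring]
      refine hν _ hn u hu.1 ?_
      have := hu.2.1
      simp only [ofSU_Λ, map_mul, map_sub, map_neg, hc, h1] at this ⊢
      linear_combination this)
    have e1 := un (t := s * (c - σ s) / c) (n := m) (by
      convert hm using 1
      simp only [map_mul, map_neg, hU.invol, h1]; field_simp; ring)
    have e2 := m1 c _ hc hc0 (div_ne_zero (mul_ne_zero hs hn) hc0)
    rw [mul_div_cancel₀ _ hc0] at e2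
    rw [e2, cm s _ hs hn, eq_comm, ← eq_mul_inv_iff_mul_eq, mul_assoc,
      ((tθ c hc0).commute H hM (tθ s hs).inv).eq]
    simp only [θ, em, e1, iv s hs]
    group
  have mul : ∀ s t, s ≠ 0 → t ≠ 0 → θ (s * t) = θ s * θ t := fun s t hs ht => by
    by_cases e : σ s = s
    · rw [m1 s t e hs ht, cm _ _ hs ht]
    have n1 : s - σ s ≠ 0 := sub_ne_zero.mpr (Ne.symm e)
    obtain ⟨r, hr⟩ : ∃ r, r = (t - σ t) / (s - σ s) := ⟨_, rfl⟩
    have e1 : σ r = r := by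
      rw [hr, map_div₀, map_sub, map_sub, hU.invol, hU.invol, ← neg_sub t, ← neg_sub s, neg_div_neg_eq]
    by_cases h2 : r = 0
    · rw [mul_comm, m1 t s (by rw [h2] at hr; field_simp at hr; linear_combination hr) ht hs]
    have e2 : t = r * (t / r + σ s - σ s) := by field_simp; ring
    have n2 : t / r + σ s - σ s ≠ 0 := by simp [ht, h2]
    rw [e2, mul_left_comm, m1 r _ e1 h2 (mul_ne_zero hs n2), m1 r _ e1 h2 n2, m2 s _ ?_ hs n2, mul_assoc]
    rw [map_add, map_div₀, e1, hU.invol]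
    field_simp
    rw [eq_div_iff n1] at hr
    linear_combination hr
  refine ⟨θ, tθ, mul, fun y n y' n' h h' => ?_⟩
  obtain ⟨u, α, h⟩ := NN.of_isN h
  obtain ⟨u', α', h'⟩ := NN.of_isN h'.inv
  have e1 := un (t := α / α₀) (by rwa [div_mul_cancel₀ _ h0])
  have e2 := un (t := α' / α₀) (by rwa [div_mul_cancel₀ _ h0])
  have n1 := div_ne_zero h.2.2.1 h0
  have n2 := div_ne_zero h'.2.2.1 h0
  refine ⟨_, div_ne_zero n1 n2, ?_⟩
  rw [eq_comm, ← mul_left_inj (θ (α' / α₀)), ← mul _ _ (div_ne_zero n1 n2) n2, div_mul_cancel₀ _ n2]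
  simp only [θ, ← e1, ← e2]
  group

theorem su_ker_pair {g : G} (hg : g ∈ S.L {b, F.n b}) (h : π g • F.e b = F.e b)
    {d : K} (h' : π g • F.e (F.n b) = d • F.e (F.n b)) : g = 1 := by
  obtain ⟨θ, h1, h2, h3⟩ := exists_theta H hM
  have h4 : θ 1 = 1 := by simpa using h2 1 1 one_ne_zero one_ne_zero
  obtain ⟨t, ht, rfl⟩ : g ∈ (
    { carrier := {g | ∃ t, t ≠ 0 ∧ g = θ t}
      one_mem' := ⟨1, one_ne_zero, h4.symm⟩
      mul_mem' := by
        rintro _ _ ⟨s, hs, rfl⟩ ⟨t, ht, rfl⟩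
        exact ⟨_, mul_ne_zero hs ht, (h2 s t hs ht).symm⟩
      inv_mem' := by
        rintro _ ⟨s, hs, rfl⟩
        exact ⟨_, inv_ne_zero hs, inv_eq_of_mul_eq_one_right (by
          rw [← h2 _ _ hs (inv_ne_zero hs), mul_inv_cancel₀ hs, h4])⟩ } : Subgroup G) :=
    CSt.mem_of_line hM h3 hg (c := 1) (by rw [h, one_smul]) h'
  rw [F.eq_one_of_smul ((h1 t ht).2.2.2.1.symm.trans h), h4]

end Cfsg.Agent.H6
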