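import Cfsg.Agent.H6.CSU2

/-! Lifting of unitary Steinberg systems to central extensions. -/

set_option autoImplicit false

open scoped commutatorElement

namespace Cfsg.Agent.H6

open OF Subgroup Frame H5

universe u

section General

variable {K V I G G' : Type*} [Field K] [AddCommGroup V] [Module K V] [Group G] [Group G']
  {O : OF K V} {F : Frame O I} {π : G →* O.U} {π' : G' →* O.U}

/-- Steinberg systems invariant under all elements mapping frame lines to frame lines. -/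
def CSt.Inv (S : CSt F π) : Prop := ∀ (g : G) (k k' : I) (c d : K), π g • F.e k = c • F.e k' →
  π g • F.e (F.n k) = d • F.e (F.n k') → ∀ y ∈ S.R k, g * y * g⁻¹ ∈ S.R k'

theorem inv_std : F.std.Inv := fun _ _ _ _ _ h1 h2 _ => conj_mem_Q h1 h2

theorem CSt.Inv.comap {S : CSt F π} (h : S.Inv) (φ : G' →* G) (hφ : Function.Injective φ)
    (h' : ∀ k, S.R k ≤ φ.range) : (S.comap φ hφ h').Inv := fun g k k' c d h1 h2 y hy => by
  simpa [CSt.comap] using h (φ g) k k' c d h1 h2 _ hy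

theorem CSt.Inv.prod {S : CSt F π} {S' : CSt F π'} (h : S.Inv) (h' : S'.Inv) : (S.prod S').Inv :=
  fun g k k' c d h1 h2 _ hy => ⟨h _ k k' c d h1 h2 _ hy.1, h' (CSt.FP.snd g) k k' c d
    (by rw [CSt.FP.eq g]; exact h1) (by rw [CSt.FP.eq g]; exact h2) _ hy.2⟩

theorem CSt.Inv.mon {S : CSt F π} (h : S.Inv) {b : I} (y n : G) (H : S.IsN b y n) :
    S.Mon n (F.flip b) := by
  have lin : ∀ i, ∃ c : K, π n • F.e i = c • F.e (F.flip b i) := fun i => by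
    rcases cases3 (F := F) b i with rfl | rfl | hi
    · rw [F.flip_a]; exact H.lin
    · rw [F.flip_n]; exact H.lin'
    · exact ⟨1, by rw [hi.flip, CSt.L_fix (pair_symm b) H.mem_L hi.symm.notMem, one_smul]⟩
  refine ⟨lin, flip_comm b, fun k => ?_⟩
  obtain ⟨c, hc⟩ := lin k
  obtain ⟨d, hd⟩ := lin (F.n k)
  exact h n k _ c d hc (by rwa [← flip_comm])

theorem schur_inv {A : Type*} [CommGroup A] {E : Type u} [Group E] [Finite E] {j : E →* O.U}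
    (hj : Function.Injective j) (hr : j.range = F.E) (hG : commutator E = ⊤)
    (hker : ∀ (G : Type u) [Group G] (π : G →* O.U) (S : CSt F π), S.Inv → ∀ g ∈ S.L Set.univ,
      π g = 1 → g = 1)
    (hlift : ∀ (Γ : Type u) [Group Γ] (π : Γ →* O.U), PSt F π → ∃ S : CSt F π, S.Inv)
    (e : center E ≃* A) : HasSchurMultiplier (E ⧸ center E) A := by
  refine hasSchur_of (MonoidHom.id E) Function.surjective_id (by simp) hG e fun Γ _ σ h1 h2 => ?_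
  obtain ⟨S', hS'⟩ := hlift Γ (j.comp σ) ⟨fun z hz g =>
    (mem_center_iff.mp (h2 (hj (hz.trans j.map_one.symm))) g).symm, by
    rw [← hr]; rintro _ ⟨x, rfl⟩; obtain ⟨x, rfl⟩ := h1 x; exact ⟨x, rfl⟩⟩
  obtain ⟨ψ, hψ⟩ := CSt.exists_hom (S' := S') (F.std.comap_L_eq_top j hj hr) fun g hg h =>
    hker _ _ _ ((inv_std.comap _ _ _).prod hS') g hg (by simp [h])
  exact ⟨ψ, MonoidHom.ext fun g => hj (hψ.1 g)⟩

theorem tr_of_long {α : K} (h0 : α ≠ 0) (hα : O.Λ 0 α) : F.Tr := fun i j => by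
  rcases cases3 (F := F) i j with rfl | rfl | h
  · exact ⟨1, one_mem _, 1, 1, by simp, by simp⟩
  · obtain ⟨h1, h2, -⟩ := (okZ (F := F) i hα).wT_act h0
    exact ⟨_, (okZ i hα).wT_mem h0, _, _, h1, by rwa [F.nn]⟩
  · exact ⟨_, w_mem_E h 1, _, _, h.w_a one_ne_zero, h.w_na one_ne_zero⟩

theorem PSt.exists_cst_inv (P : PSt F π) (hT : F.Tr) (hD : ∀ i j, ¬ F.D i j) {b : I}
    {R : Subgroup G} (img : ∀ g ∈ R, π g ∈ F.Q b)
    (surj : ∀ {v α}, F.Ok b v α → ∃ g ∈ R, π g = O.T (F.e b) v α) (inj : ∀ g ∈ R, π g = 1 → g = 1)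
    (norm : ∀ g (c d : K), π g • F.e b = c • F.e b → π g • F.e (F.n b) = d • F.e (F.n b) →
      ∀ y ∈ R, g * y * g⁻¹ ∈ R) : ∃ S : CSt F π, S.Inv := by
  have ex : ∀ k, ∃ g, ∃ c d : K, π g • F.e k = c • F.e b ∧ π g • F.e (F.n k) = d • F.e (F.n b) :=
    fun k => by
      obtain ⟨g, hg, h⟩ := hT k b
      obtain ⟨g, rfl⟩ := P.le hg
      exact ⟨g, h⟩
  have iv : ∀ {g : G} {i j : I} {c : K}, c ≠ 0 → π g • F.e i = c • F.e j →
      π g⁻¹ • F.e j = c⁻¹ • F.e i := fun hc h => map_inv π _ ▸ inv_smul_of_line hc h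
  have ml : ∀ {g g' : G} {i j k : I} {c c' : K}, π g • F.e i = c • F.e j → π g' • F.e j = c' • F.e k →
      π (g' * g) • F.e i = (c * c') • F.e k := fun h h' => by
    rw [map_mul, mul_smul, h, U_smul, h', smul_smul]
  refine ⟨⟨fun k =>
    { carrier := {y | ∀ g (c d : K), π g • F.e k = c • F.e b →
        π g • F.e (F.n k) = d • F.e (F.n b) → g * y * g⁻¹ ∈ R}
      one_mem' := fun g _ _ _ _ => by simp
      mul_mem' := fun h h' g c d h1 h2 => by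
        simpa [mul_assoc] using mul_mem (h g c d h1 h2) (h' g c d h1 h2)
      inv_mem' := fun h g c d h1 h2 => by simpa [mul_assoc] using inv_mem (h g c d h1 h2) },
    fun {k y} hy => ?_, fun {k v α} h => ?_, fun {k y} hy e => ?_, fun _ h => absurd h (hD _ _),
    fun h => absurd h (hD _ _)⟩, fun g k k' c d h1 h2 y hy g' c' d' h3 h4 => by
      simpa [mul_assoc] using hy _ _ _ (ml h1 h3) (ml h2 h4)⟩
  all_goals
    obtain ⟨g, c, d, h1, h2⟩ := ex k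
    obtain ⟨n1, n2⟩ := line_n h1 h2
  · change π y ∈ F.Q k
    simpa [mul_assoc] using conj_mem_Q (iv n1 h1) (iv n2 h2) (img _ (hy g c d h1 h2))
  · obtain ⟨w, β, h3, h4⟩ := conj_mem_Q h1 h2 ⟨v, α, h, rfl⟩
    obtain ⟨r, h5, h6⟩ := surj h3
    exact ⟨g⁻¹ * r * g, fun g' c' d' h7 h8 => by
      simpa [mul_assoc] using norm _ _ _ (ml (iv n1 h1) h7) (ml (iv n2 h2) h8) r h5, by
      simp [h6, ← h4, mul_assoc]⟩
  · simpa using inj _ (hy g c d h1 h2) (by simp [e])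

theorem PSt.phi_of (P : PSt F π) {k : I} (hA : CenZ F π k) {d : O.U} (hd : d ∈ F.E) {t t' μ : K}
    (e1 : d • F.e k = t • F.e k) (e2 : d • F.e (F.n k) = t' • F.e (F.n k))
    (e3 : ∀ v, F.W k v → d • v = μ • v) (ht : t * O.σ t ≠ 1)
    (hc : ∀ c α, O.σ c = c → O.Λ 0 α → O.Λ 0 (c * α))
    (h : ∀ Φ : Subgroup G, (∀ g (c d : K), π g • F.e k = c • F.e k →
      π g • F.e (F.n k) = d • F.e (F.n k) → ∀ a α, O.Λ 0 α → π a = F.Z k α → ⁅g, a⁆ ∈ Φ) →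
      ∀ v w, F.W k v → F.W k w → P.κ k v w ∈ Φ) : ∃ Φ, Phi F π k Φ := by
  obtain ⟨d, rfl⟩ := P.le hd
  have n1 := sub_ne_zero.mpr ht
  have e0 : O.σ (t * O.σ t - 1) = t * O.σ t - 1 := by simp [O.σσ, mul_comm]
  have e4 : ∀ {a α}, O.Λ 0 α → π a = F.Z k α →
      O.Λ 0 ((t * O.σ t - 1) * α) ∧ π ⁅d, a⁆ = F.Z k ((t * O.σ t - 1) * α) := fun {a α} hα ha => by
    have h1 := hc _ α e0 hα
    refine ⟨h1, ?_⟩
    rw [map_commutatorElement, commutatorElement_def, ha, Z_conj hα (line_n e1 e2).1 e1,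
      mul_inv_eq_iff_eq_mul, ← Z_add k h1 hα]
    congr 1; ring
  let Φ : Subgroup G :=
    { carrier := {g | ∃ a α, O.Λ 0 α ∧ π a = F.Z k α ∧ g = ⁅d, a⁆}
      one_mem' := ⟨1, 0, Λ_zero, by simp [Z_zero], by simp⟩
      mul_mem' := by
        rintro _ _ ⟨a, α, h1, h2, rfl⟩ ⟨b, β, h3, h4, rfl⟩
        exact ⟨a * b, _, Λ0_add h1 h3, by rw [map_mul, h2, h4, Z_add k h1 h3], (comm_mul_right
          (hA h1 h2 ((e4 h3 h4).2 ▸ Z_mem_Q k (e4 h3 h4).1))).symm⟩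
      inv_mem' := by
        rintro _ ⟨a, α, h1, h2, rfl⟩
        refine ⟨a⁻¹, _, OF.neg_zero h1, by rw [map_inv, h2, Z_neg k h1],
          inv_eq_of_mul_eq_one_left ?_⟩
        rw [← comm_mul_right (hA h1 h2 ((e4 h1 h2).2 ▸ Z_mem_Q k (e4 h1 h2).1)).inv_left]; simp }
  have surj : ∀ α, O.Λ 0 α → ∃ φ ∈ Φ, π φ = F.Z k α := fun α hα => by
    have h1 := hc (t * O.σ t - 1)⁻¹ α (by rw [map_inv₀, e0]) hα
    exact ⟨_, ⟨_, _, h1, P.π_T (okZ k h1), rfl⟩, by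
      rw [(e4 h1 (P.π_T (okZ k h1))).2, mul_inv_cancel_left₀ n1]⟩
  have conj : ∀ g (c d : K), π g • F.e k = c • F.e k → π g • F.e (F.n k) = d • F.e (F.n k) →
      ∀ φ ∈ Φ, g * φ * g⁻¹ ∈ Φ := by
    rintro g c c' h1 h2 _ ⟨a, α, h3, h4, rfl⟩
    refine ⟨g * a * g⁻¹, _, by simpa using O.smul c h3, by
      rw [map_mul, map_mul, map_inv, h4, Z_conj h3 (line_n h1 h2).1 h1], ?_⟩
    rw [conjugate_commutatorElement]
    exact P.cen.comm_congr (by simp [← (commute_of_lines e1 e2 e3 h1 h2).eq]) rfl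
  refine ⟨Φ, hA, ?_, ?_, surj, conj, P.comm_mem hA (h Φ fun g c c' h1 h2 a α h3 h4 => ?_)⟩
  · rintro _ ⟨a, α, h1, h2, rfl⟩
    exact ⟨_, e4 h1 h2⟩
  · rintro _ ⟨a, α, h1, h2, rfl⟩ e
    obtain rfl : α = 0 := by
      simpa [n1] using Z_eq_one (e4 h1 h2).1 ((e4 h1 h2).2.symm.trans e)
    exact commutatorElement_eq_one_iff_commute.mpr (P.cen a (h2.trans (Z_zero k)) d).symm
  · obtain ⟨φ, h5, h6⟩ := surj α h3
    rw [P.cen.comm_congr rfl (h4.trans h6.symm)]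
    exact mul_mem (conj _ _ _ h1 h2 φ h5) (inv_mem h5)

theorem mem_of_biadd {f : K → K → G} (h1 : ∀ x x' y, f (x + x') y = f x y * f x' y)
    (h2 : ∀ x y y', f x (y + y') = f x y * f x y') (hc : ∀ x y x' y', Commute (f x y) (f x' y'))
    {Φ : Subgroup G} {r : K} (h0 : r ≠ 0) (hr : r ^ 2 + r + 1 ≠ 0)
    (h3 : ∀ x y, f (r * x) (r * y) * (f x y)⁻¹ ∈ Φ)
    (h4 : ∀ x y, f ((r + 1) * x) ((r + 1) * y) * (f x y)⁻¹ ∈ Φ) (z y : K) : f z y ∈ Φ := by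
  obtain ⟨x, rfl⟩ : ∃ x, z = r * x + r * (r * x) + x :=
    ⟨z / (r ^ 2 + r + 1), by linear_combination (-1) * mul_div_cancel₀ z hr⟩
  have e1 := h4 (r * x) y
  have e2 := h3 x y
  rw [add_mul, add_mul, one_mul, one_mul, h1, h2, h2] at e1
  rw [(hc _ _ _ _).inv_right.eq] at e2
  have := mul_mem (mul_mem (inv_mem (h3 (r * x) y)) e1) (inv_mem e2)
  simpa [h1, mul_assoc] using this

theorem Frame.Dg.mul {d d' : O.U} {μ μ' : I → K} {μ₀ μ₀' : K} (h : F.Dg d μ μ₀) (h' : F.Dg d' μ' μ₀') :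
    F.Dg (d * d') (μ * μ') (μ₀ * μ₀') :=
  ⟨fun i => by rw [mul_smul, h'.lin, U_smul, h.lin, smul_smul, mul_comm]; rfl,
    fun u hu => by rw [mul_smul, h'.v0 u hu, U_smul, h.v0 u hu, smul_smul, mul_comm]⟩

open Classical in
/-- The scalars of a torus element supported on one hyperbolic pair. -/
noncomputable def Frame.ind (F : Frame O I) (a : I) (t : K) (k : I) : K := if F.D a k then 1 else t

theorem ind_D {a k : I} (h : F.D a k) (t : K) : F.ind a t k = 1 := if_pos h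

theorem ind_not {a k : I} (h : ¬ F.D a k) (t : K) : F.ind a t k = t := if_neg h

theorem not_D_self (a : I) : ¬ F.D a a := fun h => h.1 rfl

theorem not_D_n (a : I) : ¬ F.D a (F.n a) := fun h => h.2 rfl

theorem dg_h {a b : I} (h : F.D a b) {t : K} (ht : t * O.σ t = 1) :
    F.Dg (F.std.h a b t) (F.ind a t * F.ind b t⁻¹) 1 := by
  have h0 := left_ne_zero_of_mul_eq_one ht
  have h1 := eq_inv_of_mul_eq_one_right ht
  refine ⟨fun i => ?_, fun u hu => by rw [h.h_V0 hu, one_smul]⟩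
  rcases cases5 (F := F) a b i with rfl | rfl | rfl | rfl | hi <;> rw [Pi.mul_apply]
  · rw [h.h_a h0, ind_not (not_D_self _), ind_D h.symm, mul_one]
  · rw [h.h_b h0, ind_not (not_D_self _), ind_D h, one_mul]
  · rw [h.h_na h0, ind_not (not_D_n _), ind_D h.symm.nr, mul_one, h1, inv_inv]
  · rw [h.h_nb h0, ind_not (not_D_n _), ind_D h.nr, one_mul, h1]
  · rw [h.h_D hi.1 hi.2, ind_D hi.1, ind_D hi.2, mul_one, one_smul]

end General

variable {K V I G : Type*} [Field K] [Fintype K] [AddCommGroup V] [Module K V] [Group G]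
  {σ : K →+* K} {q : ℕ} {B : Sesq σ V} {hU : UF σ q} {hB : IsEps B 1}
  {F : Frame (ofSU hU hB) I} {π : G →* (ofSU hU hB).U} {u₀ : V}

theorem su_tr : F.Tr := hU.exists_trace_zero.elim fun _ h => tr_of_long h.1 ((ofSU_Λ0 _).mpr h.2)

theorem su_nd : F.ND := hU.exists_trace_zero.elim fun _ h =>
  nd_of V0_zero' ((ofSU_Λ0 _).mpr h.2) h.1

theorem su_hc (c α : K) (hc : σ c = c) (h : (ofSU hU hB).Λ 0 α) : (ofSU hU hB).Λ 0 (c * α) := by
  rw [ofSU_Λ0] at h ⊢; rw [map_mul, hc, h, mul_neg]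

theorem su_min {α : K} (h : (ofSU hU hB).Λ 0 α) : ∃ y, α = y - 1 * σ y := by
  obtain ⟨θ, hθ⟩ := hU.exists_trace_one
  exact ⟨θ * α, by rw [map_mul, (ofSU_Λ0 _).mp h]; linear_combination -α * hθ⟩

theorem su_ker [Finite I] (S : CSt F π) {a b : I} (hab : F.D a b)
    (H : (∀ u, F.V0 u → u = 0) ∨ Line F u₀) {g : G} (hg : g ∈ S.L Set.univ) (h : π g = 1) :
    g = 1 := by
  obtain ⟨α₀, h0, h1⟩ := hU.exists_trace_zero
  have h2 := (ofSU_Λ0 (hU := hU) (hB := hB) _).mpr h1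
  rcases H with H | H
  · obtain ⟨t, ht, rfl⟩ := CSt.ker_orbit su_nd hab V0_zero' h0 h2 (fun u α hu hα _ => by
      obtain rfl := H u hu
      obtain ⟨t, ht⟩ := hU.norm_surj (c := α / α₀) (by
        rw [map_div₀, h1, (ofSU_Λ0 _).mp hα, neg_div_neg_eq])
      exact ⟨t, (smul_zero _).symm, by rw [ofSU_σ, ht, div_mul_cancel₀ _ h0]⟩) hg
      fun i => by simp [h]
    exact CSt.k_eq_one su_nd hab h0 h2 ht
  · exact su_ker_pair H (fun _ _ h => h.mon hab) (CSt.mem_L_pair su_nd hab V0_zero' h0 h2 hg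
      fun i _ => by simp [h]) (by simp [h]) (d := 1) (by simp [h])

theorem su_ker_inv (S : CSt F π) (hS : S.Inv) (b : I) (hD : ∀ i, ¬ F.D b i) (H : Line F u₀) {g : G}
    (hg : g ∈ S.L Set.univ) (h : π g = 1) : g = 1 :=
  su_ker_pair H hS.mon (CSt.L_mono (fun i _ => (cases3 b i).imp_right fun h =>
    h.resolve_right (hD i)) hg) (by simp [h]) (d := 1) (by simp [h])

theorem Line.tau (H : Line F u₀) (b : I) {t : K} (ht : t ≠ 0) : ∃ g ∈ F.E, g • F.e b = t • F.e b ∧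
    g • F.e (F.n b) = (σ t)⁻¹ • F.e (F.n b) ∧ (∀ i, F.D b i → g • F.e i = F.e i) ∧
    ∀ u, F.V0 u → g • u = (σ t / t) • u := by
  obtain ⟨g, h1, -, -, h2, h3, h4⟩ := exists_tor H (b := b) inv_std.mon ht
  exact ⟨g, CSt.L_mono (Set.subset_univ _) h1, h2, h3, fun i hi =>
    CSt.L_fix (pair_symm b) h1 hi.symm.notMem, h4⟩

theorem Line.dg_tau (H : Line F u₀) (b : I) {t : K} (ht : t * σ t = 1) :
    ∃ g ∈ F.E, F.Dg g (F.ind b t) (σ t / t) := by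
  obtain ⟨g, h1, h2, h3, h4, h5⟩ := H.tau b (left_ne_zero_of_mul_eq_one ht)
  refine ⟨g, h1, fun i => ?_, h5⟩
  rcases cases3 (F := F) b i with rfl | rfl | hi
  · rw [h2, ind_not (not_D_self _)]
  · rw [h3, ind_not (not_D_n _), eq_inv_of_mul_eq_one_right ht, inv_inv]
  · rw [h4 i hi, ind_D hi, one_smul]

theorem su_lift_four [Finite V] [Finite I] (P : PSt F π) (h2 : ∀ a, ∃ b, F.D a b) {t : K}
    (ht : t ≠ 0) (ht' : t ^ 2 ≠ 1) (hσ : σ t = t) : Nonempty (CSt F π) :=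
  hU.exists_trace_zero.elim fun _ h =>
    P.exists_cst_big su_hc ht ht' hσ h.1 ((ofSU_Λ0 _).mpr h.2) h2

theorem su_lift_five [Finite V] [Finite I] (P : PSt F π) (h2 : ∀ a, ∃ b, F.D a b)
    (h3 : Line F u₀ ∨ ∀ a b, ∃ c, F.D a c ∧ F.D b c)
    (hG : ∀ j i l, F.D j i → F.D j l → ∃ d μ μ₀, F.Good j d μ μ₀ ∧ μ i = μ₀ ∧ μ l = μ₀) :
    Nonempty (CSt F π) := by
  obtain ⟨α₀, h0, h1⟩ := hU.exists_trace_zero
  have h4 := (ofSU_Λ0 (hU := hU) (hB := hB) _).mpr h1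
  refine P.exists_cst_min (fun α => su_min) (fun y hy => ?_) h0 h4 (Or.inl fun k j _ => ?_) h2 hG
  · rw [ofSU_η, one_mul, ofSU_σ] at hy
    obtain ⟨s, hs⟩ := su_min (hU := hU) (hB := hB) (α := y / α₀) ((ofSU_Λ0 _).mpr (by
      rw [map_div₀, h1, ← hy, div_neg]))
    exact ⟨s, α₀, h4, by rw [ofSU_σ, ofSU_σ, h1]; field_simp at hs; linear_combination hs⟩
  rcases h3 with H | h3
  · exact ⟨u₀, u₀, H.v0.W k, H.v0.W j, H.v0.W k, H.v0.W j, by rw [ofSU_B, H.one]; exact one_ne_zero⟩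
  · obtain ⟨c, hk, hj⟩ := h3 k j
    exact ⟨_, _, hk.W, hj.W, hk.nr.W, hj.nr.W, F.pair c⟩

theorem su_good_big {t : K} (ht : t ≠ 0) (ht' : t ≠ 1) (hσ : σ t = t) (j i l : I) (hi : F.D j i)
    (hl : F.D j l) : ∃ d μ μ₀, F.Good j d μ μ₀ ∧ μ i = μ₀ ∧ μ l = μ₀ := by
  obtain ⟨α₀, h0, h1⟩ := hU.exists_trace_zero
  have h4 := (ofSU_Λ0 (hU := hU) (hB := hB) _).mpr h1
  obtain ⟨d, μ, h, h'⟩ := exists_good_torus (F := F) j h4 h0 ht ht' (su_hc t _ hσ h4)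
  exact ⟨d, μ, 1, h, h' i hi, h' l hl⟩

theorem su_good_two {t : K} (h1 : t * σ t = 1) (h2 : t ≠ 1) (h3 : t ^ 3 = 1) (j i l : I)
    (hi : F.D j i) (hl : F.D j l) (h : (∃ c, F.D j c ∧ F.D i c ∧ F.D l c) ∨ (Line F u₀ ∧
      ((∀ k, F.D j k → ¬ F.D i k) ∨ ∃ c, F.D j c ∧ F.D i c ∧ ∀ k, F.D j k → F.D i k → ¬ F.D c k))) :
    ∃ d μ μ₀, F.Good j d μ μ₀ ∧ μ i = μ₀ ∧ μ l = μ₀ := by
  have h0 := left_ne_zero_of_mul_eq_one h1
  have h4 := eq_inv_of_mul_eq_one_right h1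
  have h5 : t⁻¹ = t ^ 2 := by field_simp; exact h3.symm
  have h6 : σ t / t = t := by rw [h4, h5]; field_simp
  have h7 : t ^ 2 ≠ 1 := fun e => h2 (by rw [← h3, pow_succ, e, one_mul])
  have h8 : t⁻¹ * σ t⁻¹ = 1 := by rw [map_inv₀, ← mul_inv, h1, inv_one]
  rcases h with ⟨c, c1, c2, c3⟩ | ⟨H, h⟩
  · have e1 : (F.ind j t⁻¹ * F.ind c t⁻¹⁻¹) j = t⁻¹ := by
      rw [Pi.mul_apply, ind_not (not_D_self _), ind_D c1.symm, mul_one]
    have e2 : ∀ k, F.D j k → (F.ind j t⁻¹ * F.ind c t⁻¹⁻¹) k = F.ind c t k := fun k hk => by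
      rw [Pi.mul_apply, ind_D hk, one_mul, inv_inv]
    refine ⟨_, _, 1, ⟨dg_h c1 h8, h_mem_E c1 _, fun k hk => ?_, fun k hk => ?_, ?_⟩, ?_, ?_⟩
    · rw [e1, e2 k hk, ofSU_σ, map_inv₀, h4, inv_inv]
      by_cases e : F.D c k
      · rwa [ind_D e, mul_one]
      · rwa [ind_not e, ← sq]
    · rw [e2 k hk]
      by_cases e : F.D c k
      · simp [ind_D e]
      · rw [ind_not e]; exact h1
    · rwa [e1, ofSU_σ, map_inv₀, h4, inv_inv, mul_one]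
    · rw [e2 i hi, ind_D c2.symm]
    · rw [e2 l hl, ind_D c3.symm]
  suffices ∃ d μ, d ∈ F.E ∧ F.Dg d μ t ∧ σ (μ j) * t ≠ 1 ∧ ∀ k, F.D j k → μ k = t by
    obtain ⟨d, μ, e1, e2, e3, e4⟩ := this
    exact ⟨d, μ, t, ⟨e2, e1, fun k hk => by rw [e4 k hk]; exact e3,
      fun k hk => by rw [e4 k hk]; exact h1, e3⟩, e4 i hi, e4 l hl⟩
  rcases h with h | ⟨c, c1, c2, h⟩
  · obtain ⟨d, e1, e2⟩ := H.dg_tau i h1
    rw [h6] at e2
    exact ⟨d, _, e1, e2, by rwa [ind_D hi.symm, map_one, one_mul],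
      fun k hk => ind_not (h k hk) t⟩
  · obtain ⟨d, e1, e2⟩ := H.dg_tau c h1
    have e3 := e2.mul (dg_h hi.symm h1)
    rw [h6, mul_one] at e3
    refine ⟨_, _, mul_mem e1 (h_mem_E hi.symm t), e3, ?_, fun k hk => ?_⟩
    · rwa [Pi.mul_apply, Pi.mul_apply, ind_D c1.symm, ind_D hi.symm, ind_not (not_D_self _), one_mul,
        one_mul, map_inv₀, h4, inv_inv, ← sq]
    rw [Pi.mul_apply, Pi.mul_apply, ind_D hk, mul_one]
    by_cases e : F.D i k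
    · rw [ind_D e, ind_not (h k hk e), mul_one]
    · rw [ind_not e, ind_D, one_mul]
      rcases cases3 (F := F) i k with rfl | rfl | e'
      exacts [c2.symm, c2.symm.nr, absurd e' e]

theorem su_lift_three [Finite V] (P : PSt F π) (H : Line F u₀) (hD : ∀ i j, ¬ F.D i j) (b : I)
    {t : K} (h1 : t * σ t = 1) (h2 : t ^ 3 ≠ 1) {c : K} (hc : σ c = c) (hc0 : c ≠ 0) (hc1 : c ≠ 1)
    {r : K} (h3 : ∃ s, s ≠ 0 ∧ r = σ s * (σ s / s)) (h4 : ∃ s, s ≠ 0 ∧ r + 1 = σ s * (σ s / s))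
    (h5 : r ^ 2 + r + 1 ≠ 0) : ∃ S : CSt F π, S.Inv := by
  have W0 : ∀ {v}, F.W b v → F.V0 v := fun h i => by
    rcases cases3 (F := F) b i with rfl | rfl | hi
    exacts [h.1, h.2, absurd hi (hD _ _)]
  have h0 := left_ne_zero_of_mul_eq_one h1
  obtain ⟨d, hd, e1, e2, -, e3⟩ := H.tau b h0
  obtain ⟨d, rfl⟩ := P.le hd
  have fpf : ∀ v, F.W b v → (ofSU hU hB).σ t • π d • v = v → v = 0 := fun v hv e => by
    rw [e3 v (W0 hv), smul_smul, ← sub_eq_zero, ← one_smul K v, smul_smul, ← sub_smul,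
      smul_eq_zero, ofSU_σ, eq_inv_of_mul_eq_one_right h1, mul_one, sub_eq_zero] at e
    exact e.resolve_left fun e => h2 (by field_simp at e; exact e.symm)
  have hA : CenZ F π b := fun {α a x} hα ha ⟨v, β, hv, hx⟩ => by
    have lc : ∀ {g g'}, g ∈ F.E → g' ∈ F.Q b → Commute (F.Z b α) g → ⁅g, g'⁆ ∈ P.cen.sub (F.Z b α) :=
      fun h h' h'' => ⟨P.le (mul_mem (mul_mem (mul_mem h (F.Q_le_E b h')) (inv_mem h))
        (inv_mem (F.Q_le_E b h'))), P.cen.lc_comm (P.le h) (P.le (F.Q_le_E b h')) h''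
        (Z_commute hα (Q_fix h'))⟩
    obtain ⟨s, rfl⟩ := H.span v (W0 hv.W)
    have n1 : σ t * (σ t / t) - 1 ≠ 0 := fun e => by
      have := fpf u₀ (H.v0.W b) (by rw [e3 _ H.v0, smul_smul, ofSU_σ, sub_eq_zero.mp e, one_smul])
      simpa [this] using H.one
    have h6 := V0_smul' H.v0 (s / (σ t * (σ t / t) - 1))
    obtain ⟨γ, hγ⟩ := (ofSU hU hB).ex ((s / (σ t * (σ t / t) - 1)) • u₀)
    obtain ⟨δ, e4, e5⟩ := Phi.π_comm e1 e2 (h6.ok hγ b) (P.π_T (h6.ok hγ b))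
    rw [e3 _ h6, ofSU_σ, show σ t • (σ t / t) • (s / (σ t * (σ t / t) - 1)) • u₀ -
      (s / (σ t * (σ t / t) - 1)) • u₀ = s • u₀ by
        rw [smul_smul, smul_smul, ← sub_smul, ← sub_one_mul, mul_div_cancel₀ _ n1]] at e4 e5
    obtain ⟨e6, e7⟩ := hv.T_eq e4
    obtain ⟨y, hy⟩ := su_min e6
    obtain ⟨γ1, f1⟩ := (ofSU hU hB).ex u₀
    obtain ⟨γ2, f2⟩ := (ofSU hU hB).ex (y • u₀)
    have f3 := H.v0.ok f1 b
    have f4 := (V0_smul' H.v0 y).ok f2 b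
    have f5 := lc f4.mem_E ⟨_, _, f3, rfl⟩ (Z_commute hα (Q_fix ⟨_, _, f4, rfl⟩))
    rw [f4.comm_T f3] at f5
    simp only [ofSU_B, ofSU_η, map_smulₛₗ, LinearMap.smul_apply, H.one, smul_eq_mul, mul_one,
      RingHom.id_apply, one_mul y, ofSU_σ, ← hy] at f5
    have f6 := lc hd ⟨_, _, h6.ok hγ b, rfl⟩ (Commute.symm (mul_inv_eq_iff_eq_mul.mp (by
      rw [Z_conj hα h0 e1, ofSU_σ, h1, one_mul])))
    rw [← P.π_T (h6.ok hγ b), ← map_commutatorElement, e5] at f6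
    exact (mul_mem f6 f5).2 a x ha (hx.trans e7)
  obtain ⟨t₀, rfl⟩ := hU.norm_surj hc
  obtain ⟨d₀, hd₀, f1, f2, -, f3⟩ := H.tau b (left_ne_zero_of_mul hc0)
  obtain ⟨Φ, HΦ⟩ := P.phi_of hA hd₀ f1 f2 (fun v hv => f3 v (W0 hv)) hc1 su_hc fun Φ hΦ v w hv hw => by
    have W1 : ∀ x : K, F.W b (x • u₀) := fun x => (H.v0.W b).smul x
    have key : ∀ r, (∃ s, s ≠ 0 ∧ r = σ s * (σ s / s)) → ∀ x y : K,
        P.κ b ((r * x) • u₀) ((r * y) • u₀) * (P.κ b (x • u₀) (y • u₀))⁻¹ ∈ Φ := by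
      rintro _ ⟨s, hs, rfl⟩ x y
      obtain ⟨g, hg, g1, g2, -, g3⟩ := H.tau b hs
      obtain ⟨g, rfl⟩ := P.le hg
      have := hΦ g _ _ g1 g2 _ _ (Λ0_comm _ _) (P.π_κ (W1 x) (W1 y))
      rwa [commutatorElement_def, P.κ_conj hA g1 g2 (W1 x) (W1 y), g3 _ (V0_smul' H.v0 x),
        g3 _ (V0_smul' H.v0 y), smul_smul, smul_smul, smul_smul, smul_smul] at this
    obtain ⟨x, rfl⟩ := H.span v (W0 hv)
    obtain ⟨y, rfl⟩ := H.span w (W0 hw)
    exact mem_of_biadd (f := fun x y => P.κ b (x • u₀) (y • u₀))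
      (fun x x' y => by simp only [add_smul, P.κ_add_left hA (W1 _) (W1 _) (W1 _)])
      (fun x y y' => by simp only [add_smul, P.κ_add_right hA (W1 _) (W1 _) (W1 _)])
      (fun _ _ _ _ => P.κ_comm hA (W1 _) (W1 _) (W1 _) (W1 _))
      (h3.elim fun s h => by simp [h.2, h.1]) h5 (key _ h3) (key _ h4) x y
  exact P.exists_cst_inv su_tr hD (R := HΦ.RD d e1 e2) (fun _ => HΦ.RD_img) (HΦ.RD_surj fpf P.le)
    (fun _ => HΦ.RD_inj P.cen fpf) fun g c c' g1 g2 y =>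
    HΦ.RD_conj P.cen g1 g2 (commute_of_lines e1 e2 (fun v hv => e3 v (W0 hv)) g1 g2).symm

end Cfsg.Agent.H6
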