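import Cfsg.Agent.H6.CSU3

/-! The Schur multipliers of the unitary groups. -/

set_option autoImplicit false

open scoped commutatorElement

namespace Cfsg.Agent.H6

open OF Subgroup Frame H5 H1 Module

universe u

section Abstract

variable {K V I : Type*} [Field K] [Fintype K] [AddCommGroup V] [Module K V]
  {σ : K →+* K} {q : ℕ} {B : Sesq σ V}

/-- The unitary group as the isometry group of the odd form space. -/
def uU (hU : UF σ q) (hB : IsEps B 1) : Isom B ≃* (ofSU hU hB).U :=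
  MulEquiv.subgroupCongr (Subgroup.ext fun g => ⟨fun h => ⟨h, fun x α => by
    rw [ofSU_Λ, ofSU_Λ, h x x]⟩, fun h => h.1⟩)

/-- The special unitary group inside the isometry group. -/
noncomputable def jB (hU : UF σ q) (hB : IsEps B 1) : SUb B →* (ofSU hU hB).U :=
  (uU hU hB).toMonoidHom.comp (SUb B).subtype

variable {hU : UF σ q} {hB : IsEps B 1} {F : Frame (ofSU hU hB) I}

theorem jB_smul (g : SUb B) (x : V) : jB hU hB g • x = suAct B g x := rfl

theorem jB_inj : Function.Injective (jB hU hB) := (uU hU hB).injective.comp Subtype.val_injective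

variable [FiniteDimensional K V]

theorem jB_ei {x e : V} {μ : K} (h : Adm B x e μ) :
    (ofSU hU hB).Ok e x (-μ) ∧ jB hU hB (ei hB x e μ) = (ofSU hU hB).T e x (-μ) := by
  have h1 : (ofSU hU hB).Ok e x (-μ) := ⟨by simp [ofSU_Λ, h.iso], h.perp, by
    rw [ofSU_Λ, map_neg]; linear_combination -h.tr⟩
  refine ⟨h1, U_ext fun z => ?_⟩
  rw [jB_smul, ei_apply hB h, h1.T_smul, ofSU_η, ofSU_B, ofSU_B]; module

theorem jB_range (a : I) : (jB hU hB).range = F.E := by
  refine le_antisymm ?_ (E_le ?_)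
  · rintro _ ⟨g, rfl⟩
    refine (su_eq_top hB hU (F.E.comap (jB hU hB)) fun x e μ h => ?_).ge (mem_top g)
    obtain ⟨h1, h2⟩ := jB_ei (hU := hU) (hB := hB) h
    rw [mem_comap, h2]
    by_cases h0 : e = 0
    · rw [show (ofSU hU hB).T e x (-μ) = 1 from U_ext fun y => by rw [h1.T_smul]; simp [h0]]
      exact one_mem _
    exact su_tr.T_mem a h1 h0
  · rintro k _ ⟨v, α, h, rfl⟩
    have h1 : Adm B v (F.e k) (-α) := ⟨F.B_ee k, h.perp, by
      rw [map_neg]; linear_combination -(ofSU_Λ _ _).mp h.mem⟩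
    exact ⟨_, by simpa using (jB_ei h1).2⟩

theorem su_perfect (h : 4 ≤ finrank K V ∨ ∃ a : K, σ a = a ∧ a ≠ 0 ∧ a ≠ 1) {k : I} {u u' : V}
    (hu : F.W k u) (hu' : F.W k u') (h0 : B u' u ≠ 0) : commutator (SUb B) = ⊤ :=
  su_eq_top_of_normal hB hU h _ fun e c he hc => mem_commutator_of_range jB_inj (jB_range k) (by
    rw [ut, (jB_ei (adm_zero he hc)).2, neg_neg]
    refine su_tr.T_mem_comm k (fun α hα => ?_) (by simp [ofSU_Λ, he]) ((ofSU_Λ0 _).mpr hc)
    obtain ⟨y, rfl⟩ := su_min hα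
    exact Z_mem_comm hu hu' h0 y)

theorem exists_suEquiv (hU : UF σ q) (hB : IsEps B 1) {n : ℕ} (hn : finrank K V = n) :
    Nonempty (SU n K q ≃* SUb B) := by
  obtain ⟨e, φ, -, -, h⟩ := hU.exists_std hB hn
  have hd : ∀ g, (φ g).1.1.det = LinearMap.det (g.1 : V →ₗ[K] V) := fun g => by
    rw [← LinearMap.det_toLin', h, LinearEquiv.conj_apply, LinearMap.comp_assoc, LinearMap.det_conj]
  let f : SU n K q →* SUb B := (φ.symm.toMonoidHom.comp (suToGU n K q)).codRestrict _ fun k =>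
    (hd _).symm.trans (by simp)
  refine ⟨MulEquiv.ofBijective f ⟨fun a b e =>
    suToGU_injective n (φ.symm.injective (congrArg Subtype.val e)), fun g => ?_⟩⟩
  obtain ⟨k, hk⟩ := exists_su_of_det (φ g.1) ((hd _).trans g.2)
  exact ⟨k, Subtype.ext (by simp [f, hk])⟩

end Abstract

variable {K : Type u} [Field K] [Fintype K] {σ : K →+* K} {q : ℕ}

theorem center_su (hU : UF σ q) {n : ℕ} (hn : 0 < n) :
    ∃ z : SU n K q, center (SU n K q) = zpowers z ∧ orderOf z = Nat.gcd n (q + 1) := by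
  obtain ⟨ζ, hζ⟩ := hU.exists_prim
  obtain ⟨e, he⟩ := Nat.gcd_dvd_right n (q + 1)
  have h1 : IsPrimitiveRoot (ζ ^ e) (Nat.gcd n (q + 1)) :=
    hζ.pow q.succ_pos (he.trans (mul_comm _ _))
  generalize ζ ^ e = ξ at h1
  have : NeZero (Nat.gcd n (q + 1)) := ⟨(Nat.gcd_pos_of_pos_left _ hn).ne'⟩
  let z := hU.mkSU (Matrix.diagonal fun _ : Fin n => ξ) (diagonal_unitary fun _ => by
    rw [hU.norm_eq, h1.pow_eq_one_iff_dvd]; exact Nat.gcd_dvd_right _ _) (by
    simpa using (h1.pow_eq_one_iff_dvd _).mpr (Nat.gcd_dvd_left _ _))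
  have hz : ∀ k : ℕ, (z ^ k).1.1 = ξ ^ k • 1 := fun k => by
    simp [z, Matrix.diagonal_pow, Matrix.smul_one_eq_diagonal]
  have i : Fin n := ⟨0, hn⟩
  refine ⟨z, le_antisymm (fun g hg => ?_) (by
    simpa using hU.mem_center_SU.mpr ⟨_, by simpa using hz 1⟩), ?_⟩
  · obtain ⟨c, hc⟩ := hU.mem_center_SU.mp hg
    have h2 := congrFun₂ (hU.su_mul g) i i
    have h3 := g.1.2
    simp [hc, Matrix.smul_one_eq_diagonal, hU.norm_eq] at h2 h3
    obtain ⟨k, -, hk⟩ := h1.eq_pow_of_pow_eq_one (pow_gcd_eq_one.mpr ⟨h3, h2⟩)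
    exact ⟨k, Subtype.ext (Subtype.ext (by simp only [zpow_natCast]; rw [hz, hk, hc]))⟩
  · rw [h1.eq_orderOf, orderOf_eq_orderOf_iff]
    refine fun k => ⟨fun h => ?_, fun h => Subtype.ext (Subtype.ext (by rw [hz, h, one_smul]; rfl))⟩
    simpa [h] using (congrFun₂ (hz k) i i).symm

/-- The hyperbolic hermitian form attached to an involution of the index set. -/
def hypU {ι : Type} [Fintype ι] (σ : K →+* K) (τ : ι → ι) : Sesq σ (ι → K) :=
  (stdU ι σ).comp (LinearMap.funLeft K K τ)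

omit [Fintype K] in
theorem hypU_apply {ι : Type} [Fintype ι] (τ : ι → ι) (x y : ι → K) :
    hypU σ τ x y = ∑ i, x (τ i) * σ (y i) := stdU_apply ι _ y

theorem isEps_hypU (hU : UF σ q) {ι : Type} [Fintype ι] {τ : ι → ι} (hτ : Function.Involutive τ) :
    IsEps (hypU σ τ) 1 where
  invol := hU.invol
  symm u v := by
    simp only [hypU_apply, map_sum, map_mul, hU.invol, one_mul]
    exact Fintype.sum_equiv hτ.toPerm _ _ fun i => by simp [hτ i, mul_comm]
  nondeg u h := funext fun i => by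
    simpa [hτ i] using congrFun ((hU.isEps_std ι).nondeg _ h) (τ i)

theorem invol_hyp (m r : ℕ) :
    Function.Involutive (Sum.map Sum.swap id : (Fin m ⊕ Fin m) ⊕ Fin r → _) := by
  rintro ((i | i) | i) <;> rfl

/-- The standard unitary frame. -/
def fSU (hU : UF σ q) (m : ℕ) {r : ℕ} (hr : r ≤ 1) :
    Frame (ofSU hU (isEps_hypU hU (invol_hyp m r))) (Fin m ⊕ Fin m) where
  n := Sum.swap
  e i := Pi.single (.inl i) 1
  nn := Sum.swap_swap
  n_ne := by rintro (i | i) <;> simp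
  sing := by rintro (i | i) <;> simp [ofSU_Λ, hypU_apply, Pi.single_apply]
  orth := by rintro (i | i) (j | j) h <;> simp_all [ofSU_B, hypU_apply, Pi.single_apply, eq_comm]
  pair := by rintro (i | i) <;> simp [ofSU_B, hypU_apply, Pi.single_apply]
  aniso u h h' := by
    have h1 : ∀ i, u (.inl i) = 0 := fun i => by
      simpa [ofSU_B, hypU_apply, Pi.single_apply] using h i.swap
    funext i
    rcases i with i | i
    · exact h1 i
    have : Subsingleton (Fin r) := Fin.subsingleton_iff_le_one.mpr hr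
    simpa [ofSU_Λ, hypU_apply, h1, Fintype.sum_subsingleton _ i] using h'

theorem fSU_V0 (hU : UF σ q) (m : ℕ) {r : ℕ} (hr : r ≤ 1) {u} (h : (fSU hU m hr).V0 u) (i) :
    u (.inl i) = 0 := by
  simpa [ofSU_B, hypU_apply, Pi.single_apply, fSU] using h i.swap

theorem fSU_line (hU : UF σ q) (m : ℕ) : Line (fSU hU m le_rfl) (Pi.single (.inr 0) 1) where
  v0 i := by simp [ofSU_B, hypU_apply, Pi.single_apply, fSU]
  one := by simp [hypU_apply, Pi.single_apply]
  span u h := ⟨u (.inr 0), funext fun i => by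
    rcases i with i | i
    · simp [fSU_V0 hU m _ h i]
    · simp [Subsingleton.elim i 0]⟩

theorem fSU_zero (hU : UF σ q) (m : ℕ) (u) (h : (fSU hU m zero_le_one).V0 u) : u = 0 :=
  funext fun i => by
    rcases i with i | i
    exacts [fSU_V0 hU m _ h i, i.elim0]

theorem exists_fixed_notMem (hU : UF σ q) (s : Finset K) (h : s.card < q) :
    ∃ a, σ a = a ∧ a ∉ s := by
  classical
  obtain ⟨a, h1, h2⟩ := Finset.exists_mem_notMem_of_card_lt_card (s := s)
    (t := Finset.univ.filter fun x => σ x = x) (by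
      rwa [← Fintype.card_subtype, ← Nat.card_eq_fintype_card, hU.card_fixed])
  exact ⟨a, by simpa using h1, h2⟩

theorem exists_fixed_ne (hU : UF σ q) (h : q ≠ 2) : ∃ a : K, σ a = a ∧ a ≠ 0 ∧ a ≠ 1 := by
  classical
  have := hU.two_le
  simpa using exists_fixed_notMem hU {0, 1} (Finset.card_le_two.trans_lt (by omega))

open Polynomial in
theorem exists_su_three (hU : UF σ q) (h : q ≠ 2) : ∃ r : K, (∃ s, s ≠ 0 ∧ r = σ s * (σ s / s)) ∧
    (∃ s, s ≠ 0 ∧ r + 1 = σ s * (σ s / s)) ∧ r ^ 2 + r + 1 ≠ 0 := by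
  classical
  have h2 := hU.two_le
  let p : K[X] := X * (X + 1) * (X ^ 2 + X + 1)
  have hp : p.Monic := by simp only [p]; monicity!
  have hs : p.roots.toFinset.card ≤ 4 := (Multiset.toFinset_card_le _).trans
    ((card_roots' _).trans (by simp only [p]; compute_degree))
  have hr : ∀ r, r ∉ p.roots.toFinset → r ≠ 0 ∧ r + 1 ≠ 0 ∧ r ^ 2 + r + 1 ≠ 0 := fun r hr => by
    simpa [hp.ne_zero, p, not_or, and_assoc] using hr
  by_cases h5 : 5 ≤ q
  · obtain ⟨r, h1, h3⟩ := exists_fixed_notMem hU _ (hs.trans_lt h5)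
    obtain ⟨e1, e2, e3⟩ := hr r h3
    exact ⟨r, ⟨r, e1, by simp [h1, e1]⟩, ⟨r + 1, e2, by simp [h1, e2]⟩, e3⟩
  have key : ∀ r : K, r ≠ 0 → ∃ s, s ≠ 0 ∧ r = σ s * (σ s / s) := fun r h0 => by
    have h1 := FiniteField.pow_card_sub_one_eq_one r h0
    rw [hU.card] at h1
    obtain rfl | rfl : q = 3 ∨ q = 4 := by omega
    · refine ⟨r ^ 5, pow_ne_zero _ h0, ?_⟩
      rw [hU.apply]; field_simp
      rw [show 24 = (3 ^ 2 - 1) * 3 from rfl, pow_mul, h1, one_pow]
    · refine ⟨r ^ 13, pow_ne_zero _ h0, ?_⟩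
      rw [hU.apply]; field_simp
      rw [show 90 = (4 ^ 2 - 1) * 6 from rfl, pow_mul, h1, one_pow]
  obtain ⟨r, -, h3⟩ := Finset.exists_mem_notMem_of_card_lt_card (s := p.roots.toFinset)
    (t := Finset.univ) (by 
      have : 3 ≤ q := by omega
      rw [Finset.card_univ, hU.card]; nlinarith)
  obtain ⟨e1, e2, e3⟩ := hr r h3
  exact ⟨r, key r e1, key _ e2, e3⟩

set_option synthInstance.maxSize 1000 in
theorem schur_su (hU : UF σ q) {m r : ℕ} (hr : r ≤ 1) (h3 : 3 ≤ 2 * m + r)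
    (h2 : q = 2 → 2 * m + r = 5 ∨ 7 ≤ 2 * m + r) (h4 : q = 3 → 2 * m + r ≠ 4) :
    HasCyclicSchurMultiplier (PSU (2 * m + r) K q) (Nat.gcd (2 * m + r) (q + 1)) := by
  have hB := isEps_hypU hU (invol_hyp m r)
  have hd : finrank K ((Fin m ⊕ Fin m) ⊕ Fin r → K) = 2 * m + r := by simp [two_mul]
  obtain ⟨f⟩ := exists_suEquiv hU hB hd
  obtain ⟨z, hz, hz'⟩ := center_su hU (n := 2 * m + r) (by omega)
  obtain ⟨e⟩ := equiv_of_zpowers hz hz'
  let F := fSU hU m hr
  let a : Fin m ⊕ Fin m := .inl ⟨0, by omega⟩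
  have hj : Function.Injective ((jB hU hB).comp f.toMonoidHom) := jB_inj.comp f.injective
  have hj' : ((jB hU hB).comp f.toMonoidHom).range = F.E := by
    rw [MonoidHom.range_comp, MonoidHom.range_eq_top.mpr f.surjective, ← MonoidHom.range_eq_map,
      jB_range a]
  have hL : r = 0 ∨ ∃ u₀, Line F u₀ := by
    obtain rfl | rfl : r = 0 ∨ r = 1 := by omega
    exacts [Or.inl rfl, Or.inr ⟨_, fSU_line hU m⟩]
  have D1 : 2 ≤ m → ∀ a, ∃ b, F.D a b := fun h a => by
    simpa using F.exists_D rfl [a] (by simp; omega)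
  have D2 : 3 ≤ m → ∀ a b, ∃ c, F.D a c ∧ F.D b c := fun h a b => by
    simpa using F.exists_D rfl [a, b] (by simp; omega)
  have hG : commutator (SU (2 * m + r) K q) = ⊤ := by
    have : commutator (SUb (hypU σ (Sum.map Sum.swap id : (Fin m ⊕ Fin m) ⊕ Fin r → _))) = ⊤ := by
      have h5 : 4 ≤ finrank K ((Fin m ⊕ Fin m) ⊕ Fin r → K) ∨ ∃ a : K, σ a = a ∧ a ≠ 0 ∧ a ≠ 1 := by
        by_cases h : q = 2
        · exact Or.inl (by have := h2 h; omega)
        · exact Or.inr (exists_fixed_ne hU h)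
      rcases hL with h | ⟨u, H⟩
      · obtain ⟨b, hb⟩ := D1 (by omega) a
        exact su_perfect h5 hb.W hb.nr.W (F.pair b)
      · exact su_perfect h5 (H.v0.W a) (H.v0.W a) (H.one ▸ one_ne_zero)
    apply map_injective (f := f.toMonoidHom) f.injective
    rw [map_commutator_eq, MonoidHom.range_eq_top.mpr f.surjective, ← commutator_def, this,
      ← MonoidHom.range_eq_map, MonoidHom.range_eq_top.mpr f.surjective]
  by_cases hm : m = 1
  · subst hm
    obtain ⟨u, H⟩ := hL.resolve_left (by omega)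
    have hq : q ≠ 2 := fun h => by have := h2 h; omega
    have hD : ∀ i j, ¬ F.D i j := by
      rintro (i | i) (j | j) <;> simp [D, F, fSU, Subsingleton.elim i j]
    obtain ⟨t, ht⟩ := hU.exists_prim
    obtain ⟨c, c1, c2, c3⟩ := exists_fixed_ne hU hq
    obtain ⟨s, s1, s2, s3⟩ := exists_su_three hU hq
    have := hU.two_le
    exact schur_inv hj hj' hG (fun G _ π S hS g hg => su_ker_inv S hS a (hD a) H hg)
      (fun Γ _ π P => su_lift_three P H hD a (t := t) (by rw [hU.norm_eq, ht.pow_eq_one])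
        (ht.pow_ne_one_of_pos_of_lt (by omega) (by omega)) c1 c2 c3 s1 s2 s3) e
  have hm : 2 ≤ m := by omega
  obtain ⟨b, hb⟩ := D1 hm a
  refine schur_self hj hj' hG (fun G _ π S g hg => ?_) (fun Γ _ π P => ?_) e
  · rcases hL with rfl | ⟨u, H⟩
    exacts [su_ker S hb (u₀ := 0) (Or.inl (fSU_zero hU m)) hg, su_ker S hb (Or.inr H) hg]
  by_cases h5 : 2 * m + r = 4
  · classical
    have := hU.two_le
    obtain ⟨t, h6, h7⟩ := exists_fixed_notMem hU {0, 1, -1} (Finset.card_le_three.trans_lt (by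
      by_contra h; obtain rfl | rfl : q = 2 ∨ q = 3 := by omega
      all_goals omega))
    simp only [Finset.mem_insert, Finset.mem_singleton, not_or] at h7
    exact su_lift_four P (D1 hm) h7.1 (by simp [h7]) h6
  obtain ⟨u, H⟩ : ∃ u, Line F u ∨ (r = 0 ∧ 3 ≤ m) := hL.elim
    (fun h => ⟨0, Or.inr ⟨h, by omega⟩⟩) fun h => h.imp fun _ => Or.inl
  refine su_lift_five P (D1 hm) (H.imp_right fun h => D2 h.2) ?_
  by_cases hq : q = 2
  swap
  · obtain ⟨t, t1, t2, t3⟩ := exists_fixed_ne hU hq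
    exact su_good_big t2 t3 t1
  subst hq
  obtain ⟨t, ht⟩ := hU.exists_prim
  refine fun j i l hi hl => su_good_two (u₀ := u) (by rw [hU.norm_eq, ht.pow_eq_one])
    (ht.ne_one (by omega)) ht.pow_eq_one j i l hi hl ?_
  by_cases h6 : 4 ≤ m
  · exact Or.inl (by simpa using F.exists_D rfl [j, i, l] (by simp; omega))
  have := h2 rfl
  refine Or.inr ⟨H.resolve_right (by omega), ?_⟩
  obtain rfl | rfl : m = 2 ∨ m = 3 := by omega
  · left; clear hl; revert j i; simp only [D, F, fSU]; decide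
  · right; clear hl; revert j i; simp only [D, F, fSU]; decide

end Cfsg.Agent.H6
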