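import Cfsg.Agent.H6.CLiftD2
import Cfsg.Agent.H6.COrth3
import Cfsg.Agent.H1.SpW

/-! Symplectic groups as odd form groups; their Schur multipliers. -/

set_option autoImplicit false

open scoped commutatorElement

namespace Cfsg.Agent.H6

open OF Subgroup Frame H5

universe u

section General

variable {K V I : Type*} [Field K] [AddCommGroup V] [Module K V] {O : OF K V} {F : Frame O I}

theorem schur_self {A : Type*} [CommGroup A] {E : Type u} [Group E] [Finite E] {j : E →* O.U}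
    (hj : Function.Injective j) (hr : j.range = F.E) (hG : commutator E = ⊤)
    (hker : ∀ (G : Type u) [Group G] (π : G →* O.U) (S : CSt F π), ∀ g ∈ S.L Set.univ,
      π g = 1 → g = 1)
    (hlift : ∀ (Γ : Type u) [Group Γ] (π : Γ →* O.U), PSt F π → Nonempty (CSt F π))
    (e : center E ≃* A) : HasSchurMultiplier (E ⧸ center E) A :=
  schur_of_cst (F := F) (p := MonoidHom.id E) hj hr Function.surjective_id (by simp) hG _
    (F.std.comap_L_eq_top j hj hr) (fun G _ π S φ hφ g hg h => hker G π S g hg (by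
      rw [← hφ.comp, h, map_one])) hlift e

theorem Frame.Tr.T_mem_comm (hT : F.Tr) (k : I) (h : ∀ α, O.Λ 0 α → F.Z k α ∈ ⁅F.E, F.E⁆) {x : V}
    (hx : O.Λ x 0) {α : K} (hα : O.Λ 0 α) : O.T x 0 α ∈ ⁅F.E, F.E⁆ := by
  have h1 : O.Ok x 0 α := ⟨hx, by simp, hα⟩
  by_cases h0 : x = 0
  · rw [show O.T x 0 α = 1 from U_ext fun y => by rw [h1.T_smul]; simp [h0]]; exact one_mem _
  obtain ⟨g, hg, c, hc, h2⟩ := hT.exists_smul hx h0 k
  have := hT.normal
  have h3 := (inferInstance : ⁅F.E, F.E⁆.Normal).conj_mem _ (h _ (by simpa using O.smul c hα)) g⁻¹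
  rw [Z, ← smul_zero (O.σ c), ← U_zero g, ← h1.conj_T' hc h2] at h3
  simpa [mul_assoc] using h3

theorem Z_mem_comm {k : I} {u u' : V} (hu : F.W k u) (hu' : F.W k u') (h0 : O.B u' u ≠ 0) (y : K) :
    F.Z k (y - O.η * O.σ y) ∈ ⁅F.E, F.E⁆ := by
  obtain ⟨γ, e1⟩ := O.ex u
  obtain ⟨γ', e2⟩ := O.ex ((O.η * y / O.B u' u) • u')
  have e3 := (hu'.smul _).ok e2
  have := commutator_mem_commutator e3.mem_E (hu.ok e1).mem_E
  rwa [e3.comm_T (hu.ok e1), O.herm _ u, show O.B ((O.η * y / O.B u' u) • u') u = O.η * y by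
    simp [h0], map_mul, O.ση, ← mul_assoc, ← mul_assoc, O.ηη, one_mul, one_mul] at this

theorem mem_commutator_of_range {E : Type*} [Group E] {j : E →* O.U} (hj : Function.Injective j)
    (hr : j.range = F.E) {x : E} (h : j x ∈ ⁅F.E, F.E⁆) : x ∈ commutator E := by
  rw [← hr, ← map_commutator_eq] at h
  exact (mem_map_iff_mem hj).mp h

end General

variable {K V I G : Type*} [Field K] [AddCommGroup V] [Module K V] [Group G]

/-- The odd form space of an alternating form. -/
def ofSp {B : Bil K V} (hB : IsSp B) : OF K V where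
  σ := RingHom.id K
  B := B
  η := -1
  Λ _ _ := True
  σσ _ := rfl
  ηη := by simp
  ση := rfl
  herm u v := by simp [hB.skew u]
  max _ := by simp [hB.alt]
  add _ _ := trivial
  smul _ _ := trivial
  min _ := trivial
  ex _ := ⟨0, trivial⟩

variable {B : Bil K V} {hB : IsSp B}

theorem ofSp_σ (x : K) : (ofSp hB).σ x = x := rfl

theorem ofSp_η : (ofSp hB).η = -1 := rfl

theorem ofSp_B (x y : V) : (ofSp hB).B x y = B x y := rfl

/-- The symplectic group as the isometry group of the odd form space. -/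
def spU (hB : IsSp B) : Isom B ≃* (ofSp hB).U :=
  MulEquiv.subgroupCongr (Subgroup.ext fun _ => ⟨fun h => ⟨h, fun _ _ => Iff.rfl⟩, fun h => h.1⟩)

theorem spU_transv [FiniteDimensional K V] (v : V) (c : K) :
    spU hB (hB.transv v c) = (ofSp hB).T v 0 c := U_ext fun x => by
  rw [Ok.T_smul ⟨trivial, by simp, trivial⟩]
  exact (hB.transv_apply v c x).trans (by simp [ofSp_B])

theorem ofSp_eq_top [FiniteDimensional K V] {H : Subgroup (ofSp hB).U}
    (h : ∀ v c, (ofSp hB).T v 0 c ∈ H) : H = ⊤ := by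
  have := H1.sp_eq_top hB (H.comap (spU hB).toMonoidHom) fun v c => by
    simpa [spU_transv] using h v c
  rw [eq_top_iff]
  intro g _
  obtain ⟨g, rfl⟩ := (spU hB).surjective g
  exact this.ge (mem_top g)

variable {F : Frame (ofSp hB) I}

theorem sp_V0 {u : V} (h : F.V0 u) : u = 0 := F.aniso u h trivial

theorem sp_E [FiniteDimensional K V] (hT : F.Tr) (a : I) : F.E = ⊤ := ofSp_eq_top fun v c => by
  by_cases h0 : v = 0
  · rw [show (ofSp hB).T v 0 c = 1 from U_ext fun y => by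
      rw [Ok.T_smul (O := ofSp hB) ⟨trivial, by simp, trivial⟩]; simp [h0]]
    exact one_mem _
  exact hT.T_mem a ⟨trivial, by simp, trivial⟩ h0

theorem sp_w (b : I) {t : K} (ht : t ≠ 0) :
    stW (fun s => F.Z (F.n b) (-(F.ε b ^ 2)⁻¹ * s)) (F.Z b) t =
      F.wT (F.n b) 0 (-(F.ε b ^ 2)⁻¹ * t) := by
  have := F.ε_ne b
  rw [stW, wT, F.nn, smul_zero, smul_zero, Z, Z, F.ε_n]
  simp only [ofSp_σ, ofSp_η]
  congr 3; field_simp

theorem sp_isR1 (b : I) : IsR1 (fun s => F.Z (F.n b) (-(F.ε b ^ 2)⁻¹ * s)) (F.Z b) where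
  addx s t := by rw [mul_add, Z_add _ trivial trivial]
  addy s t := Z_add _ trivial trivial
  wx t ht u := by
    have := F.ε_ne b
    have h := ((okZ (F := F) (F.n b) (α := -(F.ε b ^ 2)⁻¹ * t) trivial).wT_act (by simp [*])).1
    rw [sp_w b ht, Z_conj trivial (by simp [*, ofSp_η, ofSp_σ, F.ε_ne]) h, F.nn, F.ε_n]
    simp only [ofSp_σ, ofSp_η]
    congr 1; field_simp

theorem sp_ker_pair [Finite K] {π : G →* (ofSp hB).U} (S : CSt F π) {b : I}
    (hM : ∀ y n, S.IsN b y n → S.Mon n (F.flip b)) {g : G} (hg : g ∈ S.L {b, F.n b})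
    (h : π g = 1) : g = 1 := by
  have h0 : F.V0 0 := fun _ => by simp
  choose x hx hx' using fun t => S.Y_surj b h0 (α := t) trivial
  choose y hy hy' using fun t => S.Y_surj (F.n b) h0 (α := -(F.ε b ^ 2)⁻¹ * t) trivial
  have n1 := F.ε_ne b
  have ew : ∀ t, t ≠ 0 → π (stW y x t) = F.wT (F.n b) 0 (-(F.ε b ^ 2)⁻¹ * t) := fun t ht => by
    rw [← sp_w b ht]; simp only [stW, map_mul, hx', hy', Z]
  have ea := fun t (ht : t ≠ 0) =>
    (okZ (F := F) (F.n b) (α := -(F.ε b ^ 2)⁻¹ * t) trivial).wT_act (by simp [*])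
  simp only [F.nn] at ea
  obtain ⟨H, hk⟩ := CSt.ker_r1 hM hx hy (fun g hg => by
      obtain ⟨u, α, h1, -, h2⟩ := CSt.Y_img hg
      obtain rfl := sp_V0 h1
      exact ⟨α, S.ext hg.1 (hx α).1 (h2.trans (hx' α).symm)⟩)
    (by simp only [hx', hy']; exact (sp_isR1 (F := F) b).symm)
    fun t ht => ⟨⟨_, ew t ht ▸ (ea t ht).2.1⟩, _, ew t ht ▸ (ea t ht).1⟩
  obtain ⟨t, ht, rfl⟩ := hk g hg 1 1 (by simp [h]) (by simp [h])
  have h1 := congrArg (· • F.e (F.n b)) h
  simp only [stH, map_mul] at h1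
  rw [mul_smul, ew t ht, ew (-1) (by simp), (ea (-1) (by simp)).1, U_smul, (ea t ht).2.1, one_smul,
    smul_smul] at h1
  have h2 := F.eq_one_of_smul h1
  simp only [F.ε_n, ofSp_σ, ofSp_η] at h2
  rw [show t = 1 by field_simp at h2; exact h2, H.symm.h_one]

theorem sp_ker [Finite K] [Finite I] {π : G →* (ofSp hB).U} (S : CSt F π) {a b : I} (hab : F.D a b)
    {g : G} (hg : g ∈ S.L Set.univ) (h : π g = 1) : g = 1 := by
  have h0 : F.V0 0 := fun _ => by simp
  exact sp_ker_pair S (fun _ _ h => h.mon hab) (CSt.mem_L_pair (nd_of h0 trivial one_ne_zero) hab h0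
    one_ne_zero trivial hg fun i _ => by simp [h]) h

theorem sp_lift [Finite V] [Finite I] {π : G →* (ofSp hB).U} (P : PSt F π)
    (h2 : ∀ a, ∃ b, F.D a b)
    (h4 : (∃ a : K, a ≠ 0 ∧ a ≠ 1) ∨ ∀ a b c, ∃ d, F.D a d ∧ F.D b d ∧ F.D c d) :
    Nonempty (CSt F π) := by
  have h0 : F.V0 0 := fun _ => by simp
  rcases field_cases K with ⟨t, ht, ht'⟩ | ⟨h3, hall⟩ | hall
  · exact P.exists_cst_big (fun _ _ _ _ => trivial) ht ht' rfl one_ne_zero trivial h2
  · refine P.exists_cst_min (fun α _ => ⟨-α, by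
      simp only [ofSp_σ, ofSp_η]; linear_combination α * h3⟩) (fun y hy => ⟨0, 0, trivial, by
      simp only [ofSp_σ, ofSp_η] at hy ⊢; linear_combination y * h3 - hy⟩) one_ne_zero trivial
      (Or.inr ⟨h3, hall⟩) h2 fun j i l hi hl => ?_
    obtain ⟨d, μ, h, h'⟩ := exists_good_torus (F := F) j (t := -1) trivial one_ne_zero (by simp)
      (fun e => one_ne_zero (by linear_combination h3 + e)) trivial
    exact ⟨d, μ, 1, h, h' i hi, h' l hl⟩
  · have h4 := h4.resolve_left fun ⟨a, h⟩ => by rcases hall a with e | e <;> simp [e] at h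
    exact P.exists_cst_sym ofSp_σ ((hall (-1)).resolve_left (by simp))
      (fun a b => (h4 a b b).imp fun _ h => ⟨h.1, h.2.1⟩) (nd_of h0 trivial one_ne_zero) h0 trivial
      one_ne_zero (Or.inl h4)

theorem sp_perfect [FiniteDimensional K V] (h2 : ∀ a, ∃ b, F.D a b) (a : I)
    (h3 : (∃ a : K, a ≠ 0 ∧ a ≠ 1) ∨ ∀ a b, ∃ d, F.D a d ∧ F.D b d) : ⁅F.E, F.E⁆ = ⊤ := by
  rcases h3 with ⟨c, hc⟩ | h3
  swap
  · exact top_le_iff.mp ((sp_E (tr_of_D h2) a).ge.trans (CSt.L_le_commutator h3))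
  refine ofSp_eq_top fun v _ => (tr_of_D h2).T_mem_comm a (fun α _ => ?_) trivial trivial
  by_cases h : (2 : K) = 0
  · obtain ⟨d, hd, e1, -⟩ := exists_torus (F := F) a (t := c) trivial one_ne_zero hc.1 trivial
    rw [(PSt.Z_eq_comm (fun _ _ _ _ => trivial) hc.1 (fun e => hc.2 (by
      rw [← sub_eq_zero, ← pow_eq_zero_iff two_ne_zero]
      linear_combination e + (1 - c) * h)) rfl e1 trivial).2]
    exact commutator_mem_commutator hd (okZ a trivial).mem_E
  · obtain ⟨b, hb⟩ := h2 a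
    have := Z_mem_comm hb.W hb.nr.W (F.pair b) (α / 2)
    rwa [ofSp_σ, ofSp_η, show α / 2 - -1 * (α / 2) = α by field_simp; ring] at this

/-- The standard symplectic frame. -/
def fSp (m : ℕ) (K : Type*) [Field K] : Frame (ofSp (isSp_std (F := K) m)) (Fin m ⊕ Fin m) where
  n := Sum.swap
  e i := Pi.single i 1
  nn := Sum.swap_swap
  n_ne := by rintro (i | i) <;> simp
  sing _ := trivial
  orth := by rintro (i | i) (j | j) h <;> simp_all [ofSp_B, stdSp_apply', Pi.single_apply, eq_comm]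
  pair := by rintro (i | i) <;> simp [ofSp_B, stdSp_apply', Pi.single_apply]
  aniso u h _ := funext fun i => by
    rcases i with i | i
    · simpa [ofSp_B, stdSp_apply', Pi.single_apply] using h (.inr i)
    · simpa [ofSp_B, stdSp_apply', Pi.single_apply] using h (.inl i)

/-- The matrix symplectic group as an odd form group. -/
noncomputable def jSp (m : ℕ) (K : Type*) [Field K] :
    Matrix.symplecticGroup (Fin m) K ≃* (ofSp (isSp_std (F := K) m)).U :=
  (spEquiv m K).trans (spU _)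

theorem exists_ne_zero_one (K : Type*) [Field K] [Fintype K] (h : Fintype.card K ≠ 2) :
    ∃ a : K, a ≠ 0 ∧ a ≠ 1 := by
  classical
  obtain ⟨x, -, hx⟩ := Finset.exists_mem_notMem_of_card_lt_card (s := ({0, 1} : Finset K))
    (t := Finset.univ) (by
      have := Fintype.one_lt_card (α := K)
      rw [Finset.card_pair zero_ne_one, Finset.card_univ]; omega)
  exact ⟨x, by simpa using hx⟩

theorem center_sp_equiv (m : ℕ) (hm : 0 < m) (K : Type*) [Field K] [Fintype K] :
    Nonempty (center (Matrix.symplecticGroup (Fin m) K) ≃*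
      Multiplicative (ZMod (Nat.gcd 2 (Fintype.card K - 1)))) := by
  classical
  have : Nonempty (Fin m) := ⟨⟨0, hm⟩⟩
  let z : Matrix.symplecticGroup (Fin m) K := ⟨-1, SymplecticGroup.neg_mem (one_mem _)⟩
  refine equiv_of_zpowers (c := z) (le_antisymm (fun g hg => ?_)
    (by simpa using mem_center_sp_iff'.mpr (Or.inr rfl))) ?_
  · rcases mem_center_sp_iff'.mp hg with h | h
    · rw [show g = 1 from Subtype.ext h]; exact one_mem _
    · rw [show g = z from Subtype.ext h]; exact mem_zpowers _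
  have h0 := Fintype.card_pos (α := K)
  by_cases h2 : (2 : K) = 0
  · have : CharP K 2 := CharTwo.of_one_ne_zero_of_two_eq_zero one_ne_zero h2
    have h1 := FiniteField.even_card_of_char_two (ringChar.eq K 2)
    rw [Nat.gcd_rec, show (Fintype.card K - 1) % 2 = 1 by omega]
    exact orderOf_eq_one_iff.mpr (Subtype.ext (by ext; simp [z, CharTwo.neg_eq]))
  · have h1 := FiniteField.odd_card_of_char_ne_two (ringChar_ne_two h2)
    rw [Nat.gcd_rec, show (Fintype.card K - 1) % 2 = 0 by omega]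
    refine orderOf_eq_prime (p := 2) (Subtype.ext (by simp [z])) fun e => h2 ?_
    have := congrFun₂ (congrArg Subtype.val e) (.inl ⟨0, hm⟩) (.inl ⟨0, hm⟩)
    simp [z] at this
    linear_combination -this

theorem schur_sp (m : ℕ) (K : Type u) [Field K] [Fintype K] (hm : 2 ≤ m)
    (h : Fintype.card K ≠ 2 ∨ 4 ≤ m) :
    HasCyclicSchurMultiplier (PSp m K) (Nat.gcd 2 (Fintype.card K - 1)) := by
  have h2 : ∀ a, ∃ b, (fSp m K).D a b := fun a => by
    simpa using (fSp m K).exists_D rfl [a] (by simp; omega)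
  let a : Fin m ⊕ Fin m := .inl ⟨0, by omega⟩
  obtain ⟨b, hb⟩ := h2 a
  obtain ⟨e⟩ := center_sp_equiv m (by omega) K
  have hr : (jSp m K).toMonoidHom.range = (fSp m K).E :=
    (MonoidHom.range_eq_top.mpr (jSp m K).surjective).trans (sp_E (tr_of_D h2) a).symm
  refine schur_self (jSp m K).injective hr (eq_top_iff.mpr fun g _ =>
    mem_commutator_of_range (jSp m K).injective hr ((sp_perfect h2 a ?_).ge (mem_top _)))
    (fun G _ π S g hg => sp_ker S hb hg) (fun Γ _ π P => sp_lift P h2 ?_) e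
  · exact h.imp (exists_ne_zero_one K) fun h a b => by
      simpa using (fSp m K).exists_D rfl [a, b] (by simp; omega)
  · exact h.imp (exists_ne_zero_one K) fun h a b c => by
      simpa using (fSp m K).exists_D rfl [a, b, c] (by simp; omega)

end Cfsg.Agent.H6
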