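import Cfsg.Agent.H6.CF

/-! Steinberg systems for the classical groups: frames, root subgroups, Weyl elements. -/

set_option autoImplicit false

namespace Cfsg.Agent.H6

open OF

variable {K V I G : Type*} [Field K] [AddCommGroup V] [Module K V] [Group G]

/-- A maximal family of hyperbolic pairs. -/
structure Frame (O : OF K V) (I : Type*) where
  n : I → I
  e : I → V
  nn : ∀ i, n (n i) = i
  n_ne : ∀ i, n i ≠ i
  sing : ∀ i, O.Λ (e i) 0
  orth : ∀ {i j}, j ≠ n i → O.B (e i) (e j) = 0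
  pair : ∀ i, O.B (e (n i)) (e i) ≠ 0
  aniso : ∀ u, (∀ i, O.B u (e i) = 0) → O.Λ u 0 → u = 0

namespace Frame

variable {O : OF K V} (F : Frame O I)

/-- The pairing of opposite frame vectors. -/
def ε (i : I) : K := O.B (F.e (F.n i)) (F.e i)

theorem ε_ne (i : I) : F.ε i ≠ 0 := F.pair i

theorem B_n (i : I) : O.B (F.e (F.n i)) (F.e i) = F.ε i := rfl

theorem B_n' (i : I) : O.B (F.e i) (F.e (F.n i)) = F.ε (F.n i) := by rw [ε, F.nn]

theorem ε_n (i : I) : F.ε (F.n i) = O.η * O.σ (F.ε i) := by rw [← B_n', O.herm]; rfl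

theorem n_inj {i j : I} (h : F.n i = F.n j) : i = j := by rw [← F.nn i, h, F.nn]

/-- Indices in different hyperbolic pairs. -/
def D (i j : I) : Prop := j ≠ i ∧ j ≠ F.n i

variable {F}

theorem ne_n_comm {i j : I} (h : j ≠ F.n i) : i ≠ F.n j := fun e => h (by rw [e, F.nn])

theorem n_ne_comm {i j : I} (h : j ≠ i) : F.n j ≠ F.n i := fun e => h (F.n_inj e)

theorem D.symm {i j : I} (h : F.D i j) : F.D j i := ⟨h.1.symm, ne_n_comm h.2⟩

theorem D.nr {i j : I} (h : F.D i j) : F.D i (F.n j) := ⟨(ne_n_comm h.2).symm, n_ne_comm h.1⟩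

theorem D.nl {i j : I} (h : F.D i j) : F.D (F.n i) j := h.symm.nr.symm

theorem D.B {i j : I} (h : F.D i j) : O.B (F.e i) (F.e j) = 0 := F.orth h.2

variable (F)

theorem B_ee (i : I) : O.B (F.e i) (F.e i) = 0 := B_self (F.sing i)

theorem e_ne (i : I) : F.e i ≠ 0 := fun h => F.pair i (by simp [h])

/-- Admissible parameters at a frame vector. -/
structure Ok (k : I) (v : V) (α : K) : Prop extends O.Ok (F.e k) v α where
  perp' : O.B v (F.e (F.n k)) = 0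

/-- The vector parameter of the short root elements. -/
def xv (j : I) (s : K) : V := (-(O.σ s / F.ε j)) • F.e (F.n j)

/-- The short root elements. -/
noncomputable def xT (i j : I) (s : K) : O.U := O.T (F.e i) (F.xv j s) 0

variable {F}

theorem Ok.add {k : I} {v w : V} {α β : K} (h : F.Ok k v α) (h' : F.Ok k w β) :
    F.Ok k (v + w) (α + β - O.η * O.B w v) :=
  ⟨h.toOk.add h'.toOk, by simp [h.perp', h'.perp']⟩

theorem Ok.inv {k : I} {v : V} {α : K} (h : F.Ok k v α) : F.Ok k (-v) (O.η * O.σ α) :=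
  ⟨h.toOk.inv, by simp [h.perp']⟩

theorem Ok.T_e {k : I} {v : V} {α : K} (h : F.Ok k v α) {i : I} (hi : i ≠ F.n k) :
    O.T (F.e k) v α • F.e i = F.e i + (-O.σ (O.B v (F.e i))) • F.e k := by
  rw [h.T_smul, F.orth (ne_n_comm hi), O.σ_B]; module

theorem Ok.T_en {k : I} {v : V} {α : K} (h : F.Ok k v α) :
    O.T (F.e k) v α • F.e (F.n k) = F.e (F.n k) + F.ε k • v + (α * F.ε k) • F.e k := by
  rw [h.T_smul, O.B_eq_zero_comm h.perp', B_n]; module

theorem Ok.fix_iff {k : I} {v : V} {α : K} (h : F.Ok k v α) {i : I} (hi : i ≠ F.n k) :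
    O.T (F.e k) v α • F.e i = F.e i ↔ O.B v (F.e i) = 0 := by
  rw [h.T_e hi]; simp [F.e_ne k]

theorem Ok.eq_of_line {k : I} {v : V} {α c : K} (h : F.Ok k v α)
    (hc : O.T (F.e k) v α • F.e (F.n k) = c • F.e (F.n k)) : v = 0 ∧ α = 0 := by
  rw [h.T_en] at hc
  have h1 := congrArg (fun x => O.B x (F.e (F.n k))) hc
  have h2 := congrArg (fun x => O.B x (F.e k)) hc
  simp only [map_add, map_smul, LinearMap.add_apply, LinearMap.smul_apply, smul_eq_mul, F.B_ee,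
    h.perp, h.perp', B_n, B_n', mul_zero, add_zero, zero_add, mul_eq_zero, F.ε_ne, or_false] at h1 h2
  have h3 : c = 1 := mul_right_cancel₀ (F.ε_ne k) (by rw [← h2, one_mul])
  rw [h1, h3] at hc
  exact ⟨by simpa [F.ε_ne] using hc, h1⟩

theorem D.ok_line {i j : I} (h : F.D i j) (c : K) : F.Ok i (c • F.e j) 0 :=
  ⟨OF.ok_line (F.sing i) (F.sing j) h.symm.B c, by simp [h.nl.symm.B]⟩

theorem D.ok_xv {i j : I} (h : F.D i j) (s : K) : F.Ok i (F.xv j s) 0 := h.nr.ok_line _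

theorem B_xv (j : I) (s : K) : O.B (F.xv j s) (F.e j) = -O.σ s := by
  simp [xv, B_n, F.ε_ne]

theorem B_xv_ne {j l : I} (h : l ≠ j) (s : K) : O.B (F.xv j s) (F.e l) = 0 := by
  simp [xv, F.orth (i := F.n j) (j := l) (by rwa [F.nn])]

theorem D.xT_self {i j : I} (h : F.D i j) (s : K) : F.xT i j s • F.e j = F.e j + s • F.e i := by
  rw [xT, (h.ok_xv s).T_e h.2, B_xv]; simp [O.σσ]

theorem D.xT_ne {i j : I} (h : F.D i j) (s : K) {l : I} (h1 : l ≠ j) (h2 : l ≠ F.n i) :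
    F.xT i j s • F.e l = F.e l := ((h.ok_xv s).fix_iff h2).mpr (B_xv_ne h1 s)

theorem D.xT_n {i j : I} (h : F.D i j) (s : K) : F.xT i j s • F.e (F.n i) =
    F.e (F.n i) + (-(F.ε i * O.σ s / F.ε j)) • F.e (F.n j) := by
  rw [xT, (h.ok_xv s).T_en, xv]; module

theorem D.xT_add {i j : I} (h : F.D i j) (s t : K) : F.xT i j (s + t) = F.xT i j s * F.xT i j t := by
  rw [xT, xT, xT, (h.ok_xv s).T_mul (h.ok_xv t).toOk]
  congr 1
  · simp only [xv, map_add]; module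
  · simp [xv, F.B_ee]

theorem D.xT_swap {i j : I} (h : F.D i j) (s : K) :
    F.xT i j s = F.xT (F.n j) (F.n i) (-(F.ε i * O.σ s / F.ε j)) := by
  rw [xT, xT, xv, T_swap (F.sing i) (F.sing _) h.nr.symm.B, xv, F.nn, F.ε_n]
  have := O.σ_ne (F.ε_ne i)
  have := O.σ_ne (F.ε_ne j)
  have := O.η_ne
  congr 2
  simp only [map_neg, map_div₀, map_mul, O.σσ]
  field_simp
  linear_combination s * O.ηη

theorem D.conj_xT {i j i' j' : I} (h : F.D i j) {g : O.U} {c d d' : K} (hc : c ≠ 0)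
    (hi : g • F.e i = c • F.e i') (hj : g • F.e j = d • F.e j')
    (hj' : g • F.e (F.n j) = d' • F.e (F.n j')) (s : K) :
    g * F.xT i j s * g⁻¹ = F.xT i' j' (c * s / d) := by
  have h1 := B_U g (F.e (F.n j)) (F.e j)
  simp only [hj, hj', map_smulₛₗ, LinearMap.smul_apply, smul_eq_mul, B_n, RingHom.id_apply] at h1
  have hd : O.σ d ≠ 0 := fun h => F.ε_ne j (by rw [← h1, h, zero_mul])
  have hd' : d' ≠ 0 := fun h => F.ε_ne j (by rw [← h1, h]; simp)
  have := F.ε_ne j'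
  rw [xT, (h.ok_xv s).conj_T' hc hi, xT, mul_zero, xv, xv, U_smul, hj', smul_smul, smul_smul, ← h1]
  congr 2
  simp only [map_mul, map_div₀]
  field_simp

theorem line_n {g : O.U} {i i' : I} {c d : K} (hi : g • F.e i = c • F.e i')
    (hn : g • F.e (F.n i) = d • F.e (F.n i')) : c ≠ 0 ∧ d ≠ 0 := by
  have h1 := B_U g (F.e (F.n i)) (F.e i)
  rw [hi, hn] at h1
  exact ⟨fun h => F.pair i (by simpa [h] using h1.symm), fun h => F.pair i
    (by simpa [h] using h1.symm)⟩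

end Frame

/-- A Steinberg system: lifts of the unipotent radicals of the point stabilisers. -/
structure CSt {O : OF K V} (F : Frame O I) (π : G →* O.U) where
  R : I → Subgroup G
  img : ∀ {k g}, g ∈ R k → ∃ v α, F.Ok k v α ∧ π g = O.T (F.e k) v α
  surj : ∀ {k v α}, F.Ok k v α → ∃ g ∈ R k, π g = O.T (F.e k) v α
  inj : ∀ {k g}, g ∈ R k → π g = 1 → g = 1
  swap : ∀ {i j g} (c : K), F.D i j → g ∈ R i → π g = O.T (F.e i) (c • F.e j) 0 → g ∈ R j
  conj : ∀ {k j g y}, F.D k j → g ∈ R k → π g • F.e j = F.e j →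
    π g • F.e (F.n j) = F.e (F.n j) → y ∈ R j → g * y * g⁻¹ ∈ R j

namespace CSt

open Frame

variable {O : OF K V} {F : Frame O I} {π : G →* O.U} (S : CSt F π)

theorem ext {k : I} {g g' : G} (h : g ∈ S.R k) (h' : g' ∈ S.R k) (e : π g = π g') : g = g' :=
  mul_inv_eq_one.mp (S.inj ((S.R k).mul_mem h ((S.R k).inv_mem h')) (by simp [e]))

theorem fix_self {k : I} {g : G} (h : g ∈ S.R k) : π g • F.e k = F.e k := by
  obtain ⟨v, α, h1, h2⟩ := S.img h
  rw [h2, h1.fix_iff (F.n_ne k).symm, h1.perp]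

theorem exists_smul {k : I} {g : G} (h : g ∈ S.R k) {i : I} (hi : i ≠ F.n k) :
    ∃ s : K, π g • F.e i = F.e i + s • F.e k := by
  obtain ⟨v, α, h1, h2⟩ := S.img h
  exact ⟨_, h2 ▸ h1.T_e hi⟩

theorem eq_one_of_line {k : I} {g : G} (h : g ∈ S.R k) {c : K}
    (hc : π g • F.e (F.n k) = c • F.e (F.n k)) : g = 1 := by
  obtain ⟨v, α, h1, h2⟩ := S.img h
  obtain ⟨rfl, rfl⟩ := h1.eq_of_line (h2 ▸ hc)
  exact S.inj h (h2.trans (T_zero _))

theorem exists_conj {k k' : I} {y : G} (hy : y ∈ S.R k) {g : O.U} {c d : K}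
    (h1 : g • F.e k = c • F.e k') (h2 : g • F.e (F.n k) = d • F.e (F.n k')) :
    ∃ y' ∈ S.R k', π y' = g * π y * g⁻¹ := by
  obtain ⟨v, α, h3, h4⟩ := S.img hy
  obtain ⟨hc, hd⟩ := line_n h1 h2
  rw [h4, h3.conj_T' hc h1]
  refine S.surj ⟨Ok.of_smul hc (h1 ▸ h3.toOk.map g), ?_⟩
  have := B_U g v (F.e (F.n k))
  rw [h2, h3.perp'] at this
  simpa [hc, hd] using this

theorem mem_of_eq {a b : I} (hab : F.D a b) {y y' : G} (hy : y ∈ S.R a) (hy' : y' ∈ S.R b)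
    (e : π y = π y') : y ∈ S.R b := by
  obtain ⟨v, α, h1, h2⟩ := S.img hy
  obtain ⟨s, hs⟩ := S.exists_smul hy' hab.nl.symm.2
  rw [← e, h2, h1.T_en, add_assoc, add_right_inj] at hs
  have h3 := congrArg (fun x => O.B x (F.e (F.n a))) hs
  simp only [map_add, map_smul, LinearMap.add_apply, LinearMap.smul_apply, smul_eq_mul, h1.perp',
    B_n', hab.nl.symm.B, mul_zero, zero_add, mul_eq_zero, F.ε_ne, or_false] at h3
  refine S.swap ((F.ε a)⁻¹ * s) hab hy ?_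
  rw [h2, h3, mul_smul, ← hs, h3]
  simp [F.ε_ne]

open Classical in
/-- The short root elements of a Steinberg system. -/
noncomputable def x (i j : I) (s : K) : G :=
  if h : F.D i j then (S.surj (h.ok_xv s)).choose else 1

theorem x_mem {i j : I} (h : F.D i j) (s : K) : S.x i j s ∈ S.R i := by
  rw [x, dif_pos h]; exact (S.surj (h.ok_xv s)).choose_spec.1

theorem π_x {i j : I} (h : F.D i j) (s : K) : π (S.x i j s) = F.xT i j s := by
  rw [x, dif_pos h]; exact (S.surj (h.ok_xv s)).choose_spec.2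

theorem x_mem' {i j : I} (h : F.D i j) (s : K) : S.x i j s ∈ S.R (F.n j) :=
  S.swap _ h.nr (S.x_mem h s) (S.π_x h s)

theorem x_add {i j : I} (h : F.D i j) (s t : K) : S.x i j (s + t) = S.x i j s * S.x i j t :=
  S.ext (S.x_mem h _) ((S.R i).mul_mem (S.x_mem h _) (S.x_mem h _))
    (by rw [map_mul, S.π_x h, S.π_x h, S.π_x h, h.xT_add])

theorem x_swap {i j : I} (h : F.D i j) (s : K) :
    S.x i j s = S.x (F.n j) (F.n i) (-(F.ε i * O.σ s / F.ε j)) :=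
  S.ext (S.x_mem' h _) (S.x_mem h.symm.nl.nr _)
    (by rw [S.π_x h, S.π_x h.symm.nl.nr, h.xT_swap])

theorem conj_x {i j i' j' : I} (h : F.D i j) (h' : F.D i' j') {g : G} {c d d' : K}
    (hc : c ≠ 0) (hi : π g • F.e i = c • F.e i') (hj : π g • F.e j = d • F.e j')
    (hj' : π g • F.e (F.n j) = d' • F.e (F.n j')) (s : K)
    (hg : g * S.x i j s * g⁻¹ ∈ S.R i' ∨ g * S.x i j s * g⁻¹ ∈ S.R (F.n j')) :
    g * S.x i j s * g⁻¹ = S.x i' j' (c * s / d) := by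
  have : π (g * S.x i j s * g⁻¹) = π (S.x i' j' (c * s / d)) := by
    rw [map_mul, map_mul, map_inv, S.π_x h, S.π_x h', h.conj_xT hc hi hj hj']
  rcases hg with hg | hg
  · exact S.ext hg (S.x_mem h' _) this
  · exact S.ext hg (S.x_mem' h' _) this

/-- The part of a radical supported on a set of indices. -/
def RR (k : I) (T : Set I) : Subgroup G where
  carrier := {g | g ∈ S.R k ∧ ∀ i ∉ T, i ≠ F.n k → π g • F.e i = F.e i}
  one_mem' := ⟨one_mem _, fun i _ _ => by simp⟩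
  mul_mem' {g h} hg hh := ⟨mul_mem hg.1 hh.1, fun i h1 h2 => by
    rw [map_mul, mul_smul, hh.2 i h1 h2, hg.2 i h1 h2]⟩
  inv_mem' {g} hg := ⟨inv_mem hg.1, fun i h1 h2 => by
    rw [map_inv, inv_smul_eq_iff, hg.2 i h1 h2]⟩

variable {S}

theorem RR_mono {k : I} {T T' : Set I} {g : G} (hg : g ∈ S.RR k T)
    (h : ∀ i ∈ T, F.D k i → i ∈ T') : g ∈ S.RR k T' :=
  ⟨hg.1, fun i h1 h2 => by
    by_cases hi : i = k
    · rw [hi]; exact S.fix_self hg.1
    · exact hg.2 i (fun h3 => h1 (h i h3 ⟨hi, h2⟩)) h2⟩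

theorem mem_RR_univ {k : I} {g : G} (hg : g ∈ S.R k) : g ∈ S.RR k Set.univ :=
  ⟨hg, fun _ h => absurd trivial h⟩

theorem x_mem_RR {i j : I} (h : F.D i j) (s : K) {T : Set I} (hj : j ∈ T) :
    S.x i j s ∈ S.RR i T :=
  ⟨S.x_mem h s, fun l h1 h2 => by
    rw [S.π_x h, h.xT_ne s (fun e : l = j => h1 (e ▸ hj)) h2]⟩

theorem x_mem_RR' {i j : I} (h : F.D i j) (s : K) {T : Set I} (hj : F.n i ∈ T) :
    S.x i j s ∈ S.RR (F.n j) T := by
  rw [S.x_swap h]; exact x_mem_RR h.symm.nl.nr _ hj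

theorem split {k j : I} (h : F.D k j) {T : Set I} {y : G} (hy : y ∈ S.RR k T) :
    ∃ s, y * (S.x k j s)⁻¹ ∈ S.RR k (T \ {j}) ∧ (S.x k j s)⁻¹ * y ∈ S.RR k (T \ {j}) ∧
      (j ∉ T → s = 0) := by
  obtain ⟨s, hs⟩ := S.exists_smul hy.1 h.2
  have h0 : j ∉ T → s = 0 := fun hj => by
    simpa [hy.2 j hj h.2, F.e_ne k] using hs
  have key : ∀ i ∉ T \ {j}, i ≠ F.n k → π y • F.e i = π (S.x k j s) • F.e i := fun i h1 h2 => by
    by_cases hi : i = j
    · rw [hi, hs, S.π_x h, h.xT_self]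
    · rw [S.π_x h, h.xT_ne s hi h2, hy.2 i (fun h3 => h1 ⟨h3, hi⟩) h2]
  refine ⟨s, ⟨mul_mem hy.1 (inv_mem (S.x_mem h s)), fun i h1 h2 => ?_⟩,
    ⟨mul_mem (inv_mem (S.x_mem h s)) hy.1, fun i h1 h2 => ?_⟩, h0⟩
  · obtain ⟨t, ht⟩ := S.exists_smul (inv_mem (S.x_mem h s)) h2
    have := congrArg (π (S.x k j s) • ·) ht
    simp only [map_inv, smul_inv_smul, U_add, U_smul, S.fix_self (S.x_mem h s)] at this
    rw [map_mul, mul_smul, ht, U_add, U_smul, S.fix_self hy.1, key i h1 h2, ← this]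
  · rw [map_mul, mul_smul, key i h1 h2, map_inv, inv_smul_smul]

theorem conj_RR {k j : I} (h : F.D k j) {T : Set I} {g y : G} (hg : g ∈ S.RR k T) (h1 : j ∉ T)
    (h2 : F.n j ∉ T) (hy : y ∈ S.R j) : g * y * g⁻¹ ∈ S.R j :=
  S.conj h hg.1 (hg.2 j h1 h.2) (hg.2 _ h2 h.nr.2) hy

theorem conj_key {i j : I} (h : F.D i j) {T : Set I} {m y : G} (hm : m ∈ S.RR i T) (hj : j ∉ T)
    (hy : y ∈ S.R j) : ∃ m' ∈ S.RR i (T \ {F.n j}), m'⁻¹ * (y * m * y⁻¹) ∈ S.R j := by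
  obtain ⟨s, h1, -⟩ := split h.nr hm
  refine ⟨_, h1, ?_⟩
  have h2 := conj_RR h (inv_mem h1) (fun h => hj h.1) (fun h => h.2 rfl) hy
  have h3 := S.x_mem' h.nr s
  rw [F.nn] at h3
  have := mul_mem (mul_mem h2 h3) (inv_mem hy)
  convert this using 1
  group

/-- Monomial elements. -/
structure Mon (S : CSt F π) (g : G) (s : Equiv.Perm I) : Prop where
  lin : ∀ i, ∃ c : K, π g • F.e i = c • F.e (s i)
  comm : ∀ i, s (F.n i) = F.n (s i)
  conj : ∀ k y, y ∈ S.R k → g * y * g⁻¹ ∈ S.R (s k)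

theorem conj_inv_of {k k' : I} {g : G} {c d : K} (h1 : π g • F.e k = c • F.e k')
    (h2 : π g • F.e (F.n k) = d • F.e (F.n k')) (h : ∀ y ∈ S.R k', g⁻¹ * y * g ∈ S.R k) {y : G}
    (hy : y ∈ S.R k) : g * y * g⁻¹ ∈ S.R k' := by
  obtain ⟨y', h3, h4⟩ := S.exists_conj hy h1 h2
  rw [← S.ext (h y' h3) hy (by simp [h4, mul_assoc])]
  simpa [mul_assoc] using h3

namespace Mon

variable {g g' : G} {s s' : Equiv.Perm I}

theorem lin' (h : S.Mon g s) (i : I) : ∃ c : K, c ≠ 0 ∧ π g • F.e i = c • F.e (s i) := by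
  obtain ⟨c, hc⟩ := h.lin i
  obtain ⟨d, hd⟩ := h.lin (F.n i)
  exact ⟨c, (line_n hc (h.comm i ▸ hd)).1, hc⟩

theorem one : S.Mon 1 1 := ⟨fun i => ⟨1, by simp⟩, fun _ => rfl, fun k y hy => by simpa using hy⟩

theorem mul (h : S.Mon g s) (h' : S.Mon g' s') : S.Mon (g * g') (s * s') where
  lin i := by
    obtain ⟨c, hc⟩ := h'.lin i
    obtain ⟨d, hd⟩ := h.lin (s' i)
    exact ⟨c * d, by rw [map_mul, mul_smul, hc, U_smul, hd, smul_smul]; rfl⟩
  comm i := by simp [h.comm, h'.comm]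
  conj k y hy := by
    have := h.conj _ _ (h'.conj k y hy)
    simpa [mul_assoc] using this

theorem inv (h : S.Mon g s) : S.Mon g⁻¹ s⁻¹ := by
  have h1 : ∀ i, ∃ c : K, π g⁻¹ • F.e i = c • F.e (s⁻¹ i) := fun i => by
    obtain ⟨c, hc0, hc⟩ := h.lin' (s⁻¹ i)
    rw [show s (s⁻¹ i) = i by simp] at hc
    exact ⟨_, map_inv π g ▸ inv_smul_of_line hc0 hc⟩
  have h2 : ∀ i, s⁻¹ (F.n i) = F.n (s⁻¹ i) := fun i => by
    rw [Equiv.Perm.inv_eq_iff_eq, h.comm]; simp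
  refine ⟨h1, h2, fun k y hy => ?_⟩
  obtain ⟨c, hc⟩ := h1 k
  obtain ⟨d, hd⟩ := h1 (F.n k)
  refine conj_inv_of hc (h2 k ▸ hd) (fun y hy => ?_) hy
  simpa using h.conj _ y hy

theorem D (h : S.Mon g s) {i j : I} (hij : F.D i j) : F.D (s i) (s j) :=
  ⟨s.injective.ne hij.1, h.comm i ▸ s.injective.ne hij.2⟩

theorem RR (h : S.Mon g s) {k : I} {T T' : Set I} {y : G} (hy : y ∈ S.RR k T)
    (hT : ∀ i ∈ T, F.D k i → s i ∈ T') : g * y * g⁻¹ ∈ S.RR (s k) T' := by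
  refine ⟨h.conj k y hy.1, fun i h1 h2 => ?_⟩
  obtain ⟨i, rfl⟩ := s.surjective i
  obtain ⟨c, hc0, hc⟩ := h.lin' i
  have h3 := (RR_mono (T' := {i | s i ∈ T'}) hy hT).2 i h1 (fun e => h2 (e ▸ h.comm k))
  rw [map_mul, map_mul, map_inv, mul_smul, mul_smul, inv_smul_of_line hc0 hc, U_smul, h3, U_smul,
    hc, inv_smul_smul₀ hc0]

theorem x (h : S.Mon g s) {i j : I} (hij : F.D i j) {c d : K} (hi : π g • F.e i = c • F.e (s i))
    (hj : π g • F.e j = d • F.e (s j)) (u : K) :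
    g * S.x i j u * g⁻¹ = S.x (s i) (s j) (c * u / d) := by
  obtain ⟨d', hd'⟩ := h.lin (F.n j)
  obtain ⟨c', hc'⟩ := h.lin (F.n i)
  exact S.conj_x hij (h.D hij) (line_n hi (h.comm i ▸ hc')).1 hi hj (h.comm j ▸ hd') u
    (Or.inl (h.conj _ _ (S.x_mem hij u)))

theorem exists_x (h : S.Mon g s) {i j : I} (hij : F.D i j) : ∃ c : K, c ≠ 0 ∧
    (∀ u, g * S.x i j u * g⁻¹ = S.x (s i) (s j) (c * u)) ∧
    ∀ u, g * S.x j i u * g⁻¹ = S.x (s j) (s i) (c⁻¹ * u) := by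
  obtain ⟨c, hc0, hc⟩ := h.lin' i
  obtain ⟨d, hd0, hd⟩ := h.lin' j
  refine ⟨c / d, div_ne_zero hc0 hd0, fun u => ?_, fun u => ?_⟩
  · rw [h.x hij hc hd]; congr 1; ring
  · rw [h.x hij.symm hd hc]; congr 1; field_simp

end Mon

end CSt

namespace Frame

variable {O : OF K V} (F : Frame O I)

open Classical in
/-- The transposition of two hyperbolic pairs. -/
noncomputable def sw (a b : I) : Equiv.Perm I := Equiv.swap a b * Equiv.swap (F.n a) (F.n b)

/-- There is enough room next to any two hyperbolic pairs. -/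
def ND : Prop := ∀ a b, F.D a b → ∃ v α, α ≠ 0 ∧ F.Ok a v α ∧ O.B v (F.e b) = 0 ∧
  O.B v (F.e (F.n b)) = 0

variable {F} {a b : I} (h : F.D a b)
include h

open Classical in
theorem D.sw_a : F.sw a b a = b := by
  simp [sw, Equiv.swap_apply_of_ne_of_ne (F.n_ne a).symm h.symm.2]

open Classical in
theorem D.sw_b : F.sw a b b = a := by
  simp [sw, Equiv.swap_apply_of_ne_of_ne h.2 (F.n_ne b).symm]

open Classical in
theorem D.sw_na : F.sw a b (F.n a) = F.n b := by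
  simp [sw, Equiv.swap_apply_of_ne_of_ne h.nr.1 (F.n_ne b)]

open Classical in
theorem D.sw_nb : F.sw a b (F.n b) = F.n a := by
  simp [sw, Equiv.swap_apply_of_ne_of_ne (F.n_ne a) h.symm.nr.1]

omit h in
open Classical in
theorem sw_of_D {k : I} (ha : F.D a k) (hb : F.D b k) : F.sw a b k = k := by
  simp [sw, Equiv.swap_apply_of_ne_of_ne ha.2 hb.2, Equiv.swap_apply_of_ne_of_ne ha.1 hb.1]

omit h in
theorem cases5 (a b k : I) : k = a ∨ k = b ∨ k = F.n a ∨ k = F.n b ∨ (F.D a k ∧ F.D b k) := by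
  simp only [D]; tauto

theorem D.sw_n (i : I) : F.sw a b (F.n i) = F.n (F.sw a b i) := by
  rcases cases5 (F := F) a b i with rfl | rfl | rfl | rfl | ⟨h1, h2⟩
  · rw [h.sw_a, h.sw_na]
  · rw [h.sw_b, h.sw_nb]
  · rw [F.nn, h.sw_a, h.sw_na, F.nn]
  · rw [F.nn, h.sw_b, h.sw_nb, F.nn]
  · rw [sw_of_D h1 h2, sw_of_D h1.nr h2.nr]

theorem D.sw_sw : F.sw a b * F.sw a b = 1 := by
  ext i
  rcases cases5 (F := F) a b i with rfl | rfl | rfl | rfl | ⟨h1, h2⟩ <;>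
    simp [h.sw_a, h.sw_b, h.sw_na, h.sw_nb, sw_of_D, *]

theorem D.sw_inv : (F.sw a b)⁻¹ = F.sw a b := inv_eq_of_mul_eq_one_right h.sw_sw

end Frame

namespace CSt

open Frame

variable {O : OF K V} {F : Frame O I} {π : G →* O.U} (S : CSt F π)

/-- The Weyl elements of the short roots. -/
noncomputable def w (a b : I) (t : K) : G := stW (S.x a b) (S.x b a) t

/-- The torus elements of the short roots. -/
noncomputable def h (a b : I) (t : K) : G := stH (S.x a b) (S.x b a) t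

variable {S} {a b : I}

theorem w_swap (h : F.D a b) (t : K) :
    S.w a b t = S.w (F.n b) (F.n a) (-(F.ε a * O.σ t / F.ε b)) := by
  rw [w, w, stW, stW, S.x_swap h, S.x_swap h.symm]
  congr 3
  have := F.ε_ne a
  have := F.ε_ne b
  simp only [map_neg, map_inv₀]
  field_simp

theorem w_a (h : F.D a b) {t : K} (ht : t ≠ 0) : π (S.w a b t) • F.e a = (-t⁻¹) • F.e b := by
  simp only [w, stW, map_mul, mul_smul, S.π_x h, S.π_x h.symm, U_add, U_smul, h.xT_self,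
    h.symm.xT_self, h.xT_ne t h.1.symm (F.n_ne a).symm]
  match_scalars <;> field_simp <;> ring

theorem w_b (h : F.D a b) {t : K} (ht : t ≠ 0) : π (S.w a b t) • F.e b = t • F.e a := by
  simp only [w, stW, map_mul, mul_smul, S.π_x h, S.π_x h.symm, U_add, U_smul, h.xT_self,
    h.symm.xT_self, h.xT_ne t h.1.symm (F.n_ne a).symm, h.symm.xT_ne _ h.1 (F.n_ne b).symm]
  match_scalars <;> field_simp <;> ring

omit S in
theorem sw_ne {t : K} (ht : t ≠ 0) : -(F.ε a * O.σ t / F.ε b) ≠ 0 :=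
  neg_ne_zero.mpr (div_ne_zero (mul_ne_zero (F.ε_ne a) (O.σ_ne ht)) (F.ε_ne b))

theorem w_na (h : F.D a b) {t : K} (ht : t ≠ 0) : π (S.w a b t) • F.e (F.n a) =
    (-(F.ε a * O.σ t / F.ε b)) • F.e (F.n b) := by
  rw [w_swap h, w_b h.symm.nl.nr (sw_ne ht)]

theorem w_nb (h : F.D a b) {t : K} (ht : t ≠ 0) : π (S.w a b t) • F.e (F.n b) =
    (-(-(F.ε a * O.σ t / F.ε b))⁻¹) • F.e (F.n a) := by
  rw [w_swap h, w_a h.symm.nl.nr (sw_ne ht)]

theorem w_of_D (h : F.D a b) (t : K) {k : I} (ha : F.D a k) (hb : F.D b k) :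
    π (S.w a b t) • F.e k = F.e k := by
  simp only [w, stW, map_mul, mul_smul, S.π_x h, S.π_x h.symm, h.xT_ne _ hb.1 ha.2,
    h.symm.xT_ne _ ha.1 hb.2]

theorem w_neg (h : F.D a b) (t : K) : S.w a b (-t) = (S.w a b t)⁻¹ := by
  simp only [w, stW, inv_neg, neg_neg, add_fam_neg (S.x_add h), add_fam_neg (S.x_add h.symm),
    mul_inv_rev, inv_inv, mul_assoc]

theorem w_conj_aux (h : F.D a b) {t : K} (ht : t ≠ 0) {m : G} (hm : m ∈ S.RR a {b}ᶜ) :
    S.w a b t * m * (S.w a b t)⁻¹ ∈ S.R b := by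
  have hx := S.x_mem h t
  have h1 : S.x a b t * m * (S.x a b t)⁻¹ ∈ S.RR a {b}ᶜ := by
    refine ⟨mul_mem (mul_mem hx hm.1) (inv_mem hx), fun i hi _ => ?_⟩
    obtain rfl : i = b := by simpa using hi
    rw [map_mul, map_mul, map_inv, ← add_fam_neg (x := fun t => π (S.x a i t))
      (fun s t => by rw [S.x_add h, map_mul]), mul_smul, mul_smul, S.π_x h, S.π_x h, h.xT_self,
      U_add, U_smul, hm.2 i (by simp) h.2, S.fix_self hm.1, U_add, U_smul, h.xT_self,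
      h.xT_ne t h.1.symm (F.n_ne a).symm]
    module
  set y := S.x b a (-t⁻¹) with hy
  obtain ⟨m', h2, h3⟩ := conj_key h h1 (by simp) (S.x_mem h.symm (-t⁻¹))
  have h4 : m'⁻¹ * (y * (S.x a b t * m * (S.x a b t)⁻¹) * y⁻¹) ∈ S.RR b {a}ᶜ := by
    refine ⟨h3, fun i hi _ => ?_⟩
    obtain rfl : i = a := by simpa using hi
    rw [map_mul, map_mul, map_mul, map_inv, map_inv, hy, ← add_fam_neg (x := fun t => π (S.x b i t))
      (fun s t => by rw [S.x_add h.symm, map_mul]), mul_smul, mul_smul, mul_smul, S.π_x h.symm,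
      S.π_x h.symm, h.symm.xT_self, U_add, U_smul, h1.2 b (by simp) h.2, S.fix_self h1.1, U_add,
      U_smul, h.symm.xT_self, h.symm.xT_ne _ h.1 (F.n_ne b).symm, inv_smul_eq_iff,
      S.fix_self h2.1]
    module
  obtain ⟨s, -, h5, -⟩ := split h.symm.nr h4
  set ρ := (S.x b (F.n a) s)⁻¹ * (m'⁻¹ * (y * (S.x a b t * m * (S.x a b t)⁻¹) * y⁻¹)) with hρ
  have h6 := S.x_mem' h.symm.nr s
  rw [F.nn] at h6
  have h7 : S.w a b t * m * (S.w a b t)⁻¹ * ρ⁻¹ ∈ S.R a := by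
    have := mul_mem (mul_mem (mul_mem hx h2.1) h6)
      (conj_RR h.symm h5 (by simp) (by simp) (inv_mem hx))
    convert this using 1
    rw [hρ, w, stW, ← hy]; group
  obtain ⟨z, h8, h9⟩ := S.exists_conj hm.1 (w_a (S := S) h ht) (w_na h ht)
  have := S.mem_of_eq h h7 (mul_mem h8 (inv_mem h5.1)) (by simp [h9])
  simpa using mul_mem this h5.1

theorem w_conj_a (hN : F.ND) (h : F.D a b) {t : K} (ht : t ≠ 0) {m : G} (hm : m ∈ S.R a) :
    S.w a b t * m * (S.w a b t)⁻¹ ∈ S.R b := by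
  obtain ⟨v, α, hα, h1, h2, h3⟩ := hN _ _ h.symm.nl
  obtain ⟨z, hz, hz'⟩ := S.surj h1
  have hza : π z • F.e a = F.e a := hz' ▸ (h1.fix_iff h.nr.symm.2).mpr h2
  have hzn : π z • F.e (F.n a) = F.e (F.n a) := hz' ▸ (h1.fix_iff h.nr.symm.nr.2).mpr h3
  obtain ⟨u, hu⟩ := S.exists_smul hm h.2
  obtain ⟨s, hs⟩ : ∃ s, π (z * S.x a (F.n b) s * z⁻¹) • F.e b = F.e b + u • F.e a := by
    have h4 := h1.inv.T_en
    rw [← h1.T_inv, F.nn, ← hz'] at h4
    have hq : O.B ((π z)⁻¹ • F.e b) (F.e b) ≠ 0 := by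
      simp [h4, show O.B v (F.e b) = 0 by simpa [F.nn] using h1.perp', F.B_ee, B_n, F.ε_ne, hα,
        O.η_ne]
    have hq' : O.B ((π z)⁻¹ • F.e b) (F.e a) = 0 := by rw [← B_U_right, hza, h.symm.B]
    have := O.η_ne
    have := O.σ_ne (F.ε_ne (F.n b))
    refine ⟨u * O.σ (F.ε (F.n b)) / (O.η * O.B ((π z)⁻¹ • F.e b) (F.e b)), ?_⟩
    rw [map_mul, map_mul, map_inv, mul_smul, mul_smul, S.π_x h.nr, xT, (h.nr.ok_xv _).T_smul, hq',
      U_add, U_add, smul_inv_smul, U_smul, U_smul, hza]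
    simp only [xv, F.nn, map_smulₛₗ, smul_eq_mul, map_neg, map_div₀, O.σσ, zero_smul, add_zero,
      zero_mul]
    congr 2
    field_simp
    ring
  have h4 := S.conj h.symm.nl hz hza hzn (S.x_mem h.nr s)
  have h5 : (z * S.x a (F.n b) s * z⁻¹)⁻¹ * m ∈ S.RR a {b}ᶜ := by
    refine ⟨mul_mem (inv_mem h4) hm, fun i hi _ => ?_⟩
    obtain rfl : i = b := by simpa using hi
    rw [map_mul, map_inv, mul_smul, hu, ← hs, inv_smul_smul]
  have h6 : S.w a b t * z * (S.w a b t)⁻¹ ∈ S.R (F.n a) := by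
    rw [w_swap h]
    refine w_conj_aux h.symm.nl.nr (sw_ne ht) ⟨hz, fun i hi _ => ?_⟩
    obtain rfl : i = F.n a := by simpa using hi
    exact hzn
  have h7 := S.conj h.nl h6 (by
      rw [map_mul, map_mul, map_inv, mul_smul, mul_smul,
        inv_smul_of_line (by simpa) (w_a h ht), U_smul, hza, U_smul, w_a h ht,
        inv_smul_smul₀ (by simpa)]) (by
      rw [map_mul, map_mul, map_inv, mul_smul, mul_smul,
        inv_smul_of_line (sw_ne ht) (w_na h ht), U_smul, hzn, U_smul, w_na h ht,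
        inv_smul_smul₀ (sw_ne ht)])
    (w_conj_aux h ht (x_mem_RR h.nr s (by simpa using F.n_ne b)))
  convert mul_mem h7 (w_conj_aux h ht h5) using 1
  group

theorem mon_w (hN : F.ND) (h : F.D a b) {t : K} (ht : t ≠ 0) : S.Mon (S.w a b t) (F.sw a b) := by
  have key : ∀ {a b : I}, F.D a b → ∀ {t : K}, t ≠ 0 → ∀ y ∈ S.R b,
      S.w a b t * y * (S.w a b t)⁻¹ ∈ S.R a := fun h t ht y hy =>
    conj_inv_of (w_b h ht) (w_nb h ht) (fun y hy => by
      have := w_conj_a hN h (neg_ne_zero.mpr ht) hy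
      rwa [w_neg h, inv_inv] at this) hy
  refine ⟨fun i => ?_, h.sw_n, fun k y hy => ?_⟩
  · rcases cases5 (F := F) a b i with rfl | rfl | rfl | rfl | ⟨h1, h2⟩
    · rw [h.sw_a]; exact ⟨_, w_a h ht⟩
    · rw [h.sw_b]; exact ⟨_, w_b h ht⟩
    · rw [h.sw_na]; exact ⟨_, w_na h ht⟩
    · rw [h.sw_nb]; exact ⟨_, w_nb h ht⟩
    · exact ⟨1, by rw [sw_of_D h1 h2, w_of_D h t h1 h2, one_smul]⟩
  · rcases cases5 (F := F) a b k with rfl | rfl | rfl | rfl | ⟨h1, h2⟩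
    · rw [h.sw_a]; exact w_conj_a hN h ht hy
    · rw [h.sw_b]; exact key h ht y hy
    · rw [h.sw_na, w_swap h]; exact key h.symm.nl.nr (sw_ne ht) y hy
    · rw [h.sw_nb, w_swap h]; exact w_conj_a hN h.symm.nl.nr (sw_ne ht) hy
    · rw [sw_of_D h1 h2]
      have e1 : ∀ s, ∀ y ∈ S.R k, S.x a b s * y * (S.x a b s)⁻¹ ∈ S.R k := fun s y =>
        conj_RR h1 (x_mem_RR h s (Set.mem_singleton b)) h2.1 h2.nr.1
      have e2 : ∀ s, ∀ y ∈ S.R k, S.x b a s * y * (S.x b a s)⁻¹ ∈ S.R k := fun s y =>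
        conj_RR h2 (x_mem_RR h.symm s (Set.mem_singleton a)) h1.1 h1.nr.1
      convert e1 t _ (e2 (-t⁻¹) _ (e1 t y hy)) using 1
      rw [w, stW]; group

theorem isR1 (hN : F.ND) (h : F.D a b) : IsR1 (S.x a b) (S.x b a) where
  addx := S.x_add h
  addy := S.x_add h.symm
  wx t ht u := by
    have := (mon_w (S := S) hN h ht).x h (by rw [h.sw_a]; exact w_a h ht)
      (by rw [h.sw_b]; exact w_b h ht) u
    rw [h.sw_a, h.sw_b] at this
    rw [show -(t⁻¹ ^ 2 * u) = -t⁻¹ * u / t by field_simp]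
    exact this

theorem mon_h (hN : F.ND) (h : F.D a b) {t : K} (ht : t ≠ 0) : S.Mon (S.h a b t) 1 :=
  h.sw_sw ▸ (mon_w hN h ht).mul (mon_w hN h (neg_ne_zero.mpr one_ne_zero))

theorem π_h (t : K) : π (S.h a b t) = π (S.w a b t) * π (S.w a b (-1)) := map_mul π _ _

theorem h_a (h : F.D a b) {t : K} (ht : t ≠ 0) : π (S.h a b t) • F.e a = t • F.e a := by
  rw [π_h, mul_smul, w_a h (by simp), U_smul, w_b h ht]; simp

theorem h_b (h : F.D a b) {t : K} (ht : t ≠ 0) : π (S.h a b t) • F.e b = t⁻¹ • F.e b := by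
  rw [π_h, mul_smul, w_b h (by simp), U_smul, w_a h ht]; simp

theorem h_na (h : F.D a b) {t : K} (ht : t ≠ 0) :
    π (S.h a b t) • F.e (F.n a) = (O.σ t)⁻¹ • F.e (F.n a) := by
  rw [π_h, mul_smul, w_na h (by simp), U_smul, w_nb h ht, smul_smul]
  have := F.ε_ne a
  have := F.ε_ne b
  congr 1; simp; field_simp

theorem h_nb (h : F.D a b) {t : K} (ht : t ≠ 0) :
    π (S.h a b t) • F.e (F.n b) = O.σ t • F.e (F.n b) := by
  rw [π_h, mul_smul, w_nb h (by simp), U_smul, w_na h ht, smul_smul]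
  have := F.ε_ne a
  have := F.ε_ne b
  congr 1; simp; field_simp

theorem h_of_D (h : F.D a b) (t : K) {k : I} (ha : F.D a k) (hb : F.D b k) :
    π (S.h a b t) • F.e k = F.e k := by
  rw [π_h, mul_smul, w_of_D h _ ha hb, w_of_D h _ ha hb]

end CSt

end Cfsg.Agent.H6
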