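import Cfsg.Agent.H6.CBase
import Cfsg.Agent.H6.StMult

/-! The standard Steinberg system, products of systems and the elementary group. -/

set_option autoImplicit false

open scoped commutatorElement

namespace Cfsg.Agent.H6

open OF Subgroup

variable {K V I G G' : Type*} [Field K] [AddCommGroup V] [Module K V] [Group G] [Group G']

theorem OF.Ok.T_add_self {O : OF K V} {e v : V} {α : K} (h : O.Ok e v α) (c : K) :
    O.Ok e (v + c • e) (α - O.η * O.σ 0) ∧
      O.T e v α = O.T e (v + c • e) α * O.T e 0 (O.η * O.σ c - c) := by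
  have h1 : O.Ok e (v + c • e) α := ⟨h.sing, by simp [h.perp, B_self h.sing],
    Λ_congr (O.add h.mem (smul_zero' c h.sing)) rfl (by simp [O.B_eq_zero_comm h.perp])⟩
  have h2 : O.Ok e 0 (O.η * O.σ c - c) := ⟨h.sing, by simp,
    Λ_congr (O.min (-c)) rfl (by simp; ring)⟩
  refine ⟨by simpa using h1, U_ext fun x => ?_⟩
  rw [h1.T_mul h2, h.T_smul, (h1.add h2).T_smul]
  simp only [add_zero, map_add, map_smulₛₗ, smul_eq_mul, map_zero, LinearMap.zero_apply]
  module

theorem CSt.mem_Lu {O : OF K V} {F : Frame O I} {π : G →* O.U} {S : CSt F π} {k : I} {g : G}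
    (h : g ∈ S.R k) : g ∈ S.L Set.univ := CSt.mem_L (Set.mem_univ k) (CSt.mem_RR_univ h)

namespace Frame

variable {O : OF K V} (F : Frame O I)

/-- The unipotent radical of the stabiliser of a frame point. -/
def Q (k : I) : Subgroup O.U where
  carrier := {g | ∃ v α, F.Ok k v α ∧ g = O.T (F.e k) v α}
  one_mem' := ⟨0, 0, ⟨Ok.zero (F.sing k), by simp⟩, (T_zero _).symm⟩
  mul_mem' := by
    rintro _ _ ⟨v, α, h, rfl⟩ ⟨w, β, h', rfl⟩
    exact ⟨_, _, h.add h', h.T_mul h'.toOk⟩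
  inv_mem' := by
    rintro _ ⟨v, α, h, rfl⟩
    exact ⟨_, _, h.inv, h.T_inv⟩

/-- The standard Steinberg system. -/
def std : CSt F (MonoidHom.id O.U) where
  R := F.Q
  img h := h
  surj h := ⟨_, ⟨_, _, h, rfl⟩, rfl⟩
  inj _ h := h
  swap {i j g} c h _ e := ⟨_, _, h.symm.ok_line _,
    e.trans (T_swap (F.sing i) (F.sing j) h.symm.B c)⟩
  conj := by
    rintro k j g _ - - h1 h2 ⟨v, α, h, rfl⟩
    rw [MonoidHom.id_apply] at h1 h2
    refine ⟨g • v, α, ⟨h1 ▸ h.toOk.map g, ?_⟩, by rw [h.conj_T, h1]⟩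
    rw [← h2, B_U, h.perp']

/-- The elementary group. -/
def E : Subgroup O.U := F.std.L Set.univ

variable {F}

theorem std_x {i j : I} (h : F.D i j) (s : K) : F.std.x i j s = F.xT i j s := F.std.π_x h s

theorem Q_le_E (k : I) : F.Q k ≤ F.E := fun _ h => CSt.mem_Lu (S := F.std) h

theorem Ok.mem_E {k : I} {v : V} {α : K} (h : F.Ok k v α) : O.T (F.e k) v α ∈ F.E :=
  Q_le_E k ⟨v, α, h, rfl⟩

theorem D.xT_mem {i j : I} (h : F.D i j) (s : K) : F.xT i j s ∈ F.E := (h.ok_xv s).mem_E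

theorem E_le {H : Subgroup O.U} (h : ∀ k, F.Q k ≤ H) : F.E ≤ H :=
  (closure_le _).mpr fun _ ⟨k, _, hg⟩ => h k hg.1

theorem conj_mem_Q {k k' : I} {g y : O.U} {c d : K} (h1 : g • F.e k = c • F.e k')
    (h2 : g • F.e (F.n k) = d • F.e (F.n k')) (hy : y ∈ F.Q k) : g * y * g⁻¹ ∈ F.Q k' := by
  obtain ⟨y', h3, h4⟩ := F.std.exists_conj hy h1 h2
  exact h4 ▸ h3

theorem T_mem_E {k : I} {v : V} {α : K} (h : O.Ok (F.e k) v α) : O.T (F.e k) v α ∈ F.E := by
  obtain ⟨h1, h2⟩ := h.T_add_self (-(O.B v (F.e (F.n k)) / F.ε (F.n k)))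
  rw [h2]
  refine mul_mem (Ok.mem_E ⟨by simpa using h1, by simp [B_n', F.ε_ne]⟩) (Ok.mem_E ⟨⟨F.sing k,
    by simp, Λ_congr (O.min (O.B v (F.e (F.n k)) / F.ε (F.n k))) rfl (by simp; ring)⟩, by simp⟩)

theorem w_mem_E {a b : I} (h : F.D a b) (t : K) : F.std.w a b t ∈ F.E :=
  CSt.A_le_L h (Set.mem_univ _) (Set.mem_univ _) (CSt.w_mem_A t)

theorem h_mem_E {a b : I} (h : F.D a b) (t : K) : F.std.h a b t ∈ F.E :=
  mul_mem (w_mem_E h t) (w_mem_E h _)

theorem k_mem_E {a b : I} (h : F.D a b) (t : K) : F.std.k a b t ∈ F.E :=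
  mul_mem (h_mem_E h t) (inv_mem (h_mem_E h.nr t))

/-- The elementary group permutes the frame lines transitively. -/
def Tr (F : Frame O I) : Prop := ∀ i j, ∃ g ∈ F.E, ∃ c d : K, g • F.e i = c • F.e j ∧
  g • F.e (F.n i) = d • F.e (F.n j)

theorem tr_of_D (h : ∀ a, ∃ b, F.D a b) : F.Tr := fun i j => by
  have key : ∀ {i j}, F.D i j → ∃ g ∈ F.E, ∃ c d : K, g • F.e i = c • F.e j ∧
      g • F.e (F.n i) = d • F.e (F.n j) := fun h =>
    ⟨_, w_mem_E h 1, _, _, CSt.w_a (S := F.std) h one_ne_zero,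
      CSt.w_na (S := F.std) h one_ne_zero⟩
  rcases cases3 (F := F) i j with rfl | rfl | hij
  · exact ⟨1, one_mem _, 1, 1, by simp, by simp⟩
  · obtain ⟨b, hb⟩ := h i
    obtain ⟨g, hg, c, d, h1, h2⟩ := key hb
    obtain ⟨g', hg', c', d', h3, h4⟩ := key hb.symm.nr
    exact ⟨_, mul_mem hg' hg, c * c', d * d', by rw [mul_smul, h1, U_smul, h3, mul_smul],
      by rw [mul_smul, h2, U_smul, h4, mul_smul]⟩
  · exact key hij

theorem Tr.exists_smul (hT : F.Tr) {x : V} (hx : O.Λ x 0) (h0 : x ≠ 0) (a : I) :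
    ∃ g ∈ F.E, ∃ c : K, c ≠ 0 ∧ g • x = c • F.e a := by
  obtain ⟨i, hi⟩ : ∃ i, O.B x (F.e i) ≠ 0 := by
    by_contra h
    push Not at h
    exact h0 (F.aniso x h hx)
  obtain ⟨v, α, h1, -, -, h2⟩ := exists_T_smul_eq (F.sing i) (F.sing (F.n i)) (F.pair i) hx hi
  obtain ⟨g, hg, c, d, h3, h4⟩ := hT (F.n i) a
  exact ⟨_, mul_mem hg (T_mem_E h1), _, mul_ne_zero (div_ne_zero hi (F.pair i)) (line_n h3 h4).1,
    by rw [mul_smul, h2, U_smul, h3, smul_smul]⟩

theorem Tr.T_mem (hT : F.Tr) (a : I) {x v : V} {α : K} (h : O.Ok x v α) (h0 : x ≠ 0) :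
    O.T x v α ∈ F.E := by
  obtain ⟨g, hg, c, hc, h1⟩ := hT.exists_smul h.sing h0 a
  have := T_mem_E (Ok.of_smul hc (h1 ▸ h.map g))
  rw [← h.conj_T' hc h1] at this
  simpa [mul_assoc] using mul_mem (mul_mem (inv_mem hg) this) hg

theorem Tr.normal (hT : F.Tr) : F.E.Normal := ⟨fun y hy g => by
  refine E_le (H := F.E.comap (MulAut.conj g).toMonoidHom) ?_ hy
  rintro k _ ⟨v, α, h, rfl⟩
  change g * _ * g⁻¹ ∈ F.E
  rw [h.conj_T]
  exact hT.T_mem k (h.toOk.map g) ((smul_ne_zero_iff_ne g).mpr (F.e_ne k))⟩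

theorem Tr.exists_line (hT : F.Tr) (g : O.U) (a : I) : ∃ l ∈ F.E, ∃ c d : K,
    (l * g) • F.e a = c • F.e a ∧ (l * g) • F.e (F.n a) = d • F.e (F.n a) := by
  obtain ⟨l, hl, c, hc, h1⟩ := hT.exists_smul (x := g • F.e a) (by simpa using F.sing a)
    ((smul_ne_zero_iff_ne g).mpr (F.e_ne a)) a
  rw [← mul_smul] at h1
  obtain ⟨v, α, h2, -, -, h3⟩ := exists_T_smul_eq (x := (l * g) • F.e (F.n a)) (F.sing a)
    (F.sing (F.n a)) (F.pair a) (by simpa using F.sing _) (by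
      rw [B_U_left, inv_smul_of_line hc h1]; simpa [hc] using F.pair a)
  refine ⟨_, mul_mem (T_mem_E h2) hl, c, _, ?_, by rw [mul_assoc, mul_smul, h3]⟩
  rw [mul_assoc, mul_smul, h1, U_smul, h2.T_smul]
  simp [F.B_ee, O.B_eq_zero_comm h2.perp]

end Frame

namespace CSt

open Frame

variable {O : OF K V} {F : Frame O I} {π : G →* O.U} {π' : G' →* O.U}

/-- Homomorphisms of Steinberg systems. -/
structure Hom (S : CSt F π) (S' : CSt F π') (φ : G →* G') : Prop where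
  comp : ∀ g, π' (φ g) = π g
  mem : ∀ {k g}, g ∈ S.R k → φ g ∈ S'.R k

variable {S : CSt F π} {S' : CSt F π'} {φ : G →* G'}

theorem hom_std (S : CSt F π) : S.Hom F.std π := ⟨fun _ => rfl, S.img⟩

namespace Hom

variable (H : S.Hom S' φ) {a b : I}
include H

theorem x (h : F.D a b) (s : K) : φ (S.x a b s) = S'.x a b s :=
  S'.ext (H.mem (S.x_mem h s)) (S'.x_mem h s) (by rw [H.comp, S.π_x h, S'.π_x h])

theorem w (h : F.D a b) (s : K) : φ (S.w a b s) = S'.w a b s := by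
  simp only [CSt.w, stW, map_mul, H.x h, H.x h.symm]

theorem h (h : F.D a b) (s : K) : φ (S.h a b s) = S'.h a b s := by
  rw [CSt.h, stH, map_mul, ← CSt.w, ← CSt.w, H.w h, H.w h]; rfl

theorem k (h : F.D a b) (s : K) : φ (S.k a b s) = S'.k a b s := by
  rw [CSt.k, map_mul, map_inv, H.h h, H.h h.nr, CSt.k]

theorem map_L : (S.L Set.univ).map φ = S'.L Set.univ := by
  rw [L, MonoidHom.map_closure, L]
  congr 1
  ext g
  constructor
  · rintro ⟨g, ⟨k, -, hg⟩, rfl⟩
    exact ⟨k, trivial, mem_RR_univ (H.mem hg.1)⟩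
  · rintro ⟨k, -, hg⟩
    obtain ⟨v, α, h1, h2⟩ := S'.img hg.1
    obtain ⟨y, h3, h4⟩ := S.surj h1
    exact ⟨y, ⟨k, trivial, mem_RR_univ h3⟩, S'.ext (H.mem h3) hg.1 (by rw [H.comp, h4, h2])⟩

end Hom

/-- The fibre product of two groups over the isometry group. -/
def FP (π : G →* O.U) (π' : G' →* O.U) : Subgroup (G × G') :=
  (π.comp (MonoidHom.fst _ _)).eqLocus (π'.comp (MonoidHom.snd _ _))

/-- The first projection. -/
def FP.fst : FP π π' →* G := (MonoidHom.fst _ _).comp (Subgroup.subtype _)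

/-- The second projection. -/
def FP.snd : FP π π' →* G' := (MonoidHom.snd _ _).comp (Subgroup.subtype _)

theorem FP.eq (g : FP π π') : π' (FP.snd g) = π (FP.fst g) := g.2.symm

theorem FP.ext {g h : FP π π'} (h1 : FP.fst g = FP.fst h) (h2 : FP.snd g = FP.snd h) : g = h :=
  Subtype.ext (Prod.ext h1 h2)

variable (S S') in
/-- The product of two Steinberg systems. -/
def prod : CSt F (π.comp (FP.fst (π := π) (π' := π'))) where
  R k := (S.R k).comap FP.fst ⊓ (S'.R k).comap FP.snd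
  img h := S.img h.1
  surj h := by
    obtain ⟨g, h1, h2⟩ := S.surj h
    obtain ⟨g', h3, h4⟩ := S'.surj h
    exact ⟨⟨(g, g'), h2.trans h4.symm⟩, ⟨h1, h3⟩, h2⟩
  inj h e := FP.ext (S.inj h.1 e) (S'.inj h.2 ((FP.eq _).trans e))
  swap c h h1 e := ⟨S.swap c h h1.1 e, S'.swap c h h1.2 ((FP.eq _).trans e)⟩
  conj {k j g y} h h1 h2 h3 h4 := ⟨S.conj h h1.1 h2 h3 h4.1,
    S'.conj (g := FP.snd g) h h1.2 (by rw [FP.eq g]; exact h2) (by rw [FP.eq g]; exact h3) h4.2⟩

theorem hom_fst : (S.prod S').Hom S FP.fst := ⟨fun _ => rfl, fun h => h.1⟩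

theorem hom_snd : (S.prod S').Hom S' FP.snd := ⟨FP.eq, fun h => h.2⟩

theorem exists_hom (hS : S.L Set.univ = ⊤)
    (h : ∀ g ∈ (S.prod S').L Set.univ, FP.fst g = 1 → g = 1) :
    ∃ ψ : G →* G', S.Hom S' ψ := by
  let f : (S.prod S').L Set.univ →* G := FP.fst.comp (Subgroup.subtype _)
  have hf : Function.Bijective f := by
    refine ⟨(injective_iff_map_eq_one f).mpr fun g hg => Subtype.ext (h g g.2 hg), fun g => ?_⟩
    have : g ∈ ((S.prod S').L Set.univ).map FP.fst := by rw [hom_fst.map_L, hS]; trivial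
    obtain ⟨y, hy, rfl⟩ := this
    exact ⟨⟨y, hy⟩, rfl⟩
  let e := MulEquiv.ofBijective f hf
  have he : ∀ g, FP.fst (e.symm g).1 = g := e.apply_symm_apply
  refine ⟨FP.snd.comp ((Subgroup.subtype _).comp e.symm.toMonoidHom), fun g => ?_,
    fun {k g} hg => ?_⟩
  · exact (FP.eq _).trans (congrArg π (he g))
  · obtain ⟨v, α, h1, h2⟩ := S.img hg
    obtain ⟨y, h3, h4⟩ := (S.prod S').surj h1
    have h5 : e.symm g = ⟨y, mem_Lu h3⟩ :=
      e.symm_apply_eq.mpr (S.ext hg h3.1 (h2.trans h4.symm))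
    change FP.snd (e.symm g).1 ∈ _
    rw [h5]; exact h3.2

/-- Restriction of a Steinberg system along an injective homomorphism. -/
def comap (S : CSt F π) (φ : G' →* G) (hφ : Function.Injective φ) (h : ∀ k, S.R k ≤ φ.range) :
    CSt F (π.comp φ) where
  R k := (S.R k).comap φ
  img h := S.img h
  surj {k v α} h1 := by
    obtain ⟨g, h2, h3⟩ := S.surj h1
    obtain ⟨g, rfl⟩ := h k h2
    exact ⟨g, h2, h3⟩
  inj h e := hφ ((S.inj h e).trans φ.map_one.symm)
  swap c h h1 e := S.swap c h h1 e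
  conj h h1 h2 h3 h4 := by simpa using S.conj h h1 h2 h3 h4

theorem hom_comap (S : CSt F π) (φ : G' →* G) (hφ : Function.Injective φ)
    (h : ∀ k, S.R k ≤ φ.range) : (S.comap φ hφ h).Hom S φ := ⟨fun _ => rfl, fun h => h⟩

theorem comap_L_eq_top (S : CSt F π) (φ : G' →* G) (hφ : Function.Injective φ)
    (h : φ.range = S.L Set.univ) :
    (S.comap φ hφ fun _ _ hg => h ▸ mem_Lu hg).L Set.univ = ⊤ := by
  apply map_injective hφ
  rw [(hom_comap S φ hφ _).map_L, ← h, MonoidHom.range_eq_map]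

theorem comm_x {i j l : I} (hij : F.D i j) (hjl : F.D j l) (hil : F.D i l) (s t : K) :
    ⁅S.x i j s, S.x j l t⁆ = S.x i l (s * t) := by
  refine S.ext ?_ (S.x_mem hil _) ?_
  · rw [commutatorElement_def, mul_assoc, mul_assoc]
    refine mul_mem (S.x_mem hij s) ?_
    rw [← mul_assoc]
    exact conj_RR hij.symm (x_mem_RR hjl t (Set.mem_singleton l)) hil.1.symm
      hil.nl.1.symm (inv_mem (S.x_mem hij s))
  have e1 := hjl.xT_ne t hil.1.symm hij.symm.2
  have e2 := hjl.xT_n t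
  rw [map_commutatorElement, S.π_x hij, S.π_x hjl, S.π_x hil, commutatorElement_def, mul_assoc,
    mul_assoc, ← mul_assoc (F.xT j l t)]
  generalize F.xT j l t = g at e1 e2
  rw [xT, (hij.ok_xv s).T_inv, (hij.ok_xv s).inv.conj_T, e1, (hij.ok_xv s).T_mul, xT]
  · congr 1
    · simp only [xv, U_neg, U_smul, e2, map_mul]
      have := F.ε_ne j
      match_scalars
      · ring
      · field_simp
    · simp [xv, e2, F.B_ee, hjl.nl.nr.symm.B]
  · simpa [e1] using (hij.ok_xv s).inv.toOk.map g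

theorem L_le_commutator (h3 : ∀ a b, ∃ c, F.D a c ∧ F.D b c) :
    S.L Set.univ ≤ ⁅S.L Set.univ, S.L Set.univ⁆ := by
  have hx : ∀ {a b}, F.D a b → ∀ s, S.x a b s ∈ S.L Set.univ := fun h s =>
    mem_Lu (S.x_mem h s)
  have hx' : ∀ {a b}, F.D a b → ∀ s, S.x a b s ∈ ⁅S.L Set.univ, S.L Set.univ⁆ := fun {a b} h s => by
    obtain ⟨c, h1, h2⟩ := h3 a b
    rw [← mul_one s, ← comm_x h1 h2.symm h]
    exact commutator_mem_commutator (hx h1 _) (hx h2.symm _)
  refine (closure_le _).mpr fun g ⟨k, _, hg⟩ => ?_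
  obtain ⟨b, hb, -⟩ := h3 k k
  refine RR_le_of hb (hx' hb) (hx' hb.nr) (fun y hy _ _ => ?_) hg
  simpa [commutatorElement_def] using mul_mem
    (commutator_mem_commutator (mem_Lu hy.1) (hx hb (-1))) (hx' hb (-1))

end CSt

theorem hasSchur_of.{u} {A : Type*} [CommGroup A] {E G : Type u} [Group E] [Group G] [Finite G]
    (p : G →* E) (hp : Function.Surjective p) (hc : p.ker ≤ center G) (hG : commutator G = ⊤)
    (e : (center E).comap p ≃* A)
    (h : ∀ (Γ : Type u) [Group Γ] (σ : Γ →* E), Function.Surjective σ → σ.ker ≤ center Γ →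
      ∃ ψ : G →* Γ, σ.comp ψ = p) : HasSchurMultiplier (E ⧸ center E) A := by
  let π : G →* E ⧸ center E := (QuotientGroup.mk' _).comp p
  have hπ : Function.Surjective π := (QuotientGroup.mk'_surjective _).comp hp
  have hker : π.ker = (center E).comap p := by
    rw [← MonoidHom.comap_ker, QuotientGroup.ker_mk']
  refine ⟨⟨G, inferInstance, inferInstance, π, ⟨hπ, fun z hz => ?_, hG ▸ le_top⟩,
    ⟨(MulEquiv.subgroupCongr hker).trans e⟩⟩, fun Γ _ _ σ hσ => ?_⟩
  · rw [hker] at hz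
    have h1 : ∀ g, ⁅z, g⁆ ∈ center G := fun g => hc (by
      rw [MonoidHom.mem_ker, map_commutatorElement, commutatorElement_eq_one_iff_mul_comm]
      exact (mem_center_iff.mp hz _).symm)
    have h2 : commutator G ≤ centralizer {z} := by
      rw [commutator_def, commutator_le]
      intro a _ b _
      rw [mem_centralizer_singleton_iff, eq_comm]
      have e : ∀ g, z * g * z⁻¹ = g * ⁅z, g⁆ := fun g => by
        rw [mem_center_iff.mp (h1 g), commutatorElement_def]; group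
      rw [← mul_inv_eq_iff_eq_mul, conjugate_commutatorElement, e, e]
      exact (CExt.ofSurj (QuotientGroup.mk'_surjective (center G)) (QuotientGroup.ker_mk' _).le
        ).comm_congr (by simp [h1]) (by simp [h1])
    exact mem_center_iff.mpr fun g => mem_centralizer_singleton_iff.mp (h2 (hG ▸ mem_top g))
  · let Γ' := (σ.comp (MonoidHom.fst Γ E)).eqLocus
      ((QuotientGroup.mk' _).comp (MonoidHom.snd Γ E))
    obtain ⟨ψ, hψ⟩ := h Γ' ((MonoidHom.snd Γ E).comp Γ'.subtype) (fun x => by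
      obtain ⟨y, hy⟩ := hσ.1 (QuotientGroup.mk x)
      exact ⟨⟨(y, x), hy⟩, rfl⟩) (fun z hz => mem_center_iff.mpr fun g => Subtype.ext (by
        have h1 : z.1.2 = 1 := hz
        have h2 : σ z.1.1 = 1 := by
          have : σ z.1.1 = QuotientGroup.mk z.1.2 := z.2
          rw [this, h1]; rfl
        exact Prod.ext (mem_center_iff.mp (hσ.2.1 h2) _) (by simp [h1])))
    obtain ⟨f, hf⟩ := exists_surj_ker hσ hπ
      (ψ := ((MonoidHom.fst Γ E).comp Γ'.subtype).comp ψ) (MonoidHom.ext fun g => by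
        have : σ (ψ g).1.1 = QuotientGroup.mk (ψ g).1.2 := (ψ g).2
        exact this.trans (congrArg QuotientGroup.mk (DFunLike.congr_fun hψ g)))
    exact ⟨f.comp ((MulEquiv.subgroupCongr hker).trans e).symm.toMonoidHom,
      hf.comp ((MulEquiv.subgroupCongr hker).trans e).symm.surjective⟩

end Cfsg.Agent.H6
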