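import Cfsg.Agent.H6.CSchur

/-! Long root elements, rank one Weyl elements and diagonal elements. -/

set_option autoImplicit false

open scoped commutatorElement

namespace Cfsg.Agent.H6

open OF Subgroup

variable {K V I : Type*} [Field K] [AddCommGroup V] [Module K V]

namespace Frame

variable {O : OF K V} {F : Frame O I}

/-- Vectors orthogonal to a hyperbolic pair of the frame. -/
def W (F : Frame O I) (k : I) (v : V) : Prop := O.B v (F.e k) = 0 ∧ O.B v (F.e (F.n k)) = 0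

/-- Long root elements. -/
noncomputable def Z (F : Frame O I) (k : I) (α : K) : O.U := O.T (F.e k) 0 α

theorem W.ok {k : I} {v : V} (h : F.W k v) {α : K} (hα : O.Λ v α) : F.Ok k v α :=
  ⟨⟨F.sing k, h.1, hα⟩, h.2⟩

theorem Ok.W {k : I} {v : V} {α : K} (h : F.Ok k v α) : F.W k v := ⟨h.perp, h.perp'⟩

theorem W_zero (k : I) : F.W k 0 := ⟨by simp, by simp⟩

theorem W.add {k : I} {v w : V} (h : F.W k v) (h' : F.W k w) : F.W k (v + w) :=
  ⟨by simp [h.1, h'.1], by simp [h.2, h'.2]⟩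

theorem W.smul {k : I} {v : V} (h : F.W k v) (c : K) : F.W k (c • v) :=
  ⟨by simp [h.1], by simp [h.2]⟩

theorem W.neg {k : I} {v : V} (h : F.W k v) : F.W k (-v) := ⟨by simp [h.1], by simp [h.2]⟩

theorem W.sub {k : I} {v w : V} (h : F.W k v) (h' : F.W k w) : F.W k (v - w) :=
  sub_eq_add_neg v w ▸ h.add h'.neg

theorem W.n {k : I} {v : V} (h : F.W k v) : F.W (F.n k) v := ⟨h.2, by rw [F.nn]; exact h.1⟩

theorem D.W {k j : I} (h : F.D k j) : F.W k (F.e j) := ⟨h.symm.B, h.symm.nr.B⟩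

theorem V0.W {u : V} (h : F.V0 u) (k : I) : F.W k u := ⟨h _, h _⟩

theorem W.map {k : I} {v : V} (h : F.W k v) {g : O.U} {c d : K} (h1 : g • F.e k = c • F.e k)
    (h2 : g • F.e (F.n k) = d • F.e (F.n k)) : F.W k (g • v) := by
  obtain ⟨hc, hd⟩ := line_n h1 h2
  exact ⟨by simp [B_U_left, inv_smul_of_line hc h1, h.1],
    by simp [B_U_left, inv_smul_of_line hd h2, h.2]⟩

theorem W.proj {k j : I} (h : F.D k j) {v : V} (hv : F.W k v) : ∃ (c d : K) (u : V),
    F.W k u ∧ F.W j u ∧ v = u + c • F.e j + d • F.e (F.n j) := by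
  obtain ⟨c, d, u, h1, h2, e⟩ := exists_proj (F := F) j v
  refine ⟨c, d, u, ?_, ⟨h1, h2⟩, e⟩
  rw [show u = v - c • F.e j - d • F.e (F.n j) by rw [e]; abel]
  exact (hv.sub (h.W.smul c)).sub (h.nr.W.smul d)

theorem okZ (k : I) {α : K} (h : O.Λ 0 α) : F.Ok k 0 α := (W_zero k).ok h

theorem Z_mem_Q (k : I) {α : K} (h : O.Λ 0 α) : F.Z k α ∈ F.Q k := ⟨_, _, okZ k h, rfl⟩

theorem Z_zero (k : I) : F.Z k 0 = 1 := T_zero _

theorem Λ0_add {α β : K} (h : O.Λ 0 α) (h' : O.Λ 0 β) : O.Λ 0 (α + β) := by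
  simpa using O.add h h'

theorem Z_add (k : I) {α β : K} (h : O.Λ 0 α) (h' : O.Λ 0 β) :
    F.Z k (α + β) = F.Z k α * F.Z k β := by
  rw [Z, Z, Z, (okZ k h).T_mul (okZ k h').toOk]; simp

theorem Z_neg (k : I) {α : K} (h : O.Λ 0 α) : F.Z k (-α) = (F.Z k α)⁻¹ :=
  eq_inv_of_mul_eq_one_left (by rw [← Z_add k (OF.neg_zero h) h, neg_add_cancel, Z_zero])

theorem Z_eq_one {k : I} {α : K} (h : O.Λ 0 α) (e : F.Z k α = 1) : α = 0 :=
  ((okZ k h).eq_of_line (c := 1) (by rw [← Z, e]; simp)).2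

theorem Z_commute {k : I} {α : K} (h : O.Λ 0 α) {g : O.U} (hg : g • F.e k = F.e k) :
    Commute (F.Z k α) g := ((okZ k h).commute hg (U_zero g)).symm

theorem Z_conj {k k' : I} {α : K} (h : O.Λ 0 α) {g : O.U} {c : K} (hc : c ≠ 0)
    (hg : g • F.e k = c • F.e k') : g * F.Z k α * g⁻¹ = F.Z k' (c * O.σ c * α) := by
  rw [Z, (okZ k h).conj_T' hc hg, Z]; simp

theorem Z_smul {k : I} {α : K} (h : O.Λ 0 α) (x : V) :
    F.Z k α • x = x + (α * O.B x (F.e k)) • F.e k := by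
  rw [Z, (okZ k h).T_smul]; simp

theorem Q_fix {k : I} {g : O.U} (h : g ∈ F.Q k) : g • F.e k = F.e k := F.std.fix_self h

theorem Ok.T_eq {k : I} {v : V} {α β : K} (h : F.Ok k v α) (h' : F.Ok k v β) :
    O.Λ 0 (α - β) ∧ O.T (F.e k) v α = O.T (F.e k) v β * F.Z k (α - β) := by
  have h1 : O.Λ 0 (α - β) := Λ_congr (h.add h'.inv).mem (by simp) (by
    simp only [map_neg, LinearMap.neg_apply]
    linear_combination O.η * O.max h'.mem - β * O.ηη)
  exact ⟨h1, by rw [Z, h'.T_mul (okZ k h1).toOk]; simp⟩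

theorem Λ0_comm (v w : V) : O.Λ 0 (O.η * O.B v w - O.η * O.B w v) :=
  Λ_congr (O.min (O.η * O.B v w)) rfl (by rw [map_mul, O.ση, O.σ_B, ← mul_assoc O.η, O.ηη, one_mul])

theorem Ok.comm_T {k : I} {v w : V} {α β : K} (h : F.Ok k v α) (h' : F.Ok k w β) :
    ⁅O.T (F.e k) v α, O.T (F.e k) w β⁆ = F.Z k (O.η * O.B v w - O.η * O.B w v) := by
  rw [commutatorElement_def, mul_inv_eq_iff_eq_mul, mul_inv_eq_iff_eq_mul, mul_assoc,
    h.T_mul h'.toOk, h'.T_mul h.toOk, Z, (okZ k (Λ0_comm v w)).T_mul (h'.add h).toOk]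
  congr 1
  · abel
  · simp; ring

theorem commute_of_lines {k : I} {d g : O.U} {c c' a a' : K} (h1 : d • F.e k = c • F.e k)
    (h2 : d • F.e (F.n k) = c' • F.e (F.n k)) {μ : K} (h3 : ∀ v, F.W k v → d • v = μ • v)
    (h4 : g • F.e k = a • F.e k) (h5 : g • F.e (F.n k) = a' • F.e (F.n k)) : Commute d g :=
  U_ext fun x => by
    obtain ⟨s, t, y, e1, e2, rfl⟩ := exists_proj (F := F) k x
    have e3 : F.W k y := ⟨e1, e2⟩
    rw [mul_smul, mul_smul]
    simp only [U_add, U_smul, h1, h2, h4, h5, h3 y e3, h3 _ (e3.map h4 h5), smul_comm a,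
      smul_comm a']

variable (F) in
/-- The Weyl element attached to an element of a radical. -/
noncomputable def wT (k : I) (v : V) (α : K) : O.U :=
  O.T (F.e k) v α * O.T (F.e (F.n k)) ((-(O.σ (F.ε k * α))⁻¹) • v) (F.ε k * O.σ (F.ε k * α))⁻¹ *
    O.T (F.e k) ((O.η * α / O.σ α) • v) α

section wT

variable {k : I} {v : V} {α : K} (h : F.Ok k v α) (h0 : α ≠ 0)
include h h0

theorem Ok.ok_mid : F.Ok (F.n k) ((-(O.σ (F.ε k * α))⁻¹) • v) (F.ε k * O.σ (F.ε k * α))⁻¹ :=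
  (h.W.n.smul _).ok (Λ_congr (O.smul _ h.mem) rfl (by
    have := F.ε_ne k
    have := O.σ_ne (mul_ne_zero this h0)
    simp only [map_neg, map_inv₀, O.σσ]; field_simp))

theorem Ok.ok_last : F.Ok k ((O.η * α / O.σ α) • v) α :=
  (h.W.smul _).ok (Λ_congr (O.smul _ h.mem) rfl (by
    have := O.σ_ne h0
    simp only [map_mul, map_div₀, O.σσ, O.ση]; field_simp; rw [sq, O.ηη]))

theorem Ok.wT_mem : F.wT k v α ∈ F.E :=
  mul_mem (mul_mem h.mem_E (h.ok_mid h0).mem_E) (h.ok_last h0).mem_E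

theorem Ok.wT_act : F.wT k v α • F.e k = (O.η / (F.ε k * O.σ α)) • F.e (F.n k) ∧
    F.wT k v α • F.e (F.n k) = (α * F.ε k) • F.e k ∧
    ∀ u, F.W k u → F.wT k v α • u = u + (O.η * O.B u v / α) • v := by
  have e1 := F.B_ee
  have e2 := (F.B_n' k).trans (F.ε_n k)
  have e3 := F.B_n k
  have e4 := h.perp
  have e5 := h.perp'
  have e6 := O.B_eq_zero_comm e4
  have e7 := O.B_eq_zero_comm e5
  have e8 : O.B v v = -(O.η * α + O.σ α) := by linear_combination O.max h.mem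
  have n1 := F.ε_ne k
  have n2 := O.σ_ne n1
  have n3 := O.σ_ne h0
  have n4 : O.η ^ 2 = 1 := by rw [sq, O.ηη]
  have n5 : O.η ^ 3 = O.η := by rw [pow_succ, n4, one_mul]
  have n6 : O.η ^ 4 = 1 := by rw [pow_succ, n5, O.ηη]
  have n7 : O.η ^ 5 = O.η := by rw [pow_succ, n6, one_mul]
  refine ⟨?_, ?_, fun u hu => ?_⟩ <;>
    rw [wT, mul_smul, mul_smul, (h.ok_last h0).T_smul, (h.ok_mid h0).T_smul, h.T_smul] <;>
    simp only [map_add,
      map_smulₛₗ, LinearMap.add_apply, LinearMap.smul_apply, smul_eq_mul, e1, e2, e3, e4, e5, e6,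
      e7, e8, RingHom.id_apply, map_neg, map_inv₀, map_mul, map_div₀, O.σσ, O.ση]
  · match_scalars <;> field_simp <;> ring_nf <;> simp only [n4, n5] <;> ring
  · match_scalars <;> field_simp <;> ring_nf <;> simp only [n4, n5] <;> ring
  · simp only [hu.1, hu.2]
    match_scalars <;> field_simp <;> ring_nf <;> simp only [n4, n5, n6, n7] <;> ring

end wT

theorem exists_torus (k : I) {α t : K} (h : O.Λ 0 α) (h0 : α ≠ 0) (ht : t ≠ 0)
    (h' : O.Λ 0 (t * α)) : ∃ d ∈ F.E, d • F.e k = t • F.e k ∧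
      d • F.e (F.n k) = (O.σ t)⁻¹ • F.e (F.n k) ∧ ∀ v, F.W k v → d • v = v := by
  obtain ⟨e1, e2, e3⟩ := (okZ (F := F) k h).wT_act h0
  obtain ⟨f1, f2, f3⟩ := (okZ (F := F) k h').wT_act (mul_ne_zero ht h0)
  have n1 := F.ε_ne k
  have n2 := O.σ_ne h0
  have n3 := O.η_ne
  have n4 := O.σ_ne ht
  refine ⟨_, mul_mem ((okZ k h').wT_mem (mul_ne_zero ht h0)) (inv_mem ((okZ k h).wT_mem h0)), ?_, ?_,
    fun v hv => ?_⟩
  · rw [mul_smul, inv_smul_of_line (mul_ne_zero h0 n1) e2, U_smul, f2, smul_smul]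
    congr 1; field_simp
  · rw [mul_smul, inv_smul_of_line (by simp [*]) e1, U_smul, f1, smul_smul, map_mul]
    congr 1; field_simp
  · rw [mul_smul, inv_smul_eq_iff.mpr (by simpa using (e3 v hv).symm)]
    simpa using f3 v hv

/-- Diagonal elements. -/
structure Dg (F : Frame O I) (d : O.U) (μ : I → K) (μ₀ : K) : Prop where
  lin : ∀ i, d • F.e i = μ i • F.e i
  v0 : ∀ u, F.V0 u → d • u = μ₀ • u

theorem Dg.ne {d : O.U} {μ : I → K} {μ₀ : K} (h : F.Dg d μ μ₀) (i : I) : μ i ≠ 0 :=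
  (line_n (h.lin i) (h.lin _)).1

theorem Dg.n {d : O.U} {μ : I → K} {μ₀ : K} (h : F.Dg d μ μ₀) (i : I) :
    μ (F.n i) * O.σ (μ i) = 1 := by
  have := B_U d (F.e (F.n i)) (F.e i)
  simp only [h.lin, map_smulₛₗ, LinearMap.smul_apply, smul_eq_mul, B_n, RingHom.id_apply] at this
  exact mul_right_cancel₀ (F.ε_ne i) (by linear_combination this)

theorem Dg.commute [Finite I] {d d' : O.U} {μ μ' : I → K} {μ₀ μ₀' : K} (h : F.Dg d μ μ₀)
    (h' : F.Dg d' μ' μ₀') : Commute d d' :=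
  Frame.ext (F := F) (fun i => by simp only [mul_smul, h.lin, h'.lin, U_smul, smul_comm (μ i)])
    fun u hu => by simp only [mul_smul, h.v0 u hu, h'.v0 u hu, U_smul, smul_comm μ₀]

/-- Diagonal elements acting without fixed points on the abelian quotient of a radical. -/
structure Good (F : Frame O I) (j : I) (d : O.U) (μ : I → K) (μ₀ : K) : Prop
    extends F.Dg d μ μ₀ where
  mem : d ∈ F.E
  ne' : ∀ i, F.D j i → O.σ (μ j) * μ i ≠ 1
  nm : ∀ i, F.D j i → μ i * O.σ (μ i) = 1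
  ne0 : O.σ (μ j) * μ₀ ≠ 1

theorem Good.fpf {j : I} {d : O.U} {μ : I → K} {μ₀ : K} (h : F.Good j d μ μ₀) {v : V}
    (hv : F.W j v) (e : O.σ (μ j) • d • v = v) : v = 0 := by
  have h1 : F.V0 v := fun i => by
    rcases cases3 (F := F) j i with rfl | rfl | hi
    exacts [hv.1, hv.2, by
      have h2 := congrArg (fun x => O.B x (F.e i)) e
      simp only [map_smul, LinearMap.smul_apply, B_U_left, inv_smul_of_line (h.ne i) (h.lin i),
        map_smulₛₗ, smul_eq_mul, map_inv₀, ← eq_inv_of_mul_eq_one_left (h.nm i hi)] at h2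
      exact (mul_eq_zero.mp (show (O.σ (μ j) * μ i - 1) * _ = 0 by linear_combination h2)
        ).resolve_left (sub_ne_zero.mpr (h.ne' i hi))]
  rw [h.v0 v h1, smul_smul, ← sub_eq_zero, ← one_smul K v, smul_smul, ← sub_smul, smul_eq_zero] at e
  exact e.resolve_left (by simpa [sub_eq_zero] using h.ne0)

theorem exists_good_torus (j : I) {α t : K} (h : O.Λ 0 α) (h0 : α ≠ 0) (ht : t ≠ 0) (ht1 : t ≠ 1)
    (h' : O.Λ 0 (t * α)) : ∃ d μ, F.Good j d μ 1 ∧ ∀ i, F.D j i → μ i = 1 := by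
  classical
  obtain ⟨d, hd, e1, e2, e3⟩ := exists_torus (F := F) j h h0 ht h'
  have n1 : O.σ t ≠ 1 := fun e => ht1 (by rw [← O.σσ t, e, map_one])
  have e4 : ∀ i, F.D j i → (if i = j then t else if i = F.n j then (O.σ t)⁻¹ else 1) = 1 :=
    fun i hi => by simp [hi.1, hi.2]
  refine ⟨d, fun i => if i = j then t else if i = F.n j then (O.σ t)⁻¹ else 1,
    ⟨⟨fun i => ?_, fun u hu => by simp [e3 u (hu.W j)]⟩, hd, fun i hi => ?_, fun i hi => ?_, ?_⟩, e4⟩
  · rcases cases3 (F := F) j i with rfl | rfl | hi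
    · simp [e1]
    · simp [e2, F.n_ne]
    · rw [e4 i hi, e3 _ hi.W, one_smul]
  · simpa [e4 i hi] using n1
  · simp [e4 i hi]
  · simpa using n1

end Frame

end Cfsg.Agent.H6
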