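import Cfsg.Agent.H3.PresFinal
import Cfsg.Agent.H6.StR1

/-! Tools for bounded presentations. -/

set_option autoImplicit false

open Subgroup

namespace Cfsg.Agent.H6

open H3

variable {G A : Type*} [Group G] [Group A]

theorem kerGen_reindex {ι κ : Type*} {f : ι → G} {m : ℕ} (h : KerGen f m) (e : κ ≃ ι) :
    KerGen (f ∘ e) m :=
  h.change_aux (f ∘ e) (fun i => FreeGroup.of (e.symm i)) (fun k => FreeGroup.of (e k))
    (fun i => by simp) (fun k => by simp) ∅ (fun k _ => by simp)

theorem hasPres_of_kerGen {ι : Type*} [Fintype ι] {f : ι → G} {m : ℕ} (h : KerGen f m)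
    (hf : closure (Set.range f) = ⊤) : HasPres G (Fintype.card ι) m :=
  ⟨f ∘ (Fintype.equivFin ι).symm, kerGen_reindex h _, by
    rwa [EquivLike.range_comp]⟩

theorem hasPres_of_equiv {H : Type*} [Group H] (e : G ≃* H) {k m : ℕ} (h : HasPres G k m) :
    HasPres H k m := by
  obtain ⟨f, h1, h2⟩ := h
  refine ⟨fun i => e.toMonoidHom (f i), (KerGen.of_hom _ e.injective).mpr h1, ?_⟩
  have := congrArg (Subgroup.map e.toMonoidHom) h2
  rwa [MonoidHom.map_closure, ← Set.range_comp, map_top_of_surjective _ e.surjective] at this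

theorem hasPres_succ {k m : ℕ} (h : HasPres G k m) : HasPres G (k + 1) (m + 1) := by
  obtain ⟨f, h1, h2⟩ := h
  have h3 : closure (Set.range (fun o : Option (Fin k) => o.elim 1 f)) = ⊤ := by
    rw [eq_top_iff, ← h2]
    apply Subgroup.closure_mono
    rintro _ ⟨i, rfl⟩
    exact ⟨some i, rfl⟩
  have := h1.change_aux (fun o : Option (Fin k) => o.elim 1 f) (fun i => FreeGroup.of (some i))
    (fun o => o.elim 1 FreeGroup.of) (fun i => by simp) (fun o => by cases o <;> simp) {none}
    (fun o ho => by cases o <;> simp_all)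
  simpa using hasPres_of_kerGen this h3

theorem hasPres_add {k m : ℕ} (h : HasPres G k m) (d : ℕ) : HasPres G (k + d) (m + d) := by
  induction d with
  | zero => exact h
  | succ d ih => exact hasPres_succ ih

theorem hasPres_le {k m k' m' : ℕ} (h : HasPres G k m) (hk : k ≤ k') (hm : m + k' ≤ m' + k) :
    HasPres G k' m' := by
  obtain ⟨d, rfl⟩ := Nat.exists_eq_add_of_le hk
  exact (hasPres_add h d).mono (by omega)

theorem hasPres_quot {H : Type*} [Group H] (π : G →* H) (hπ : Function.Surjective π) (z : G)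
    (hz : π.ker = normalClosure {z}) {k m : ℕ} (h : HasPres G k m) : HasPres H k (m + 1) := by
  classical
  obtain ⟨f, ⟨R, hR, hker⟩, h2⟩ := h
  obtain ⟨w, hw⟩ := exists_lift_eq (f := f) (g := z) (h2 ▸ mem_top _)
  have hs : Function.Surjective (FreeGroup.lift f) := by
    rw [← MonoidHom.range_eq_top, FreeGroup.range_lift_eq_closure, h2]
  refine ⟨fun i => π (f i), ⟨insert w R, (Finset.card_insert_le _ _).trans (by omega), ?_⟩, ?_⟩
  · apply le_antisymm
    · apply normalClosure_le_normal
      intro r hr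
      rw [SetLike.mem_coe, MonoidHom.mem_ker, ← map_lift]
      rcases Finset.mem_insert.mp hr with rfl | hr
      · rw [hw, ← MonoidHom.mem_ker, hz]; exact subset_normalClosure rfl
      · have : r ∈ (FreeGroup.lift f).ker := hker ▸ subset_normalClosure hr
        rw [this, map_one]
    · intro x hx
      rw [MonoidHom.mem_ker, ← map_lift, ← MonoidHom.mem_ker, hz, ← hw, ← Set.image_singleton,
        ← map_normalClosure _ _ hs] at hx
      obtain ⟨y, hy, hxy⟩ := hx
      have h1 : y⁻¹ * x ∈ normalClosure (R : Set (FreeGroup (Fin k))) := by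
        rw [hker, MonoidHom.mem_ker, map_mul, map_inv, hxy, inv_mul_cancel]
      have h3 := mul_mem (normalClosure_mono (by simp) hy :
        y ∈ normalClosure ((insert w R : Finset _) : Set (FreeGroup (Fin k))))
        (normalClosure_mono (by simp) h1)
      rwa [mul_inv_cancel_left] at h3
  · have := congrArg (Subgroup.map π) h2
    rwa [MonoidHom.map_closure, ← Set.range_comp, map_top_of_surjective _ hπ] at this

theorem hasPres_quot_center [IsCyclic (center G)] {k m : ℕ} (h : HasPres G k m) :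
    HasPres (G ⧸ center G) k (m + 1) := by
  obtain ⟨z, hz⟩ := IsCyclic.exists_generator (α := center G)
  refine hasPres_quot (QuotientGroup.mk' _) (QuotientGroup.mk'_surjective _) z.1 ?_ h
  rw [QuotientGroup.ker_mk']
  apply le_antisymm
  · intro g hg
    obtain ⟨k, hk⟩ := hz ⟨g, hg⟩
    have : g = z.1 ^ k := (congrArg Subtype.val hk).symm
    rw [this]
    exact Subgroup.zpow_mem _ (subset_normalClosure (Set.mem_singleton _)) _
  · exact normalClosure_le_normal (by rintro _ rfl; exact z.2)

theorem hasPres_two_of_gen {k m : ℕ} (h : HasPres G k m) {a b : G}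
    (hab : closure ({a, b} : Set G) = ⊤) : HasPres G 2 (m + 2) := by
  obtain ⟨f, h1, h2⟩ := h
  have h3 : closure (Set.range ![a, b]) = ⊤ := by rwa [range_pair]
  exact ⟨_, by simpa using h1.change ![a, b] (h2.trans h3.symm), h3⟩

theorem exists_hom_of_ker_le {F J : Type*} [Group F] [Group J] (f : F →* A)
    (hf : Function.Surjective f) (g : F →* J) (h : f.ker ≤ g.ker) :
    ∃ ι : A →* J, ∀ w, ι (f w) = g w :=
  ⟨f.liftOfSurjective hf ⟨g, h⟩, fun w => MonoidHom.liftOfRightInverse_comp_apply f _ _ ⟨g, h⟩ w⟩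

theorem lift_map_inl {ι κ J : Type*} [Group J] (a : ι → J) (y : κ → J) (r : FreeGroup ι) :
    FreeGroup.lift (Sum.elim a y) (FreeGroup.map Sum.inl r) = FreeGroup.lift a r := by
  rw [FreeGroup.map_eq_lift, map_lift]
  simp

theorem lift_sub {ι κ J : Type*} [Group J] {f : ι → A} {w : A → FreeGroup ι}
    (hw : ∀ a, FreeGroup.lift f (w a) = a) (φ : A →* J) (y : κ → J) (r : FreeGroup (A ⊕ κ)) :
    FreeGroup.lift (Sum.elim (fun i => φ (f i)) y) (FreeGroup.lift
      (Sum.elim (fun a => FreeGroup.map Sum.inl (w a)) fun i => FreeGroup.of (.inr i)) r) =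
      FreeGroup.lift (Sum.elim φ y) r := by
  rw [map_lift]
  congr 2
  ext (a | i)
  · simp only [Sum.elim_inl]
    rw [lift_map_inl, ← map_lift, hw]
  · simp

theorem closure_range_elim {ι κ J : Type*} [Group J] {f : ι → A}
    (h2 : closure (Set.range f) = ⊤) (φ : A →* J) (y : κ → J) :
    closure (Set.range (Sum.elim (fun i => φ (f i)) y)) = closure (Set.range φ ∪ Set.range y) := by
  rw [Set.Sum.elim_range, Subgroup.closure_union, Subgroup.closure_union]
  congr 1
  rw [← MonoidHom.coe_range, Subgroup.closure_eq, MonoidHom.range_eq_map, ← h2,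
    MonoidHom.map_closure, ← Set.range_comp]
  rfl

/-- Extending a presentation of `A` by new generators and relators. -/
theorem hasPres_ext {κ : Type} [Fintype κ] {k mA : ℕ} (hA : HasPres A k mA) (ψ : A →* G)
    (x : κ → G) (R : List (FreeGroup (A ⊕ κ)))
    (holds : ∀ r ∈ R, FreeGroup.lift (Sum.elim ψ x) r = 1)
    (gen : closure (Set.range ψ ∪ Set.range x) = ⊤)
    (univ : ∀ (J : Type) [Group J] (ι : A →* J) (y : κ → J) (π : J →* G),
      (∀ r ∈ R, FreeGroup.lift (Sum.elim ι y) r = 1) → (∀ a, π (ι a) = ψ a) →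
      (∀ i, π (y i) = x i) → closure (Set.range ι ∪ Set.range y) = ⊤ → Function.Injective π) :
    HasPres G (k + Fintype.card κ) (mA + R.length) := by
  classical
  obtain ⟨f, ⟨RA, hRA, hker⟩, h2⟩ := hA
  choose w hw using fun a : A => exists_lift_eq (f := f) (g := a) (h2 ▸ mem_top _)
  let sub : FreeGroup (A ⊕ κ) →* FreeGroup (Fin k ⊕ κ) :=
    FreeGroup.lift (Sum.elim (fun a => FreeGroup.map Sum.inl (w a)) fun i => FreeGroup.of (.inr i))
  let R' : Finset (FreeGroup (Fin k ⊕ κ)) :=
    RA.image (FreeGroup.map Sum.inl) ∪ (R.map sub).toFinset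
  let F : Fin k ⊕ κ → G := Sum.elim (fun i => ψ (f i)) x
  have hR' : ∀ r ∈ R', FreeGroup.lift F r = 1 := by
    intro r hr
    rcases Finset.mem_union.mp hr with hr | hr
    · obtain ⟨r', hr', rfl⟩ := Finset.mem_image.mp hr
      have : r' ∈ (FreeGroup.lift f).ker := hker ▸ subset_normalClosure hr'
      rw [lift_map_inl, ← map_lift, this, map_one]
    · obtain ⟨r', hr', rfl⟩ := List.mem_map.mp (List.mem_toFinset.mp hr)
      rw [lift_sub hw, holds r' hr']
  have key : KerGen F (mA + R.length) := by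
    refine ⟨R', (Finset.card_union_le _ _).trans (add_le_add (Finset.card_image_le.trans hRA)
      ((List.toFinset_card_le _).trans (by simp))),
      le_antisymm (normalClosure_le_normal fun r hr => hR' r hr) fun z hz => ?_⟩
    let J := PresentedGroup (R' : Set (FreeGroup (Fin k ⊕ κ)))
    let g : Fin k ⊕ κ → J := PresentedGroup.of
    have hs : Function.Surjective (FreeGroup.lift f) := by
      rw [← MonoidHom.range_eq_top, FreeGroup.range_lift_eq_closure, h2]
    have hg : ∀ r, FreeGroup.lift g r = PresentedGroup.mk _ r := fun r => by rw [lift_of_eq_mk]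
    have hg' : g = Sum.elim (fun i => g (.inl i)) fun i => g (.inr i) := by
      ext (i | i) <;> rfl
    obtain ⟨ι, hι⟩ := exists_hom_of_ker_le (FreeGroup.lift f) hs
      (FreeGroup.lift (fun i => g (.inl i))) (by
        rw [← hker]
        refine normalClosure_le_normal fun r hr => ?_
        have h0 : FreeGroup.map Sum.inl r ∈ R' := Finset.mem_union_left _
            (Finset.mem_image_of_mem (FreeGroup.map Sum.inl) (Finset.mem_coe.mp hr))
        have : PresentedGroup.mk (R' : Set (FreeGroup (Fin k ⊕ κ))) (FreeGroup.map Sum.inl r) = 1 :=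
          PresentedGroup.one_of_mem h0
        rwa [← hg, hg', lift_map_inl] at this)
    have hι' : ∀ i, ι (f i) = g (.inl i) := fun i => by simpa using hι (FreeGroup.of i)
    have hg'' : g = Sum.elim (fun i => ι (f i)) fun i => g (.inr i) := by
      rw [hg']; simp only [hι']; rfl
    let π : J →* G := PresentedGroup.toGroup hR'
    have hπ : ∀ i, π (g i) = F i := fun i => PresentedGroup.toGroup.of hR'
    have hinj := univ J ι (fun i => g (.inr i)) π (fun r hr => by
        rw [← lift_sub hw, ← hg'', hg]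
        exact PresentedGroup.one_of_mem
          (Finset.mem_union_right _ (List.mem_toFinset.mpr (List.mem_map_of_mem hr))))
      (fun a => by
        have : π.comp ι = ψ := MonoidHom.eq_of_eqOn_dense h2 (by
          rintro _ ⟨i, rfl⟩
          exact (congrArg π (hι' i)).trans (hπ _))
        exact DFunLike.congr_fun this a)
      (fun i => hπ _)
      (by rw [← closure_range_elim h2, ← hg'']; exact PresentedGroup.closure_range_of _)
    rw [← PresentedGroup.mk_eq_one_iff]
    apply hinj
    rw [map_one, ← hg, map_lift]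
    simp only [hπ]
    exact hz
  simpa using hasPres_of_kerGen key ((closure_range_elim h2 ψ x).trans gen)

theorem hasPres_unit : HasPres PUnit.{1} 0 0 :=
  ⟨Fin.elim0, ⟨∅, le_rfl, by
    have : Subsingleton (FreeGroup (Fin 0)) := inferInstance
    exact Subsingleton.elim _ _⟩, Subsingleton.elim _ _⟩

theorem exists_word_normalClosure {ι : Type*} {f : ι → G} (hf : closure (Set.range f) = ⊤)
    (S : Set ι) (hS : normalClosure (f '' S) = ⊤) (g : G) :
    ∃ w ∈ normalClosure (FreeGroup.of '' S), FreeGroup.lift f w = g := by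
  have hs : Function.Surjective (FreeGroup.lift f) := by
    rw [← MonoidHom.range_eq_top, FreeGroup.range_lift_eq_closure, hf]
  have : g ∈ (normalClosure (FreeGroup.of '' S)).map (FreeGroup.lift f) := by
    rw [map_normalClosure _ _ hs, Set.image_image]
    simp only [FreeGroup.lift_apply_of]
    rw [hS]; trivial
  exact this

theorem lift_mem_of_normalClosure {ι J : Type*} [Group J] (g : ι → J) {S : Set ι}
    {w : FreeGroup ι} (hw : w ∈ normalClosure (FreeGroup.of '' S)) {L : Subgroup J} [L.Normal]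
    (h : ∀ i ∈ S, g i ∈ L) : FreeGroup.lift g w ∈ L := by
  have : normalClosure (FreeGroup.of '' S) ≤ L.comap (FreeGroup.lift g) :=
    normalClosure_le_normal (by
      rintro _ ⟨i, hi, rfl⟩
      simpa using h i hi)
  exact this hw

theorem exists_orbit_fam {J Ω : Type*} [Group J] [MulAction A Ω] (ι : A →* J) (ω₀ : Ω) (u : J)
    (h : ∀ a, a • ω₀ = ω₀ → Commute (ι a) u) :
    ∃ f : Ω → J, ∀ a, f (a • ω₀) = ι a * u * (ι a)⁻¹ := by
  classical
  refine ⟨fun ω => if hω : ∃ a : A, a • ω₀ = ω then ι hω.choose * u * (ι hω.choose)⁻¹ else 1,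
    fun a => ?_⟩
  have hω : ∃ b : A, b • ω₀ = a • ω₀ := ⟨a, rfl⟩
  simp only [dif_pos hω]
  have := (h (a⁻¹ * hω.choose) (by rw [mul_smul, hω.choose_spec, inv_smul_smul])).eq
  rw [map_mul, map_inv] at this
  calc _ = ι a * ((ι a)⁻¹ * ι hω.choose * u) * (ι hω.choose)⁻¹ := by group
    _ = _ := by rw [this]; group

section poly

open Polynomial

variable {J K : Type*} [Group J] [Field K]

/-- The word `∏ (gⁱ u g⁻ⁱ) ^ cᵢ` of an integral polynomial. -/
def polyWord (P : ℤ[X]) (g u : J) : J :=
  ((List.range (P.natDegree + 1)).map fun i => (g ^ i * u * (g ^ i)⁻¹) ^ P.coeff i).prod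

theorem map_polyWord {J' : Type*} [Group J'] (φ : J →* J') (P : ℤ[X]) (g u : J) :
    φ (polyWord P g u) = polyWord P (φ g) (φ u) := by
  simp [polyWord, map_list_prod, Function.comp_def]

theorem add_fam_zsmul' {M : Type*} [AddCommGroup M] {x : M → J}
    (h : ∀ t u, x (t + u) = x t * x u) (n : ℤ) (t : M) : x (n • t) = x t ^ n :=
  congrArg Additive.toMul
    (map_zsmul (AddMonoidHom.mk' (fun t => Additive.ofMul (x t)) fun t u => congrArg _ (h t u)) n t)

theorem polyWord_eq {R : Type*} [CommRing R] [Algebra ℤ R] {x : R → J} (hx : ∀ t u, x (t + u) = x t * x u)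
    {g : J} {ζ : R} (hg : ∀ t, g * x t * g⁻¹ = x (ζ * t)) (P : ℤ[X]) (t : R) :
    polyWord P g (x t) = x (aeval ζ P * t) := by
  have h1 : ∀ i : ℕ, g ^ i * x t * (g ^ i)⁻¹ = x (ζ ^ i * t) := fun i => by
    induction i with
    | zero => simp
    | succ i ih => rw [pow_succ' ζ, mul_assoc ζ, ← hg, ← ih, pow_succ' g]; group
  have h0 : x 0 = 1 := by simpa using add_fam_zsmul' hx 0 0
  rw [aeval_eq_sum_range, polyWord]
  simp only [Algebra.smul_def, eq_intCast]
  generalize P.natDegree + 1 = n
  induction n with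
  | zero => simp [h0]
  | succ n ih =>
    rw [List.range_succ, List.map_append, List.prod_append, ih, Finset.sum_range_succ, add_mul, hx]
    simp [h1, ← add_fam_zsmul' hx, mul_assoc]

theorem exists_polyFam {g u : J} (hc : ∀ i : ℕ, Commute u (g ^ i * u * (g ^ i)⁻¹)) :
    ∃ x : ℤ[X] → J, (∀ s t, x (s + t) = x s * x t) ∧ x 1 = u ∧ ∀ t, g * x t * g⁻¹ = x (X * t) := by
  let y : ℕ → J := fun i => g ^ i * u * (g ^ i)⁻¹
  have hy : ∀ i j, Commute (y i) (y j) := by
    have : ∀ i d, Commute (y i) (y (i + d)) := fun i d => by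
      have := (hc d).map (MulAut.conj (g ^ i))
      simp only [MulAut.conj_apply] at this
      convert this using 1
      simp only [y, pow_add]; group
    intro i j
    rcases le_total i j with h | h
    · obtain ⟨d, rfl⟩ := Nat.exists_eq_add_of_le h; exact this _ _
    · obtain ⟨d, rfl⟩ := Nat.exists_eq_add_of_le h; exact (this _ _).symm
  let U := closure (Set.range y)
  letI : CommGroup U := closureCommGroupOfComm (by
    rintro _ ⟨i, rfl⟩ _ ⟨j, rfl⟩; exact hy i j)
  let E : ℤ[X] →ₗ[ℤ] Additive U := Polynomial.lsum fun i =>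
    LinearMap.toSpanSingleton ℤ _ (Additive.ofMul ⟨y i, subset_closure ⟨i, rfl⟩⟩)
  have hE : ∀ i c, ((Additive.toMul (E (monomial i c)) : U) : J) = y i ^ c := fun i c => by
    simp [E, Polynomial.lsum_apply, sum_monomial_index]
  refine ⟨fun P => (Additive.toMul (E P) : U), fun s t => by simp only [map_add]; rfl, ?_, fun t => ?_⟩
  · simpa [y] using hE 0 1
  · induction t using Polynomial.induction_on' with
    | add p q hp hq =>
      simp only [mul_add, map_add, toMul_add, Subgroup.coe_mul] at hp hq ⊢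
      rw [← hp, ← hq]; group
    | monomial i c =>
      simp only [X_mul_monomial, hE, ← conj_zpow]
      congr 1
      simp only [y, pow_succ']; group

theorem exists_int_minpoly [Finite K] (ζ : K) : ∃ m : ℤ[X], aeval ζ m = 0 ∧
    ∀ P : ℤ[X], aeval ζ P = 0 → ∃ a b : ℤ[X], P = a * (ringChar K : ℤ[X]) + b * m := by
  have hp : (ringChar K).Prime := CharP.char_is_prime K _
  have := Fact.mk hp
  letI := ZMod.algebra K (ringChar K)
  have hs : Function.Surjective (Polynomial.map (Int.castRingHom (ZMod (ringChar K)))) :=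
    Polynomial.map_surjective _ (ZMod.ringHom_surjective _)
  have hev : ∀ P : ℤ[X], aeval ζ (P.map (Int.castRingHom (ZMod (ringChar K)))) = aeval ζ P :=
    fun P => by
      rw [aeval_def, eval₂_map, aeval_def]
      congr 1
      exact RingHom.ext_int _ _
  obtain ⟨m, hm⟩ := hs (minpoly (ZMod (ringChar K)) ζ)
  refine ⟨m, by rw [← hev, hm, minpoly.aeval], fun P hP => ?_⟩
  obtain ⟨b', hb'⟩ := minpoly.dvd (ZMod (ringChar K)) ζ ((hev P).trans hP)
  obtain ⟨b, rfl⟩ := hs b'
  have h1 : (P - m * b).map (Int.castRingHom (ZMod (ringChar K))) = 0 := by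
    rw [Polynomial.map_sub, Polynomial.map_mul, hm, hb', sub_self]
  have h2 : C (ringChar K : ℤ) ∣ P - m * b := by
    rw [C_dvd_iff_dvd_coeff]
    intro i
    have := congrArg (fun Q => coeff Q i) h1
    simp only [coeff_map, coeff_zero, eq_intCast] at this
    exact (ZMod.intCast_zmod_eq_zero_iff_dvd _ _).mp this
  obtain ⟨a, ha⟩ := h2
  refine ⟨a, b, ?_⟩
  rw [map_natCast] at ha
  linear_combination ha

theorem exists_addFam {g u : J} (hc : ∀ i : ℕ, Commute u (g ^ i * u * (g ^ i)⁻¹)) {ζ : K}
    (hζ : Function.Surjective (aeval ζ : ℤ[X] → K)) {m : ℤ[X]}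
    (hm : ∀ P : ℤ[X], aeval ζ P = 0 → ∃ a b : ℤ[X], P = a * (ringChar K : ℤ[X]) + b * m)
    (hp : u ^ ringChar K = 1) (hw : polyWord m g u = 1) :
    ∃ x : K → J, (∀ s t, x (s + t) = x s * x t) ∧ x 1 = u ∧ ∀ t, g * x t * g⁻¹ = x (ζ * t) := by
  obtain ⟨x, hx, h1, hg⟩ := exists_polyFam hc
  have h0 : x 0 = 1 := by simpa using add_fam_zsmul' hx 0 0
  have haX : ∀ a : ℤ[X], aeval (X : ℤ[X]) a = a := fun a => by
    induction a using Polynomial.induction_on' with
    | add p q hp hq => rw [map_add, hp, hq]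
    | monomial i c => rw [aeval_monomial, ← C_mul_X_pow_eq_monomial]; simp
  have hI : ∀ P, x P = 1 → ∀ a, x (a * P) = 1 := fun P hP a => by
    rw [← haX a, ← polyWord_eq hx hg, hP]
    simp [polyWord]
  have hk : ∀ P : ℤ[X], aeval ζ P = 0 → x P = 1 := fun P hP => by
    obtain ⟨a, b, rfl⟩ := hm P hP
    rw [hx, hI, hI, one_mul]
    · rw [← h1, polyWord_eq hx hg, mul_one, haX] at hw
      exact hw
    · rw [← h1, ← zpow_natCast, ← add_fam_zsmul' hx] at hp
      simpa using hp
  have hwd : ∀ P Q : ℤ[X], aeval ζ P = aeval ζ Q → x P = x Q := fun P Q h => by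
    rw [show P = (P - Q) + Q by ring, hx, hk _ (by rw [map_sub, h, sub_self]), one_mul]
  have hs := Function.surjInv_eq hζ
  refine ⟨fun t => x (Function.surjInv hζ t), fun s t => ?_, ?_, fun t => ?_⟩
  · rw [← hx]; exact hwd _ _ (by rw [map_add, hs, hs, hs])
  · rw [← h1]; exact hwd _ _ (by rw [hs, map_one])
  · rw [hg]; exact hwd _ _ (by rw [map_mul, hs, hs, aeval_X])

theorem span_induction_of_surj {ζ : K} (hζ : Function.Surjective (aeval ζ : ℤ[X] → K))
    (A : AddSubgroup K) (h1 : (1 : K) ∈ A) (hm : ∀ t ∈ A, ζ * t ∈ A) (t : K) : t ∈ A := by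
  obtain ⟨P, rfl⟩ := hζ t
  induction P using Polynomial.induction_on' with
  | add p q hp hq => rw [map_add]; exact A.add_mem hp hq
  | monomial i c =>
    rw [aeval_monomial, algebraMap_int_eq, eq_intCast, ← zsmul_eq_mul]
    refine A.zsmul_mem ?_ _
    induction i with
    | zero => simpa using h1
    | succ i ih => rw [pow_succ']; exact hm _ ih

end poly

end Cfsg.Agent.H6
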